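import Mathlib.Algebra.MonoidAlgebra.MapDomain
import Mathlib.Algebra.MonoidAlgebra.Basic
import Mathlib.GroupTheory.Complement
import Mathlib.RingTheory.Flat.FaithfullyFlat.Basic
import Mathlib.RingTheory.RingHom.FaithfullyFlat

/-!
# The group algebra of a group is free over the group algebra of a subgroup
-/

set_option autoImplicit false

namespace K7.GrpAlgFree

variable {R : Type*} [CommRing R] {N M : Type*} [CommGroup N] [CommGroup M] (φ : N →* M)

/-- `R[M]` is free over `R[N]` for an injective homomorphism `N → M`. -/
theorem free_of_injective (hφ : Function.Injective φ) :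
    letI := (MonoidAlgebra.mapDomainRingHom R φ).toAlgebra
    Module.Free (MonoidAlgebra R N) (MonoidAlgebra R M) := by
  classical
  let _ := (MonoidAlgebra.mapDomainRingHom R φ).toAlgebra
  obtain ⟨T, hT, -⟩ := Subgroup.exists_isComplement_right φ.range 1
  let v : T → MonoidAlgebra R M := fun t => MonoidAlgebra.single t.1 1
  have hsm : ∀ (y : MonoidAlgebra R N) (t : T), y • v t = MonoidAlgebra.mapDomain φ y * MonoidAlgebra.single t.1 1 :=
    fun _ _ => rfl
  have hco : ∀ (x : T →₀ MonoidAlgebra R N) (n : N) (t₀ : T),
      (Finsupp.linearCombination (MonoidAlgebra R N) v x).coeff (φ n * t₀.1) = (x t₀).coeff n := by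
    intro x n t₀
    rw [Finsupp.linearCombination_apply, MonoidAlgebra.coeff_finsuppSum, Finsupp.sum, Finsupp.finsetSum_apply]
    rw [Finset.sum_eq_single t₀]
    · rw [hsm, MonoidAlgebra.coeff_mul_single_mul, _root_.mul_one]
      exact Finsupp.mapDomain_apply hφ _ _
    · intro t ht htt
      rw [hsm, MonoidAlgebra.coeff_mul_single_apply, _root_.mul_one]
      refine Finsupp.mapDomain_of_notMem_range _ _ ?_
      rintro ⟨n', hn'⟩
      apply htt
      obtain ⟨p, hp, huniq⟩ := Subgroup.IsComplement.existsUnique hT (φ n * t₀.1)
      have h1 := huniq (⟨φ n, ⟨n, rfl⟩⟩, t₀) rfl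
      have h2 := huniq (⟨φ n', ⟨n', rfl⟩⟩, t) (by
        change φ n' * t.1 = φ n * t₀.1
        rw [hn', inv_mul_cancel_right])
      exact congr($(h2.trans h1.symm).2)
    · intro ht
      rw [Finsupp.notMem_support_iff] at ht
      rw [ht, zero_smul]
      rfl
  have hinj : Function.Injective (Finsupp.linearCombination (MonoidAlgebra R N) v) := by
    rw [injective_iff_map_eq_zero]
    intro x hx
    ext t n
    rw [← hco x n t, hx]
    rfl
  have hsurj : Function.Surjective (Finsupp.linearCombination (MonoidAlgebra R N) v) := by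
    rw [← LinearMap.range_eq_top, eq_top_iff]
    rintro y -
    induction y using MonoidAlgebra.induction_linear with
    | zero => exact zero_mem _
    | add a b ha hb => exact add_mem ha hb
    | single m r =>
      obtain ⟨⟨⟨a, n, rfl⟩, t⟩, hp, -⟩ := Subgroup.IsComplement.existsUnique hT m
      refine ⟨Finsupp.single t (MonoidAlgebra.single n r), ?_⟩
      rw [Finsupp.linearCombination_single, hsm, MonoidAlgebra.mapDomain_single, MonoidAlgebra.single_mul_single,
        _root_.mul_one]
      congr 1
  exact Module.Free.of_basis ⟨(LinearEquiv.ofBijective _ ⟨hinj, hsurj⟩).symm⟩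

/-- `R[N] → R[M]` is faithfully flat for an injective homomorphism `N → M`. -/
theorem faithfullyFlat_of_injective [Nontrivial R] (hφ : Function.Injective φ) :
    (MonoidAlgebra.mapDomainRingHom R φ).FaithfullyFlat := by
  let _ := (MonoidAlgebra.mapDomainRingHom R φ).toAlgebra
  have := free_of_injective (R := R) φ hφ
  exact (inferInstance : Module.FaithfullyFlat (MonoidAlgebra R N) (MonoidAlgebra R M))

end K7.GrpAlgFree
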