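import Groth.Agent.SGA3x.K7.Loc
import Groth.Agent.SGA3x.K7.GrpAlgFree
import Groth.Agent.Sga3B.DSRigid
import Mathlib.AlgebraicGeometry.Morphisms.Flat

/-!
# The homomorphism `D(φ) : D(M) ⟶ D(N)` attached to `φ : N →+ M`

* `D(φ)` is a monomorphism / faithfully flat / an isomorphism iff `φ` is surjective / injective / bijective
  (over a non-empty affine base for the direct implications).
-/

set_option autoImplicit false
universe u
open CategoryTheory MonoidalCategory CartesianMonoidalCategory MonObj GrpObj AlgebraicGeometry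

namespace K7.DSProp

open Groth.Agent.Sga3B Groth.Agent.Sga3B.DSPts Groth.Agent.Sga3B.InfConj Groth.Agent.Sga3B.DSRigid

variable {L M N : Type} [AddCommGroup L] [AddCommGroup M] [AddCommGroup N]

lemma hom_ext {S : Scheme.{u}} {f g : Red.DS S M ⟶ Red.DS S N}
    (h : ∀ (T : Over S) (x : T ⟶ Red.DS S M), dsChar (x ≫ f) = dsChar (x ≫ g)) : f = g := by
  apply (dsEquiv _ N).symm.injective
  have := h _ (𝟙 _)
  rwa [Category.id_comp, Category.id_comp] at this

lemma DSmap_id (S : Scheme.{u}) : Red.DSmap S (AddMonoidHom.id M) = 𝟙 _ :=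
  hom_ext fun T x => by rw [dsChar_DSmap, Category.comp_id]; rfl

lemma DSmap_comp (S : Scheme.{u}) (φ : L →+ M) (ψ : M →+ N) :
    Red.DSmap S ψ ≫ Red.DSmap S φ = Red.DSmap S (ψ.comp φ) :=
  hom_ext fun T x => by rw [← Category.assoc, dsChar_DSmap, dsChar_DSmap, dsChar_DSmap]; rfl

lemma DSmap_injective {R : Type u} [CommRing R] [Nontrivial R] {φ φ' : N →+ M}
    (h : Red.DSmap (Spec (.of R)) φ = Red.DSmap (Spec (.of R)) φ') : φ = φ' := by
  have h0 : ∀ φ : N →+ M, univPt R M ≫ Red.DSmap (Spec (.of R)) φ =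
      charPt (C := R) ((MonoidAlgebra.of R (Multiplicative M)).comp (AddMonoidHom.toMultiplicative φ)) := by
    intro φ
    rw [univPt, charPt, dsEquiv_DSmap]
    rfl
  have h1 : univPt R M ≫ Red.DSmap (Spec (.of R)) φ = univPt R M ≫ Red.DSmap (Spec (.of R)) φ' := by
    rw [h]
  rw [h0, h0] at h1
  have h2 := charPt_injective h1
  ext n
  have h3 := congr($h2 (Multiplicative.ofAdd n))
  have h4 : Function.Injective (MonoidAlgebra.of R (Multiplicative M)) := MonoidAlgebra.of_injective
  exact h4 h3

/-- `D(φ)` is a monomorphism for `φ` surjective. -/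
lemma mono_DSmap (S : Scheme.{u}) (φ : N →+ M) (hφ : Function.Surjective φ) : Mono (Red.DSmap S φ) where
  right_cancellation {T} a b h := by
    apply (dsEquiv T M).symm.injective
    change dsChar a = dsChar b
    have h1 : dsChar (a ≫ Red.DSmap S φ) = dsChar (b ≫ Red.DSmap S φ) := by rw [h]
    rw [dsChar_DSmap, dsChar_DSmap] at h1
    ext m
    obtain ⟨n, hn⟩ := hφ m
    have h2 := congr($h1 (Multiplicative.ofAdd n))
    subst hn
    exact h2

lemma mono_DSmap_left (S : Scheme.{u}) (φ : N →+ M) (hφ : Function.Surjective φ) : Mono (Red.DSmap S φ).left := by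
  have := mono_DSmap S φ hφ
  infer_instance

/-- `D(φ)` is an isomorphism for `φ` bijective. -/
lemma isIso_DSmap (S : Scheme.{u}) (φ : N →+ M) (hφ : Function.Bijective φ) : IsIso (Red.DSmap S φ) := by
  let e : N ≃+ M := AddEquiv.ofBijective φ hφ
  have he : φ = e.toAddMonoidHom := rfl
  rw [he]
  refine ⟨Red.DSmap S e.symm.toAddMonoidHom, ?_, ?_⟩
  · rw [DSmap_comp, ← DSmap_id]
    congr 1
    ext x
    exact e.apply_symm_apply x
  · rw [DSmap_comp, ← DSmap_id]
    congr 1
    ext x
    exact e.symm_apply_apply x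

lemma isIso_DSmap_left (S : Scheme.{u}) (φ : N →+ M) (hφ : Function.Bijective φ) : IsIso (Red.DSmap S φ).left := by
  have := isIso_DSmap S φ hφ
  exact inferInstanceAs (IsIso ((Over.forget _).map (Red.DSmap S φ)))

/-- `D(φ)` is flat and surjective for `φ` injective. -/
lemma flat_surjective_DSmap (S : Scheme.{u}) (φ : N →+ M) (hφ : Function.Injective φ) :
    Flat (Red.DSmap S φ).left ∧ Surjective (Red.DSmap S φ).left := by
  have h1 : (MonoidAlgebra.mapDomainRingHom (ULift.{u} ℤ) (AddMonoidHom.toMultiplicative φ)).FaithfullyFlat :=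
    GrpAlgFree.faithfullyFlat_of_injective _ hφ
  have h2 := flat_and_surjective_SpecMap_iff (f := CommRingCat.ofHom
    (MonoidAlgebra.mapDomainRingHom (ULift.{u} ℤ) (AddMonoidHom.toMultiplicative φ)))
  have h3 := h2.mpr h1
  have h4 := Loc.isPullback_map (Limits.IsTerminal.from specULiftZIsTerminal S) (Red.diagMap (ULift.{u} ℤ) φ)
  exact ⟨MorphismProperty.of_isPullback (P := @Flat) h4 h3.1,
    MorphismProperty.of_isPullback (P := @Surjective) h4 h3.2⟩

section converse

variable {R : Type u} [CommRing R] [Nontrivial R]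

lemma surjective_of_mono (φ : N →+ M) (h : Mono (Red.DSmap (Spec (.of R)) φ).left) : Function.Surjective φ := by
  have : Mono (Red.DSmap (Spec (.of R)) φ) := Over.mono_of_mono_left _
  let q : M →+ M ⧸ φ.range := QuotientAddGroup.mk' φ.range
  have h1 : Red.DSmap (Spec (.of R)) q = Red.DSmap (Spec (.of R)) 0 := by
    rw [← cancel_mono (Red.DSmap (Spec (.of R)) φ), DSmap_comp, DSmap_comp]
    congr 1
    ext n
    exact (QuotientAddGroup.eq_zero_iff _).mpr ⟨n, rfl⟩
  have h2 := DSmap_injective h1
  intro m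
  have h3 : q m = 0 := by rw [h2]; rfl
  exact (QuotientAddGroup.eq_zero_iff _).mp h3

lemma injective_of_epi (φ : N →+ M) (h : Epi (Red.DSmap (Spec (.of R)) φ).left) : Function.Injective φ := by
  have : Epi (Red.DSmap (Spec (.of R)) φ) := Over.epi_of_epi_left _
  rw [injective_iff_map_eq_zero]
  intro n hn
  have h1 : Red.DSmap (Spec (.of R)) (zmultiplesHom N n) = Red.DSmap (Spec (.of R)) 0 := by
    rw [← cancel_epi (Red.DSmap (Spec (.of R)) φ), DSmap_comp, DSmap_comp]
    congr 1
    ext
    simpa using hn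
  have h2 := DSmap_injective h1
  have h3 := congr($h2 1)
  simpa using h3

lemma injective_of_flat_surjective (φ : N →+ M) (h : Flat (Red.DSmap (Spec (.of R)) φ).left)
    (h' : Surjective (Red.DSmap (Spec (.of R)) φ).left) : Function.Injective φ :=
  injective_of_epi (R := R) φ (Flat.epi_of_flat_of_surjective _)

lemma bijective_of_isIso (φ : N →+ M) (h : IsIso (Red.DSmap (Spec (.of R)) φ).left) : Function.Bijective φ :=
  ⟨injective_of_epi (R := R) φ inferInstance, surjective_of_mono (R := R) φ inferInstance⟩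

end converse

end K7.DSProp
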