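import Groth.Agent.SGA3x.K7.FamGen

/-!
# Lifting of conjugating elements

`exists_conj_lift_of_nilpotent`: homomorphisms from a linearly reductive affine group to a smooth group scheme which are
conjugate modulo a nilpotent ideal are conjugate, by a lift of the given conjugating element.
-/

set_option autoImplicit false
universe u
open CategoryTheory MonoidalCategory CartesianMonoidalCategory MonObj AlgebraicGeometry Limits
open scoped TensorProduct

namespace K7.ConjLift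
open Groth.Agent.Sga3B Groth.Agent.Sga3B.InfConj Groth.Agent.Sga3.H802.HaarPts Groth.Agent.Sga3.H802.HaarHom
open Groth.Agent.Sga3.H802.HomFam
open Groth.Agent.Books.AffBridge Groth.Agent.Sga3B.AffPts
open Groth.Agent.Sga3B.HaarDef hiding exists_conj_abstract exists_hom_abstract

local notation "cst" => Groth.Agent.Sga3B.HaarDef.«ι»

variable {R : Type u} [CommRing R] {D : Type u} [CommRing D] [Bialgebra R D]
variable {G : Over (Spec (CommRingCat.of R))} [GrpObj G]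

section
variable {X Y : Type u} [CommRing X] [Algebra R X] [CommRing Y] [Algebra R Y]

/-- Conjugates of homomorphisms are homomorphisms. -/
lemma isHomPt_conj {F : pt R (D ⊗[R] X) ⟶ G} (hF : IsHomPt F) (g : pt R X ⟶ G) :
    IsHomPt ((ptMap (cst R D X) ≫ g) * F * (ptMap (cst R D X) ≫ g)⁻¹) := by
  have e1 : ptMap (T D (cst R D X)) ≫ ptMap (cst R D X) ≫ g = ptMap ((cst R D (D ⊗[R] X)).comp (cst R D X)) ≫ g := by
    rw [← Category.assoc, ptMap_comp, T_comp_ι]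
  have e2 : ptMap (cst R D (D ⊗[R] X)) ≫ ptMap (cst R D X) ≫ g =
      ptMap ((cst R D (D ⊗[R] X)).comp (cst R D X)) ≫ g := by
    rw [← Category.assoc, ptMap_comp]
  have e3 : ptMap (δ R D X) ≫ ptMap (cst R D X) ≫ g = ptMap ((cst R D (D ⊗[R] X)).comp (cst R D X)) ≫ g := by
    rw [← Category.assoc, ptMap_comp, δ_comp_ι]
  unfold IsHomPt at hF ⊢
  simp only [MonObj.comp_mul, GrpObj.comp_inv, e1, e2, e3]
  rw [← hF]
  group

/-- Square zero case. -/
theorem exists_conj_lift_sq [Smooth G.hom] (ν : Haar R D) {π : X →ₐ[R] Y} (hπ : Function.Surjective π)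
    (hK : (RingHom.ker π) ^ 2 = ⊥) {F F' : pt R (D ⊗[R] X) ⟶ G} (hF : IsHomPt F) (hF' : IsHomPt F')
    (g₀ : pt R Y ⟶ G)
    (h : ptMap (T D π) ≫ F' = (ptMap (cst R D Y) ≫ g₀) * (ptMap (T D π) ≫ F) * (ptMap (cst R D Y) ≫ g₀)⁻¹) :
    ∃ g : pt R X ⟶ G, ptMap π ≫ g = g₀ ∧
      F' = (ptMap (cst R D X) ≫ g) * F * (ptMap (cst R D X) ≫ g)⁻¹ := by
  obtain ⟨g₁, hg₁⟩ := HaarGen.exists_lift_pt_sq π hπ hK g₀
  have e : ptMap (T D π) ≫ ptMap (cst R D X) ≫ g₁ = ptMap (cst R D Y) ≫ g₀ := by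
    rw [← hg₁, ← Category.assoc, ← Category.assoc, ptMap_comp, ptMap_comp, T_comp_ι]
  obtain ⟨g₂, hg₂, hg₂'⟩ := HaarGen.exists_conj ν hπ hK (isHomPt_conj hF g₁) hF' (by
    rw [h, MonObj.comp_mul, MonObj.comp_mul, GrpObj.comp_inv, e])
  refine ⟨g₂ * g₁, ?_, ?_⟩
  · rw [MonObj.comp_mul, hg₂, hg₁, _root_.one_mul]
  · rw [hg₂', MonObj.comp_mul]
    group

end

lemma exists_conj_lift_of_pow [Smooth G.hom] (ν : Haar R D) (n : ℕ) :
    ∀ {X Y : Type u} [CommRing X] [Algebra R X] [CommRing Y] [Algebra R Y] {π : X →ₐ[R] Y}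
    (_ : Function.Surjective π) (_ : (RingHom.ker π) ^ (n + 1) = ⊥) {F F' : pt R (D ⊗[R] X) ⟶ G}
    (_ : IsHomPt F) (_ : IsHomPt F') (g₀ : pt R Y ⟶ G)
    (_ : ptMap (T D π) ≫ F' = (ptMap (cst R D Y) ≫ g₀) * (ptMap (T D π) ≫ F) * (ptMap (cst R D Y) ≫ g₀)⁻¹),
    ∃ g : pt R X ⟶ G, ptMap π ≫ g = g₀ ∧ F' = (ptMap (cst R D X) ≫ g) * F * (ptMap (cst R D X) ≫ g)⁻¹ := by
  induction n with
  | zero =>
    intro X Y _ _ _ _ π hπ hK F F' hF hF' g₀ h
    rw [zero_add, pow_one] at hK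
    exact exists_conj_lift_sq ν hπ (by rw [hK, pow_two, Ideal.mul_bot]) hF hF' g₀ h
  | succ n ih =>
    intro X Y _ _ _ _ π hπ hK F F' hF hF' g₀ h
    let K := RingHom.ker π
    let X₁ := X ⧸ K ^ (n + 1)
    let π₁ : X →ₐ[R] X₁ := Ideal.Quotient.mkₐ R (K ^ (n + 1))
    have hπ₁ : Function.Surjective π₁ := Ideal.Quotient.mkₐ_surjective R _
    have hle : K ^ (n + 1) ≤ K := Ideal.pow_le_self (Nat.succ_ne_zero n)
    let π₂ : X₁ →ₐ[R] Y := Ideal.Quotient.liftₐ (K ^ (n + 1)) π (fun a ha => hle ha)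
    have hπ₂ : Function.Surjective π₂ := by
      intro y
      obtain ⟨x, rfl⟩ := hπ y
      exact ⟨π₁ x, rfl⟩
    have hc : π₂.comp π₁ = π := by
      ext x; rfl
    have hker2 : RingHom.ker π₂ = K.map (Ideal.Quotient.mk (K ^ (n + 1))) := by
      ext x
      obtain ⟨x, rfl⟩ := Ideal.Quotient.mk_surjective x
      rw [RingHom.mem_ker, Ideal.mem_map_iff_of_surjective _ Ideal.Quotient.mk_surjective]
      constructor
      · intro h
        exact ⟨x, h, rfl⟩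
      · rintro ⟨y, hy, hxy⟩
        rw [← hxy]
        exact hy
    have hK2 : (RingHom.ker π₂) ^ (n + 1) = ⊥ := by
      rw [hker2, ← Ideal.map_pow, Ideal.map_quotient_self]
    have hker1 : RingHom.ker π₁ = K ^ (n + 1) := by
      ext x
      rw [RingHom.mem_ker]
      exact Ideal.Quotient.eq_zero_iff_mem
    have hK1 : (RingHom.ker π₁) ^ 2 = ⊥ := by
      rw [hker1, ← pow_mul, eq_bot_iff, ← hK]
      exact Ideal.pow_le_pow_right (by omega)
    have e : ∀ F : pt R (D ⊗[R] X) ⟶ G, ptMap (T D π₂) ≫ ptMap (T D π₁) ≫ F = ptMap (T D π) ≫ F := by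
      intro F
      rw [← Category.assoc, ptMap_comp, T_comp, hc]
    obtain ⟨g₁, hg₁, hg₁'⟩ := ih hπ₂ hK2 (hF.map π₁) (hF'.map π₁) g₀ (by rw [e, e, h])
    obtain ⟨g, hg, hg'⟩ := exists_conj_lift_sq ν hπ₁ hK1 hF hF' g₁ hg₁'
    exact ⟨g, by rw [← hc, ← ptMap_comp, Category.assoc, hg, hg₁], hg'⟩

/-- Homomorphisms from a linearly reductive affine group to a smooth group scheme which are conjugate modulo a nilpotent
ideal are conjugate, by a lift of the given element. -/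
theorem exists_conj_lift_of_nilpotent [Smooth G.hom] (ν : Haar R D)
    {X Y : Type u} [CommRing X] [Algebra R X] [CommRing Y] [Algebra R Y] {π : X →ₐ[R] Y}
    (hπ : Function.Surjective π) (hK : IsNilpotent (RingHom.ker π)) {F F' : pt R (D ⊗[R] X) ⟶ G}
    (hF : IsHomPt F) (hF' : IsHomPt F') (g₀ : pt R Y ⟶ G)
    (h : ptMap (T D π) ≫ F' = (ptMap (cst R D Y) ≫ g₀) * (ptMap (T D π) ≫ F) * (ptMap (cst R D Y) ≫ g₀)⁻¹) :
    ∃ g : pt R X ⟶ G, ptMap π ≫ g = g₀ ∧ F' = (ptMap (cst R D X) ≫ g) * F * (ptMap (cst R D X) ≫ g)⁻¹ := by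
  obtain ⟨n, hn⟩ := hK
  exact exists_conj_lift_of_pow ν n hπ (by rw [pow_succ, hn]; exact Ideal.bot_mul _) hF hF' g₀ h

section family

variable {X Y : Type u} [CommRing X] [Algebra R X] [CommRing Y] [Algebra R Y]
variable {E : Over (Spec (CommRingCat.of R))} [GrpObj E] (e : E ≅ pt R D) (he : IsModel e)

include he in
/-- Family form. -/
theorem exists_conj_lift_family [Smooth G.hom] (ν : Haar R D) {π : X →ₐ[R] Y} (hπ : Function.Surjective π)
    (hK : IsNilpotent (RingHom.ker π)) {a b : E ⊗ pt R X ⟶ G} (ha : AutFam.IsHomFamily E G a)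
    (hb : AutFam.IsHomFamily E G b) (g₀ : pt R Y ⟶ G)
    (hab : (E ◁ ptMap π) ≫ b = (snd E (pt R Y) ≫ g₀) * ((E ◁ ptMap π) ≫ a) * (snd E (pt R Y) ≫ g₀)⁻¹) :
    ∃ g : pt R X ⟶ G, ptMap π ≫ g = g₀ ∧
      ∀ (W : Over (Spec (CommRingCat.of R))) (t : W ⟶ E) (s : W ⟶ pt R X),
        lift t s ≫ b = (s ≫ g) * (lift t s ≫ a) * (s ≫ g)⁻¹ := by
  have h1 : ∀ f : pt R Y ⟶ G, toPt e (snd E (pt R Y) ≫ f) = ptMap (cst R D Y) ≫ f := by
    intro f
    rw [toPt, ← Category.assoc, lift_snd]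
    rfl
  obtain ⟨g, hg, hg'⟩ := exists_conj_lift_of_nilpotent ν hπ hK ((isHomPt_toPt_iff e he a).mpr ha)
    ((isHomPt_toPt_iff e he b).mpr hb) g₀ (by
      rw [← toPt_pull, ← toPt_pull, hab]
      have h2 := h1 g₀
      unfold toPt at h2 ⊢
      rw [MonObj.comp_mul, MonObj.comp_mul, GrpObj.comp_inv, h2])
  refine ⟨g, hg, fun W t s => ?_⟩
  have h := congrArg (fun z => pairPt (t ≫ e.hom) s ≫ z) hg'
  simp only [MonObj.comp_mul, GrpObj.comp_inv, pairPt_toPt, ← Category.assoc, pairPt_cst] at h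
  exact h

end family

end K7.ConjLift
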