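import Groth.Agent.SGA3x.K7.MTHaar
import Groth.Agent.SGA3x.K7.ConjLift

/-!
# Homomorphisms from a group of multiplicative type over an affine base

Forms of the vanishing theorems for homomorphisms `H ⟶ G` over `Spec R`, and their restrictions to `Spec R/J`.
-/

set_option autoImplicit false
universe u
open CategoryTheory MonoidalCategory CartesianMonoidalCategory MonObj GrpObj AlgebraicGeometry Limits
open scoped TensorProduct

namespace K7.ConjGlobal
open Groth.Agent.Sga3B Groth.Agent.Sga3B.InfConj Groth.Agent.Sga3.H802.HaarPts Groth.Agent.Sga3.H802.HaarHom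
open Groth.Agent.Sga3.H802.HomFam
open Groth.Agent.Books.AffBridge Groth.Agent.Sga3B.AffPts
open Groth.Agent.Sga3B.HaarDef hiding exists_conj_abstract exists_hom_abstract

variable {R : Type u} [CommRing R]

lemma specMap_algebraMap_self (R : Type u) [CommRing R] :
    Spec.map (CommRingCat.ofHom (algebraMap R R)) = 𝟙 (Spec (CommRingCat.of R)) :=
  Spec.map_id _

lemma isTerminalPt_aux (R : Type u) [CommRing R] : (Iso.refl (Spec (CommRingCat.of R))).hom ≫ (pt R R).hom =
    (Over.mk (𝟙 (Spec (CommRingCat.of R)))).hom := by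
  simp only [Iso.refl_hom, Over.mk_hom]
  rw [Category.id_comp]
  exact specMap_algebraMap_self R

/-- `Spec R` is the final `R`-scheme. -/
noncomputable def isTerminalPt (R : Type u) [CommRing R] : IsTerminal (pt R R) :=
  Over.mkIdTerminal.ofIso (Over.isoMk (Iso.refl (Spec (CommRingCat.of R))) (isTerminalPt_aux R))

/-- the base as a point of itself -/
noncomputable def topPt (R : Type u) [CommRing R] : 𝟙_ (Over (Spec (CommRingCat.of R))) ⟶ pt R R :=
  (isTerminalPt R).from _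

lemma pt_ext {W : Over (Spec (CommRingCat.of R))} (a b : W ⟶ pt R R) : a = b :=
  (isTerminalPt R).hom_ext _ _

variable {H G : Over (Spec (CommRingCat.of R))} [GrpObj H] [GrpObj G]

/-- the constant family of a homomorphism -/
lemma isHomFamily_fst (u : H ⟶ G) [IsMonHom u] (T : Over (Spec (CommRingCat.of R))) :
    AutFam.IsHomFamily H G (fst H T ≫ u) := by
  intro W t₁ t₂ s
  simp only [← Category.assoc, lift_fst]
  exact MonObj.mul_comp _ _ _

theorem exists_conj {J : Ideal R} (hJ : J ^ 2 = ⊥) (hH : MTHaar.IsMT H) (u v : H ⟶ G) [IsMonHom u] [IsMonHom v]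
    (h0 : ∀ (X : Over (Spec (CommRingCat.of R))) (_ : X ⟶ pt R (R ⧸ J)) (h : X ⟶ H), h ≫ u = h ≫ v) :
    ∃ g : 𝟙_ (Over (Spec (CommRingCat.of R))) ⟶ G, toUnit (pt R (R ⧸ J)) ≫ g = 1 ∧
      ∀ (X : Over (Spec (CommRingCat.of R))) (h : X ⟶ H), h ≫ v = (toUnit X ≫ g) * (h ≫ u) * (toUnit X ≫ g)⁻¹ := by
  obtain ⟨A, _, _, e, he, l, hl⟩ := MTHaar.exists_model hH
  obtain ⟨g, hg, hg'⟩ := FamGen.exists_conj_family (G := G) (X := R) (Y := R ⧸ J) (e : H ≅ pt R A)
    (isModel_of_isMonHom e) (IntDesc.haarOfIsInt hl) (π := Ideal.Quotient.mkₐ R J) (Ideal.Quotient.mkₐ_surjective R J)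
    (by rw [show RingHom.ker (Ideal.Quotient.mkₐ R J) = J from Ideal.mk_ker, hJ])
    (isHomFamily_fst u _) (isHomFamily_fst v _) (by
      rw [← Category.assoc, ← Category.assoc]
      exact h0 _ (snd _ _) _)
  refine ⟨topPt R ≫ g, ?_, fun X h => ?_⟩
  · rw [← hg, ← Category.assoc]
    exact congrArg (fun z : pt R (R ⧸ J) ⟶ pt R R => z ≫ g) (pt_ext _ _)
  · have := hg' X h (toUnit X ≫ topPt R)
    simp only [← Category.assoc, lift_fst] at this
    simp only [← Category.assoc]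
    exact this

theorem exists_conj_lift {J : Ideal R} (hJ : IsNilpotent J) (hH : MTHaar.IsMT H) (hG : Smooth G.hom)
    (u v : H ⟶ G) [IsMonHom u] [IsMonHom v] (g₀ : pt R (R ⧸ J) ⟶ G)
    (h0 : ∀ (X : Over (Spec (CommRingCat.of R))) (p : X ⟶ pt R (R ⧸ J)) (h : X ⟶ H),
      h ≫ v = (p ≫ g₀) * (h ≫ u) * (p ≫ g₀)⁻¹) :
    ∃ g : 𝟙_ (Over (Spec (CommRingCat.of R))) ⟶ G, toUnit (pt R (R ⧸ J)) ≫ g = g₀ ∧
      ∀ (X : Over (Spec (CommRingCat.of R))) (h : X ⟶ H), h ≫ v = (toUnit X ≫ g) * (h ≫ u) * (toUnit X ≫ g)⁻¹ := by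
  obtain ⟨A, _, _, e, he, l, hl⟩ := MTHaar.exists_model hH
  obtain ⟨g, hg, hg'⟩ := ConjLift.exists_conj_lift_family (G := G) (X := R) (Y := R ⧸ J) (e : H ≅ pt R A)
    (isModel_of_isMonHom e) (IntDesc.haarOfIsInt hl) (π := Ideal.Quotient.mkₐ R J) (Ideal.Quotient.mkₐ_surjective R J)
    (by rwa [show RingHom.ker (Ideal.Quotient.mkₐ R J) = J from Ideal.mk_ker])
    (isHomFamily_fst u _) (isHomFamily_fst v _) g₀ (by
      rw [← Category.assoc, ← Category.assoc]
      exact h0 _ (snd _ _) _)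
  refine ⟨topPt R ≫ g, ?_, fun X h => ?_⟩
  · rw [← hg, ← Category.assoc]
    exact congrArg (fun z : pt R (R ⧸ J) ⟶ pt R R => z ≫ g) (pt_ext _ _)
  · have := hg' X h (toUnit X ≫ topPt R)
    simp only [← Category.assoc, lift_fst] at this
    simp only [← Category.assoc]
    exact this

end K7.ConjGlobal
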