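import Groth.Agent.SGA3x.K7.HaarGen
import Groth.Agent.Sga3.H802.HomFam

/-!
# Families of homomorphisms out of a linearly reductive affine group, arbitrary target

The theorems of `Groth.Agent.Sga3.H802.HomFam` for an arbitrary group scheme `G` over `Spec R`.
-/

set_option autoImplicit false
universe u
open CategoryTheory MonoidalCategory CartesianMonoidalCategory MonObj AlgebraicGeometry Limits
open scoped TensorProduct

namespace K7.FamGen
open Groth.Agent.Sga3B Groth.Agent.Sga3B.InfConj Groth.Agent.Sga3.H802.HaarPts Groth.Agent.Sga3.H802.HaarHom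
open Groth.Agent.Sga3.H802.HomFam
open Groth.Agent.Books.AffBridge Groth.Agent.Sga3B.AffPts
open Groth.Agent.Sga3B.HaarDef hiding exists_conj_abstract exists_hom_abstract

variable {R : Type u} [CommRing R]

section main

variable {D X Y : Type u} [CommRing D] [Bialgebra R D] [CommRing X] [Algebra R X] [CommRing Y] [Algebra R Y]
variable {G : Over (Spec (CommRingCat.of R))} [GrpObj G]
variable {E : Over (Spec (CommRingCat.of R))} [GrpObj E] (e : E ≅ pt R D) (he : IsModel e)

include he in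
/-- Families of homomorphisms lift along nilpotent thickenings. -/
theorem exists_lift_family [Smooth G.hom] (ν : Haar R D) {π : X →ₐ[R] Y} (hπ : Function.Surjective π)
    (hK : IsNilpotent (RingHom.ker π)) {a₀ : E ⊗ pt R Y ⟶ G} (h₀ : AutFam.IsHomFamily E G a₀) :
    ∃ a : E ⊗ pt R X ⟶ G, AutFam.IsHomFamily E G a ∧ (E ◁ ptMap π) ≫ a = a₀ := by
  obtain ⟨F, hF, hF'⟩ := HaarGen.exists_lift_of_nilpotent ν hπ hK ((isHomPt_toPt_iff e he a₀).mpr h₀)
  refine ⟨famOf e F, (isHomFamily_famOf_iff e he F).mpr hF, toPt_injective e ?_⟩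
  rw [toPt_pull, toPt_famOf, hF']

include he in
/-- Families of homomorphisms which agree modulo a square-zero ideal are conjugate. -/
theorem exists_conj_family (ν : Haar R D) {π : X →ₐ[R] Y} (hπ : Function.Surjective π)
    (hK : (RingHom.ker π) ^ 2 = ⊥) {a b : E ⊗ pt R X ⟶ G} (ha : AutFam.IsHomFamily E G a)
    (hb : AutFam.IsHomFamily E G b) (hab : (E ◁ ptMap π) ≫ a = (E ◁ ptMap π) ≫ b) :
    ∃ g : pt R X ⟶ G, ptMap π ≫ g = 1 ∧
      ∀ (W : Over (Spec (CommRingCat.of R))) (t : W ⟶ E) (s : W ⟶ pt R X),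
        lift t s ≫ b = (s ≫ g) * (lift t s ≫ a) * (s ≫ g)⁻¹ := by
  obtain ⟨g, hg, hg'⟩ := HaarGen.exists_conj ν hπ hK ((isHomPt_toPt_iff e he a).mpr ha)
    ((isHomPt_toPt_iff e he b).mpr hb) (by rw [← toPt_pull, ← toPt_pull, hab])
  refine ⟨g, hg, fun W t s => ?_⟩
  have h := congrArg (fun z => pairPt (t ≫ e.hom) s ≫ z) hg'
  simp only [MonObj.comp_mul, GrpObj.comp_inv, pairPt_toPt, ← Category.assoc, pairPt_cst] at h
  exact h

include he in
/-- Rigidity for families. -/
theorem eq_one_family (ν : Haar R D) {π : X →ₐ[R] Y} (hπ : Function.Surjective π)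
    (hK : IsNilpotent (RingHom.ker π)) {a : E ⊗ pt R X ⟶ G} (ha : AutFam.IsHomFamily E G a)
    (h : (E ◁ ptMap π) ≫ a = 1) : a = 1 := by
  have h1 := HaarGen.eq_one_of_nilpotent ν hπ hK ((isHomPt_toPt_iff e he a).mpr ha) (by
    rw [← toPt_pull, h, toPt, MonObj.comp_one])
  rw [← famOf_toPt e a, h1, famOf, MonObj.comp_one]

end main

end K7.FamGen
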