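import Groth.Prelude.Def_TwC
import Mathlib.AlgebraicGeometry.Morphisms.Flat

/-!
# Finite affine refinements of fpqc coverings of an affine scheme
-/

set_option autoImplicit false
open CategoryTheory CategoryTheory.Limits AlgebraicGeometry
universe u

namespace K7.FinCover

/-- An fpqc-local property over `Spec R`, stable under open restriction, holds over the members of a finite family of
flat `R`-algebras whose spectra cover `Spec R`. -/
theorem exists_finite_cover {R : Type u} [CommRing R]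
    {P : ∀ (S' : Scheme.{u}), (S' ⟶ Spec (CommRingCat.of R)) → Prop}
    (hP : ∀ {T T' : Scheme.{u}} (g : T' ⟶ T) (f : T ⟶ Spec (CommRingCat.of R)), IsOpenImmersion g → P T f →
      P T' (g ≫ f))
    (h : TwC.Locally (Spec (CommRingCat.of R)) TwC.Topology.fpqc P) :
    ∃ (ι : Type) (_ : Fintype ι) (B : ι → Type u) (_ : ∀ i, CommRing (B i)) (_ : ∀ i, Algebra R (B i)),
      (∀ i, Module.Flat R (B i)) ∧
      (∀ p : PrimeSpectrum R, ∃ i, ∃ q : PrimeSpectrum (B i), PrimeSpectrum.comap (algebraMap R (B i)) q = p) ∧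
      ∀ i, P (Spec (CommRingCat.of (B i))) (Spec.map (CommRingCat.ofHom (algebraMap R (B i)))) := by
  obtain ⟨S', f, hf, hs, hc, h⟩ := h
  obtain ⟨W, hW, hWV⟩ := hc ⊤ (isAffineOpen_top _)
  have key : ∀ w : W, ∃ V : S'.Opens, w.1 ∈ V ∧ IsAffineOpen V ∧ P V (V.ι ≫ f) := by
    intro w
    obtain ⟨U, hU, hPU⟩ := h w.1
    obtain ⟨_, ⟨V, hV, rfl⟩, hwV, hVU⟩ := S'.isBasis_affineOpens.exists_subset_of_mem_open hU U.2
    refine ⟨V, hwV, hV, ?_⟩
    have hVU' : (V : S'.Opens) ≤ U := hVU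
    have h1 : S'.homOfLE hVU' ≫ U.ι = Scheme.Opens.ι V := S'.homOfLE_ι hVU'
    rw [← h1, Category.assoc]
    exact hP _ _ inferInstance hPU
  choose V hwV hV hPV using key
  obtain ⟨t, ht⟩ := hW.elim_finite_subcover (fun w : W => (V w : Set S')) (fun w => (V w).2)
    (fun x hx => Set.mem_iUnion.mpr ⟨⟨x, hx⟩, hwV ⟨x, hx⟩⟩)
  let φ : ∀ w : W, CommRingCat.of R ⟶ Γ(S', V w) := fun w => Spec.preimage ((hV w).fromSpec ≫ f)
  have hφ : ∀ w, Spec.map (φ w) = (hV w).fromSpec ≫ f := fun w => Spec.map_preimage _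
  let e : Fin t.card ≃ t := t.equivFin.symm
  refine ⟨Fin t.card, inferInstance, fun i => Γ(S', V (e i).1), fun i => inferInstance,
    fun i => (φ (e i).1).hom.toAlgebra, fun i => ?_, fun p => ?_, fun i => ?_⟩
  · have h1 : Flat (Spec.map (φ (e i).1)) := by
      rw [hφ]
      infer_instance
    rw [HasRingHomProperty.Spec_iff (P := @Flat)] at h1
    exact h1
  · obtain ⟨w, hw, hwp⟩ : (show Spec (CommRingCat.of R) from p) ∈ f.base '' (W : Set S') := by
      rw [hWV]; trivial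
    obtain ⟨v, hv, hwv⟩ := Set.mem_iUnion₂.mp (ht hw)
    refine ⟨e.symm ⟨v, hv⟩, ?_⟩
    have h2 : (e (e.symm ⟨v, hv⟩)).1 = v := by rw [Equiv.apply_symm_apply]
    have h3 : w ∈ Set.range (hV (e (e.symm ⟨v, hv⟩)).1).fromSpec := by
      rw [(hV _).range_fromSpec, h2]
      exact hwv
    obtain ⟨q, hq⟩ := h3
    refine ⟨q, ?_⟩
    have h4 : (Spec.map (φ (e (e.symm ⟨v, hv⟩)).1)) q = p := by
      rw [hφ, Scheme.Hom.comp_apply, hq]
      exact hwp
    exact h4
  · have h1 : Spec.map (φ (e i).1) = (hV (e i).1).isoSpec.inv ≫ (V (e i).1).ι ≫ f := by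
      rw [hφ, ← Category.assoc, IsAffineOpen.isoSpec_inv_ι]
    change P (Spec Γ(S', V (e i).1)) (Spec.map (φ (e i).1))
    rw [h1]
    exact hP _ _ inferInstance (hPV _)

end K7.FinCover
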