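import Groth.Agent.SGA3x.K7.IntDesc
import Groth.Agent.SGA3x.K7.FinCover
import Groth.Agent.SGA3x.K10.MTLoc

/-!
# Groups of multiplicative type over an affine base: Hopf algebra and invariant integral

`IsMT H`: the group `H` over `S` is fpqc-locally on `S` isomorphic to `D(M)`, `M` any abelian group. Such a group is
affine and flat over `S`; over `S = Spec R` it is `Spec A` for a Hopf algebra `A` with a (unique) normalised
two-sided invariant integral `A → R` (`exists_model`).
-/

set_option autoImplicit false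

universe u

open CategoryTheory MonoidalCategory CartesianMonoidalCategory MonObj GrpObj AlgebraicGeometry Limits
open TensorProduct
open Groth.Agent Groth.Agent.Books.AffBridge Groth.Agent.Sga3A Groth.Agent.Sga3A.MTBasis Groth.Agent.Sga3B
open Groth.Agent.Sga3B.TorusAlgClosed

namespace K7.MTHaar

variable {S S' : Scheme.{u}}

/-- `H` is diagonalisable (with any character group) fpqc-locally on `S`. -/
abbrev IsMT (H : Over S) [GrpObj H] : Prop :=
  TwC.Locally S TwC.Topology.fpqc
    (fun S' f => ∃ (M : Type) (_ : AddCommGroup M), Nonempty (Grp.mk (Red.bc f H) ≅ Grp.mk (Red.DS S' M)))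

/-- Properties of the structure morphism which are fpqc local on the base hold as soon as they hold for `Spec ℤ[M]`. -/
theorem prop_of_isMT {P : MorphismProperty Scheme.{u}} [IsZariskiLocalAtTarget P]
    [P.IsStableUnderBaseChange] [P.DescendsAlong (@Surjective ⊓ @Flat ⊓ @QuasiCompact)]
    (hP : ∀ (M : Type) [AddCommGroup M], P (Red.diag (ULift.{u} ℤ) M).hom) {T : Over S} [GrpObj T]
    (h : IsMT T) : P T.hom := by
  obtain ⟨S', f, hf, -, hc, h⟩ := h
  refine FpqcLoc.of_fpqc_cover T.hom f hc fun s' => ?_
  obtain ⟨U, hU, M, _, hr⟩ := h s'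
  exact ⟨U, hU, prop_of_isSplitTorusWith (hP M) hr⟩

theorem isAffineHom {H : Over S} [GrpObj H] (h : IsMT H) : IsAffineHom H.hom := by
  have := Etbase.FpqcDescent.descendsAlong_isAffineHom.{u}
  exact prop_of_isMT (P := @IsAffineHom) (fun _ _ => inferInstance) h

theorem flat {H : Over S} [GrpObj H] (h : IsMT H) : Flat H.hom := by
  have := K10.MTLoc.flat_descends.{u}
  exact prop_of_isMT (P := @Flat) (fun M _ => K10.MTLoc.diag_flat M) h

/-- A group of multiplicative type over an affine base is the spectrum of a Hopf algebra which has a two-sided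
invariant normalised integral. -/
theorem exists_model {R : Type u} [CommRing R] {H : Over (Spec (CommRingCat.of R))} [GrpObj H] (h : IsMT H) :
    ∃ (A : Type u) (_ : CommRing A) (_ : HopfAlgebra R A) (e : H ≅ SpecOver R A) (_ : IsMonHom e.hom)
      (l : A →ₗ[R] R), IntDesc.IsInt l := by
  have haff : IsAffine H.left := by
    have := isAffineHom h
    exact isAffine_of_isAffineHom H.hom
  obtain ⟨A, _, _, e, he⟩ := exists_hopf R H
  refine ⟨A, inferInstance, inferInstance, e, he, ?_⟩
  obtain ⟨J, _, B, _, _, hB, hs, hsp⟩ := FinCover.exists_finite_cover (fun {T T'} g f _ hP => by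
    obtain ⟨M, _, ⟨i⟩⟩ := hP
    exact ⟨M, inferInstance, ⟨BcIso.bcCompIso g f H ≪≫ BcIso.bcMapIso g i ≪≫ dsBcIso g M⟩⟩) h
  choose M hM hi using hsp
  have hg : ∀ i, Nonempty (GBasis (B i) (B i ⊗[R] A) (K10.MTLoc.Mu.{u} (M i))) := by
    intro i
    refine (K10.MTLoc.isSplit_iff (M i)).mp ?_
    obtain ⟨j⟩ := hi i
    exact ⟨BcIso.bcMapIso _ (Grp.mkIso' e).symm ≪≫ j⟩
  exact IntDesc.exists_haar B hB hs _ (fun i => (hg i).some)

end K7.MTHaar
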