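import Mathlib.AlgebraicGeometry.Group.Abelian
import Mathlib.AlgebraicGeometry.PullbackCarrier

/-!
# Whiskered morphisms of `S`-schemes
-/

set_option autoImplicit false
open CategoryTheory MonoidalCategory CartesianMonoidalCategory AlgebraicGeometry Limits
universe u

namespace K7.Whisk

section cat
variable {𝒞 : Type*} [Category 𝒞] [CartesianMonoidalCategory 𝒞]

lemma isPullback_whisker₀ (P : 𝒞) {X Y : 𝒞} (f : X ⟶ Y) : IsPullback (P ◁ f) (snd P X) (snd P Y) f := by
  refine ⟨⟨by simp⟩, ⟨PullbackCone.IsLimit.mk _ (fun s => lift (s.fst ≫ fst _ _) s.snd) ?_ ?_ ?_⟩⟩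
  · intro s
    apply CartesianMonoidalCategory.hom_ext
    · simp
    · simp [s.condition]
  · intro s
    simp
  · intro s m h1 h2
    apply CartesianMonoidalCategory.hom_ext
    · simp [← h1]
    · simp [← h2]

end cat

variable {S : Scheme.{u}}

lemma isPullback_whisker (P : Over S) {X Y : Over S} (f : X ⟶ Y) :
    IsPullback (P ◁ f).left (snd P X).left (snd P Y).left f.left :=
  (isPullback_whisker₀ P f).map (Over.forget _)

lemma range_whisker (P : Over S) {X Y : Over S} (f : X ⟶ Y) :
    Set.range (P ◁ f).left = (snd P Y).left ⁻¹' Set.range f.left := by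
  have h := isPullback_whisker P f
  rw [← Scheme.Pullback.range_fst]
  ext x
  constructor
  · rintro ⟨y, rfl⟩
    exact ⟨h.isoPullback.hom y, by rw [← Scheme.Hom.comp_apply, h.isoPullback_hom_fst]⟩
  · rintro ⟨y, rfl⟩
    exact ⟨h.isoPullback.inv y, by rw [← Scheme.Hom.comp_apply, h.isoPullback_inv_fst]⟩

instance isOpenImmersion_whisker (P : Over S) {X Y : Over S} (f : X ⟶ Y) [IsOpenImmersion f.left] :
    IsOpenImmersion (P ◁ f).left :=
  MorphismProperty.of_isPullback (P := @IsOpenImmersion) (isPullback_whisker P f).flip inferInstance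

end K7.Whisk
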