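import Groth.Agent.SGA3x.K7.ActRing
import Groth.Agent.SGA3x.K7.MTHaar
import Groth.Agent.SGA3x.K7.Whisk
import Groth.Agent.Sga3.H802.DSFam
import Groth.Agent.Sga3B.OverAff898
import Groth.Prelude.Def_AlgGrp

/-!
# Actions of groups of multiplicative type which are trivial modulo a nilpotent ideal
-/

set_option autoImplicit false
universe u
open CategoryTheory MonoidalCategory CartesianMonoidalCategory MonObj GrpObj AlgebraicGeometry Limits
open scoped TensorProduct

namespace K7.ActTriv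
open Groth.Agent.Sga3B Groth.Agent.Sga3B.InfConj Groth.Agent.Sga3.H802.HomFam
open Groth.Agent.Sga3B.IsomOpen832 Groth.Agent.Sga3B.BcPts
open Groth.Agent.Books.AffBridge Groth.Agent.Sga3B.AffPts Groth.Agent.Sga3B.OverAff898
open Groth.Agent.Sga3B.HaarDef hiding exists_conj_abstract exists_hom_abstract

section points

variable {S : Scheme.{u}} {G X : Over S} [GrpObj G] (a : AlgGrp.Action G X)

lemma mul_smul' {T : Over S} (g h : T ⟶ G) (x : T ⟶ X) :
    lift (g * h) x ≫ a.act = lift g (lift h x ≫ a.act) ≫ a.act := by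
  have h1 := congrArg (fun z => lift (lift g h) x ≫ z) a.mul_act
  rw [← Category.assoc, ← Category.assoc, ← Category.assoc, lift_whiskerRight, lift_lift_associator_hom] at h1
  rw [lift_whiskerLeft] at h1
  exact h1

end points

variable {C : Type u} [CommRing C] {S : Scheme.{u}} (x : Spec (CommRingCat.of C) ⟶ S)
variable {G X : Over S} [GrpObj G] (a : AlgGrp.Action G X)
variable {D : Type u} [CommRing D] [Bialgebra C D] (e : Red.bc x G ≅ pt C D) (he : IsModel e)
variable {B : Type u} [CommRing B] [Algebra C B] (i : (Over.map x).obj (pt C B) ⟶ X)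

/-- the universal point of `G`, over `S` -/
noncomputable def tU : (Over.map x).obj (pt C (D ⊗[C] B)) ⟶ G :=
  (bcEquiv x _ G).symm (prD C D B ≫ e.inv)

/-- the universal translate -/
noncomputable def univ : (Over.map x).obj (pt C (D ⊗[C] B)) ⟶ X :=
  lift (tU (B := B) x e) ((Over.map x).map (prX C D B) ≫ i) ≫ a.act

/-- `G` acts trivially on `X` modulo `J`. -/
def TrivMod (J : Ideal C) : Prop :=
  ∀ (Y : Over S) (_ : Y ⟶ Over.mk (Spec.map (CommRingCat.ofHom (Ideal.Quotient.mk J)) ≫ x)) (g : Y ⟶ G) (y : Y ⟶ X),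
    lift g y ≫ a.act = y

/-- The reduction of a point of an algebra killed by `J`. -/
lemma exists_red (J : Ideal C) {E : Type u} [CommRing E] [Algebra C E] (hE : ∀ c ∈ J, algebraMap C E c = 0) :
    Nonempty ((Over.map x).obj (pt C E) ⟶ Over.mk (Spec.map (CommRingCat.ofHom (Ideal.Quotient.mk J)) ≫ x)) := by
  refine ⟨Over.homMk (Spec.map (CommRingCat.ofHom (Ideal.Quotient.lift J (algebraMap C E) hE))) ?_⟩
  change _ ≫ _ ≫ x = Spec.map (CommRingCat.ofHom (algebraMap C E)) ≫ x
  rw [← Category.assoc, ← Spec.map_comp, ← CommRingCat.ofHom_comp]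
  rfl

variable {x} in
lemma map_ideal_le (J : Ideal C) {E : Type u} [CommRing E] [Algebra C E] :
    ∀ c ∈ J, algebraMap C (E ⧸ J.map (algebraMap C E)) c = 0 := by
  intro c hc
  exact Ideal.Quotient.eq_zero_iff_mem.mpr (Ideal.mem_map_of_mem _ hc)

lemma isNilpotent_map {J : Ideal C} (hJ : IsNilpotent J) (E : Type u) [CommRing E] [Algebra C E] :
    IsNilpotent (J.map (algebraMap C E)) := by
  obtain ⟨n, hn⟩ := hJ
  exact ⟨n, by rw [← Ideal.map_pow, hn, Ideal.zero_eq_bot, Ideal.map_bot, Ideal.zero_eq_bot]⟩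

lemma surjective_specMap_mk {E : Type u} [CommRing E] {K : Ideal E} (hK : IsNilpotent K) :
    Function.Surjective (Spec.map (CommRingCat.ofHom (Ideal.Quotient.mk K))) := by
  intro p
  obtain ⟨n, hn⟩ := hK
  have h1 : K ≤ (show PrimeSpectrum E from p).asIdeal := by
    intro k hk
    refine (show PrimeSpectrum E from p).2.mem_of_pow_mem n ?_
    have : k ^ n ∈ K ^ n := Ideal.pow_mem_pow hk n
    rw [hn] at this
    rw [(this : k ^ n = 0)]
    exact zero_mem _
  have h2 : ∀ p' : PrimeSpectrum E, K ≤ p'.asIdeal → p' ∈ Set.range (PrimeSpectrum.comap (Ideal.Quotient.mk K)) := by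
    intro p' h
    rw [_root_.range_comap_of_surjective _ _ Ideal.Quotient.mk_surjective, PrimeSpectrum.mem_zeroLocus,
      Ideal.mk_ker]
    exact h
  exact h2 _ h1

lemma exists_F [Mono x] [IsOpenImmersion i.left] {J : Ideal C} (hJ : IsNilpotent J) (h0 : TrivMod x a J) :
    ∃ F : pt C (D ⊗[C] B) ⟶ pt C B, (Over.map x).map F ≫ i = univ x a e i := by
  let E := D ⊗[C] B
  let K : Ideal E := J.map (algebraMap C E)
  let q : (Over.map x).obj (pt C (E ⧸ K)) ⟶ (Over.map x).obj (pt C E) := (Over.map x).map (ptMap (Ideal.Quotient.mkₐ C K))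
  obtain ⟨p⟩ := exists_red x J (map_ideal_le J (E := E))
  have h1 : q ≫ univ x a e i = q ≫ (Over.map x).map (prX C D B) ≫ i := by
    rw [univ, ← Category.assoc, comp_lift]
    exact h0 _ p _ _
  have h2 : Function.Surjective q.left := surjective_specMap_mk (isNilpotent_map hJ E)
  obtain ⟨f', hf'⟩ := exists_lift i (univ x a e i) (by
    rintro _ ⟨z, rfl⟩
    obtain ⟨w, rfl⟩ := h2 z
    refine ⟨((q ≫ (Over.map x).map (prX C D B)).left) w, ?_⟩
    rw [← Scheme.Hom.comp_apply, ← Scheme.Hom.comp_apply, ← Over.comp_left, ← Over.comp_left, h1, Category.assoc])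
  obtain ⟨F, hF⟩ := exists_map_eq x f'
  exact ⟨F, by rw [hF, hf']⟩

section F

variable {F : pt C (D ⊗[C] B) ⟶ pt C B} (hF : (Over.map x).map F ≫ i = univ x a e i)

include hF in
/-- the functional description of `F` -/
lemma map_F {T : Over (Spec (CommRingCat.of C))} (g : T ⟶ Red.bc x G) (b : T ⟶ pt C B) :
    (Over.map x).map (pairPt (g ≫ e.hom) b ≫ F) ≫ i =
      lift ((bcEquiv x T G).symm g) ((Over.map x).map b ≫ i) ≫ a.act := by
  rw [Functor.map_comp, Category.assoc, hF, univ, ← Category.assoc, comp_lift, tU, ← comp_bcEquiv_symm,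
    ← Category.assoc ((Over.map x).map (pairPt (g ≫ e.hom) b)), ← Functor.map_comp, pairPt_prX]
  congr 3
  rw [← Category.assoc, pairPt_prD, Category.assoc, Iso.hom_inv_id, Category.comp_id]

omit [GrpObj G] in
lemma map_inj [Mono i.left] {T : Over (Spec (CommRingCat.of C))} {b b' : T ⟶ pt C B}
    (h : (Over.map x).map b ≫ i = (Over.map x).map b' ≫ i) : b = b' := by
  ext1
  have h1 : b.left ≫ i.left = b'.left ≫ i.left := congr($(h).left)
  exact (cancel_mono i.left).mp h1

include hF in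
lemma F_mul [Mono i.left] {T : Over (Spec (CommRingCat.of C))} (g h : T ⟶ Red.bc x G) (b : T ⟶ pt C B) :
    pairPt ((g * h) ≫ e.hom) b ≫ F = pairPt (g ≫ e.hom) (pairPt (h ≫ e.hom) b ≫ F) ≫ F := by
  apply map_inj x i
  rw [map_F x a e i hF, map_F x a e i hF, map_F x a e i hF, ← mul_smul']
  congr 2
  exact (bcMulEquiv x T G).symm.map_mul g h

include hF he in
lemma coassoc [Mono i.left] {ρ : B →ₐ[C] D ⊗[C] B} (hρ : ptMap ρ = F) : (T D ρ).comp ρ = (δ C D B).comp ρ := by
  let W := pt C (D ⊗[C] (D ⊗[C] B))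
  let t₁ : W ⟶ Red.bc x G := prD C D (D ⊗[C] B) ≫ e.inv
  let t₂ : W ⟶ Red.bc x G := prX C D (D ⊗[C] B) ≫ prD C D B ≫ e.inv
  let s : W ⟶ pt C B := prX C D (D ⊗[C] B) ≫ prX C D B
  have h0 := F_mul x a e i hF t₁ t₂ s
  have e0 : pairPt (t₁ ≫ e.hom) (pairPt (t₂ ≫ e.hom) s) = 𝟙 W := by
    apply pair_ext
    · rw [pairPt_prD, Category.id_comp]
      simp [t₁]
    · rw [pairPt_prX, Category.id_comp]
      apply pair_ext
      · rw [pairPt_prD]
        simp [t₂]
      · rw [pairPt_prX]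
  have e3 : ptMap (δ C D B) = pairPt ((t₁ * t₂) ≫ e.hom) s := by
    rw [← Category.id_comp (ptMap (δ C D B)), ← e0, pairPt_δ _ _ _ s (he W t₁ t₂)]
  have e4 : pairPt (t₁ ≫ e.hom) (pairPt (t₂ ≫ e.hom) s ≫ F) = ptMap (T D ρ) := by
    rw [← hρ, ← pairPt_T, e0, Category.id_comp]
  rw [← e3, e4, ← hρ, ptMap_comp, ptMap_comp] at h0
  exact (specMap_injective C h0).symm

include hF he in
lemma F_eq [Mono i.left] (ν : Haar C D) {J : Ideal C} (hJ : IsNilpotent J) (h0 : TrivMod x a J) : F = prX C D B := by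
  let ρ : B →ₐ[C] D ⊗[C] B := specPreimage C F
  have hρ : ptMap ρ = F := specMap_specPreimage C F
  let K : Ideal B := J.map (algebraMap C B)
  obtain ⟨p⟩ := exists_red x J (E := D ⊗[C] (B ⧸ K)) (by
    intro c hc
    have h1 : algebraMap C (B ⧸ K) c = 0 := map_ideal_le J c hc
    have h2 : algebraMap C (D ⊗[C] (B ⧸ K)) c = 1 ⊗ₜ algebraMap C (B ⧸ K) c := by
      rw [Algebra.TensorProduct.algebraMap_apply, Algebra.algebraMap_eq_smul_one, Algebra.algebraMap_eq_smul_one,
        TensorProduct.smul_tmul]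
    rw [h2, h1, TensorProduct.tmul_zero])
  let q : pt C (D ⊗[C] (B ⧸ K)) ⟶ pt C (D ⊗[C] B) := ptMap (T D (Ideal.Quotient.mkₐ C K))
  have h1 : q ≫ F = q ≫ prX C D B := by
    apply map_inj x i
    rw [Functor.map_comp, Category.assoc, hF, univ, ← Category.assoc, comp_lift, Functor.map_comp, Category.assoc]
    exact h0 _ p _ _
  have h2 : (T D (Ideal.Quotient.mkₐ C K)).comp ρ =
      (T D (Ideal.Quotient.mkₐ C K)).comp (Algebra.TensorProduct.includeRight : B →ₐ[C] D ⊗[C] B) := by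
    apply specMap_injective C
    have : ptMap (T D (Ideal.Quotient.mkₐ C K)) ≫ ptMap ρ = ptMap (T D (Ideal.Quotient.mkₐ C K)) ≫
      ptMap (Algebra.TensorProduct.includeRight : B →ₐ[C] D ⊗[C] B) := by
      rw [hρ]
      exact h1
    rw [ptMap_comp, ptMap_comp] at this
    exact this
  have h3 : ρ = (Algebra.TensorProduct.includeRight : B →ₐ[C] D ⊗[C] B) := by
    ext b
    exact ActRing.coact_trivial ν ρ (coassoc x a e he i hF hρ) J hJ (fun b => congr($h2 b)) b
  rw [← hρ, h3]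
  rfl

end F

include he in
/-- Triviality of the action on a chart. -/
theorem chart_trivial [Mono x] [IsOpenImmersion i.left] (ν : Haar C D) {J : Ideal C} (hJ : IsNilpotent J) (h0 : TrivMod x a J) :
    (G ◁ i) ≫ a.act = (G ◁ i) ≫ snd G X := by
  obtain ⟨F, hF⟩ := exists_F x a e i hJ h0
  apply ext_points x
  intro T g b
  have h1 := map_F x a e i hF (bcEquiv x T G g) b
  rw [F_eq x a e he i hF ν hJ h0, pairPt_prX, Equiv.symm_apply_apply] at h1
  rw [← Category.assoc, ← Category.assoc, lift_whiskerLeft, ← h1, lift_snd]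


section global

/-- Base change of groups of multiplicative type. -/
theorem isMT_bc {S S' : Scheme.{u}} (g : S' ⟶ S) {T : Over S} [GrpObj T] (h : MTHaar.IsMT T) :
    MTHaar.IsMT (Red.bc g T) := by
  obtain ⟨X, p, hf, hs, hc, h⟩ := h
  refine ⟨pullback g p, pullback.fst g p, inferInstance, inferInstance, TorusBc.qc_cover_bc p g hc, fun x => ?_⟩
  obtain ⟨U, hU, M, _, ⟨hr⟩⟩ := h (pullback.snd g p x)
  refine ⟨(pullback.snd g p) ⁻¹ᵁ U, hU, M, inferInstance, ?_⟩
  have e1 : ((pullback.snd g p) ⁻¹ᵁ U).ι ≫ pullback.fst g p ≫ g =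
      ((pullback.snd g p) ∣_ U) ≫ U.ι ≫ p := by
    rw [pullback.condition, morphismRestrict_ι_assoc]
  have e2 := BcIso.bcMapIso ((pullback.snd g p) ∣_ U) hr
  exact ⟨(BcIso.bcCompIso _ _ _).symm ≪≫ BcIso.bcCongrIso (by rw [← e1, Category.assoc]) T ≪≫
    BcIso.bcCompIso _ _ _ ≪≫ e2 ≪≫ TorusAlgClosed.dsBcIso _ M⟩

/-- A closed subscheme restricted to an affine open. -/
lemma exists_factor {S S₀ : Scheme.{u}} (i₀ : S₀ ⟶ S) [IsClosedImmersion i₀] (U : S.affineOpens) :
    ∃ b : Spec (CommRingCat.of (Γ(S, U.1) ⧸ i₀.ker.ideal U)) ⟶ S₀,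
      b ≫ i₀ = Spec.map (CommRingCat.ofHom (Ideal.Quotient.mk (i₀.ker.ideal U))) ≫ U.2.fromSpec := by
  have hlift : i₀.ker ≤ i₀.ker.subschemeι.ker := by
    rw [Scheme.IdealSheafData.ker_subschemeι]
  refine ⟨i₀.ker.subschemeCover.f U ≫ IsClosedImmersion.lift i₀ i₀.ker.subschemeι hlift, ?_⟩
  rw [Category.assoc, IsClosedImmersion.lift_fac]
  exact Scheme.IdealSheafData.subschemeCover_map_subschemeι i₀.ker U

/-- **Triviality of actions** of groups of multiplicative type modulo a locally nilpotent ideal. -/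
theorem act_eq_snd {S S₀ : Scheme.{u}} (i₀ : S₀ ⟶ S) [IsClosedImmersion i₀]
    (hnil : ∀ x : S, ∃ U : S.affineOpens, x ∈ (U : S.Opens) ∧ IsNilpotent (i₀.ker.ideal U))
    {G X : Over S} [GrpObj G] (hG : MTHaar.IsMT G) (a : AlgGrp.Action G X)
    (h0 : ∀ (Y : Over S) (_ : Y ⟶ Over.mk i₀) (g : Y ⟶ G) (x : Y ⟶ X), lift g x ≫ a.act = x) :
    a.act = snd G X := by
  apply hom_ext_of_covers
  intro z
  let y : X.left := (snd G X).left z
  obtain ⟨U, hU, hJ⟩ := hnil (X.hom y)
  obtain ⟨_, ⟨V, hV, rfl⟩, hyV, hVU⟩ := X.left.isBasis_affineOpens.exists_subset_of_mem_open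
    (show y ∈ X.hom ⁻¹ᵁ U.1 from hU) (X.hom ⁻¹ᵁ U.1).2
  let C := Γ(S, U.1)
  let x : Spec (CommRingCat.of C) ⟶ S := U.2.fromSpec
  let V' : X.left.affineOpens := ⟨V, hV⟩
  let j : Spec Γ(X.left, V) ⟶ X.left := V'.2.fromSpec
  have hr : Set.range (j ≫ X.hom) ⊆ Set.range x := by
    rintro _ ⟨w, rfl⟩
    rw [IsAffineOpen.range_fromSpec]
    have h1 : j w ∈ (V : Set X.left) := by
      have : j w ∈ Set.range V'.2.fromSpec := ⟨w, rfl⟩
      rwa [IsAffineOpen.range_fromSpec] at this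
    exact hVU h1
  let φ : CommRingCat.of C ⟶ Γ(X.left, V) := Spec.preimage (IsOpenImmersion.lift x (j ≫ X.hom) hr)
  let _ : Algebra C Γ(X.left, V) := φ.hom.toAlgebra
  have hφ : Spec.map (CommRingCat.ofHom (algebraMap C Γ(X.left, V))) ≫ x = j ≫ X.hom := by
    have h1 : Spec.map φ = IsOpenImmersion.lift x (j ≫ X.hom) hr := Spec.map_preimage _
    have h2 : Spec.map (CommRingCat.ofHom (algebraMap C Γ(X.left, V))) = Spec.map φ := rfl
    rw [h2, h1, IsOpenImmersion.lift_fac]
  let i : (Over.map x).obj (pt C Γ(X.left, V)) ⟶ X := Over.homMk j hφ.symm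
  have hi : IsOpenImmersion i.left := inferInstanceAs (IsOpenImmersion V'.2.fromSpec)
  obtain ⟨D, _, _, e, he, l, hl⟩ := MTHaar.exists_model (isMT_bc x hG)
  obtain ⟨b, hb⟩ := exists_factor i₀ U
  have h1 := chart_trivial x a (e : Red.bc x G ≅ pt C D) (isModel_of_isMonHom e) i (IntDesc.haarOfIsInt hl) hJ
    (fun Y p g y => h0 Y (p ≫ Over.homMk b hb) g y)
  refine ⟨G ⊗ (Over.map x).obj (pt C Γ(X.left, V)), G ◁ i, inferInstance, ?_, h1⟩
  rw [Whisk.range_whisker]
  change y ∈ Set.range V'.2.fromSpec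
  rw [IsAffineOpen.range_fromSpec]
  exact hyV

/-- An action from its effect on points. -/
noncomputable def mkAct {S : Scheme.{u}} {G X : Over S} [GrpObj G] (act : G ⊗ X ⟶ X)
    (h1 : ∀ (T : Over S) (y : T ⟶ X), lift 1 y ≫ act = y)
    (h2 : ∀ (T : Over S) (g h : T ⟶ G) (y : T ⟶ X), lift (g * h) y ≫ act = lift g (lift h y ≫ act) ≫ act) :
    AlgGrp.Action G X where
  act := act
  one_act := by
    have e1 : η[G] ▷ X = lift (1 : 𝟙_ (Over S) ⊗ X ⟶ G) (snd _ _) := by
      apply CartesianMonoidalCategory.hom_ext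
      · rw [whiskerRight_fst, lift_fst, toUnit_unique (fst (𝟙_ (Over S)) X) (toUnit _)]
        rfl
      · rw [whiskerRight_snd, lift_snd]
    rw [e1, h1, leftUnitor_hom]
  mul_act := by
    have e1 : μ[G] ▷ X = lift ((fst (G ⊗ G) X ≫ fst G G) * (fst (G ⊗ G) X ≫ snd G G)) (snd _ _) := by
      apply CartesianMonoidalCategory.hom_ext
      · rw [whiskerRight_fst, lift_fst, ← MonObj.comp_mul, Hom.mul_def, lift_fst_snd, Category.id_comp]
      · rw [whiskerRight_snd, lift_snd]
    rw [e1, h2]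
    rw [← Category.assoc]
    congr 1
    apply CartesianMonoidalCategory.hom_ext
    · simp
    · rw [lift_snd, Category.assoc, whiskerLeft_snd, ← Category.assoc]
      congr 1
      apply CartesianMonoidalCategory.hom_ext
      · simp
      · simp

/-- The action of `G` on `H` by conjugation through a homomorphism. -/
noncomputable def conjAct {S : Scheme.{u}} {G H : Over S} [GrpObj G] [GrpObj H] (v : G ⟶ H) [IsMonHom v] :
    AlgGrp.Action G H :=
  mkAct ((fst G H ≫ v) * snd G H * (fst G H ≫ v)⁻¹)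
    (fun T y => by
      rw [MonObj.comp_mul, MonObj.comp_mul, GrpObj.comp_inv, ← Category.assoc, lift_fst, lift_snd, MonObj.one_comp,
        _root_.one_mul, inv_one, _root_.mul_one])
    (fun T g h y => by
      simp only [MonObj.comp_mul, GrpObj.comp_inv, ← Category.assoc, lift_fst, lift_snd]
      rw [MonObj.mul_comp]
      group)

end global

end K7.ActTriv
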