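import Groth.Prelude.Def_Red
import Mathlib.AlgebraicGeometry.Morphisms.FlatDescent
import Mathlib.AlgebraicGeometry.Morphisms.QuasiSeparated

/-!
# Properties of a morphism of `S`-schemes after base change, and their locality on the base

For `u : X ⟶ Y` in `Over S` and a property `P` of morphisms of schemes, `P ((Over.pullback f).map u).left` is
stable under further base change, can be checked after a faithfully flat quasi-compact (or fppf) base change, and
étale (fppf) locally on the base.
-/

set_option autoImplicit false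
open CategoryTheory CategoryTheory.Limits AlgebraicGeometry
universe u

namespace K7.Loc

variable {S : Scheme.{u}} {X Y : Over S}

/-- the base change square of a morphism -/
lemma isPullback_map {T : Scheme.{u}} (f : T ⟶ S) (a : X ⟶ Y) :
    IsPullback (pullback.fst X.hom f) ((Over.pullback f).map a).left a.left (pullback.fst Y.hom f) := by
  have h1 : IsPullback (pullback.fst Y.hom f) (pullback.snd Y.hom f) Y.hom f := IsPullback.of_hasPullback _ _
  have h2 : IsPullback (pullback.fst X.hom f) (pullback.snd X.hom f) X.hom f := IsPullback.of_hasPullback _ _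
  have e1 : ((Over.pullback f).map a).left ≫ pullback.fst Y.hom f = pullback.fst X.hom f ≫ a.left := by
    exact pullback.lift_fst _ _ _
  have e2 : ((Over.pullback f).map a).left ≫ pullback.snd Y.hom f = pullback.snd X.hom f := by
    exact pullback.lift_snd _ _ _
  have e3 : a.left ≫ Y.hom = X.hom := Over.w a
  have h3 : IsPullback (pullback.fst X.hom f) (((Over.pullback f).map a).left ≫ pullback.snd Y.hom f)
      (a.left ≫ Y.hom) f := by
    rw [e2, e3]
    exact h2
  exact IsPullback.of_bot h3 e1.symm h1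

/-- the comparison `X ×_S T' ⟶ X ×_S T` -/
noncomputable def cmp (X : Over S) {T T' : Scheme.{u}} (f : T ⟶ S) (g : T' ⟶ T) :
    pullback X.hom (g ≫ f) ⟶ pullback X.hom f :=
  pullback.lift (pullback.fst _ _) (pullback.snd _ _ ≫ g) (by rw [pullback.condition, Category.assoc])

@[reassoc (attr := simp)]
lemma cmp_fst (X : Over S) {T T' : Scheme.{u}} (f : T ⟶ S) (g : T' ⟶ T) :
    cmp X f g ≫ pullback.fst X.hom f = pullback.fst X.hom (g ≫ f) := pullback.lift_fst _ _ _

@[reassoc (attr := simp)]
lemma cmp_snd (X : Over S) {T T' : Scheme.{u}} (f : T ⟶ S) (g : T' ⟶ T) :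
    cmp X f g ≫ pullback.snd X.hom f = pullback.snd X.hom (g ≫ f) ≫ g := pullback.lift_snd _ _ _

lemma isPullback_cmp (X : Over S) {T T' : Scheme.{u}} (f : T ⟶ S) (g : T' ⟶ T) :
    IsPullback (cmp X f g) (pullback.snd X.hom (g ≫ f)) (pullback.snd X.hom f) g := by
  have h1 : IsPullback (pullback.fst X.hom f) (pullback.snd X.hom f) X.hom f := IsPullback.of_hasPullback _ _
  refine IsPullback.of_right (h₁₂ := pullback.fst X.hom f) (h₂₂ := f) (v₁₃ := X.hom) ?_ (cmp_snd X f g) h1
  rw [cmp_fst]
  exact IsPullback.of_hasPullback _ _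

lemma isPullback_map_comp {T T' : Scheme.{u}} (f : T ⟶ S) (g : T' ⟶ T) (a : X ⟶ Y) :
    IsPullback (cmp X f g) ((Over.pullback (g ≫ f)).map a).left ((Over.pullback f).map a).left (cmp Y f g) := by
  have h1 := isPullback_map f a
  have h2 : IsPullback (cmp X f g ≫ pullback.fst X.hom f) ((Over.pullback (g ≫ f)).map a).left a.left
      (cmp Y f g ≫ pullback.fst Y.hom f) := by
    rw [cmp_fst, cmp_fst]
    exact isPullback_map (g ≫ f) a
  refine IsPullback.of_right h2 ?_ h1
  apply pullback.hom_ext
  · rw [Category.assoc, Category.assoc, cmp_fst]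
    have e1 : ((Over.pullback f).map a).left ≫ pullback.fst Y.hom f = pullback.fst X.hom f ≫ a.left :=
      pullback.lift_fst _ _ _
    have e1' : ((Over.pullback (g ≫ f)).map a).left ≫ pullback.fst Y.hom (g ≫ f) =
      pullback.fst X.hom (g ≫ f) ≫ a.left := pullback.lift_fst _ _ _
    rw [e1', e1, cmp_fst_assoc]
  · rw [Category.assoc, Category.assoc, cmp_snd]
    have e2 : ((Over.pullback f).map a).left ≫ pullback.snd Y.hom f = pullback.snd X.hom f :=
      pullback.lift_snd _ _ _
    have e2' : ((Over.pullback (g ≫ f)).map a).left ≫ pullback.snd Y.hom (g ≫ f) =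
      pullback.snd X.hom (g ≫ f) := pullback.lift_snd _ _ _
    rw [reassoc_of% e2', e2, cmp_snd]

section P

variable (P : MorphismProperty Scheme.{u}) [P.IsStableUnderBaseChange] (a : X ⟶ Y)

/-- the base change of `a` along `f` has property `P` -/
def Has {T : Scheme.{u}} (f : T ⟶ S) : Prop := P ((Over.pullback f).map a).left

variable {P a}

lemma Has.bc {T T' : Scheme.{u}} {f : T ⟶ S} (h : Has P a f) (g : T' ⟶ T) : Has P a (g ≫ f) :=
  P.of_isPullback (isPullback_map_comp f g a) h

omit [P.IsStableUnderBaseChange] in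
lemma Has.of_eq {T : Scheme.{u}} {f f' : T ⟶ S} (h : Has P a f) (e : f = f') : Has P a f' := e ▸ h

lemma Has.of_fac {T T' : Scheme.{u}} {f : T ⟶ S} (h : Has P a f) {f' : T' ⟶ S} (g : T' ⟶ T) (e : g ≫ f = f') :
    Has P a f' := (h.bc g).of_eq e

omit [P.IsStableUnderBaseChange] in
/-- descent along `Q` -/
lemma has_of_descent {Q : MorphismProperty Scheme.{u}} [Q.IsStableUnderBaseChange] [P.DescendsAlong Q]
    {T T' : Scheme.{u}} {f : T ⟶ S} (g : T' ⟶ T) (hg : Q g) (h : Has P a (g ≫ f)) : Has P a f := by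
  have h1 : Q (cmp Y f g) := Q.of_isPullback (isPullback_cmp Y f g).flip hg
  exact MorphismProperty.of_isPullback_of_descendsAlong (P := P) (Q := Q) (isPullback_map_comp f g a).flip h1 h

/-- invariance under isomorphisms in the source and the target -/
lemma has_iff_of_iso {T : Scheme.{u}} {f : T ⟶ S} {X' Y' : Over T} (a' : X' ⟶ Y')
    (e₁ : Red.bc f X ≅ X') (e₂ : Red.bc f Y ≅ Y') (h : (Over.pullback f).map a ≫ e₂.hom = e₁.hom ≫ a') :
    Has P a f ↔ P a'.left := by
  refine P.arrow_mk_iso_iff (Arrow.isoMk ((Over.forget _).mapIso e₁) ((Over.forget _).mapIso e₂) ?_)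
  exact congr($(h.symm).left)

variable [IsZariskiLocalAtTarget P]

/-- Zariski locality on the base -/
lemma has_of_zariski {T : Scheme.{u}} {f : T ⟶ S}
    (h : ∀ t : T, ∃ U : T.Opens, t ∈ U ∧ Has P a (U.ι ≫ f)) : Has P a f := by
  apply IsZariskiLocalAtTarget.of_forall_exists_morphismRestrict
  intro y
  obtain ⟨U, hU, hP⟩ := h (pullback.snd Y.hom f y)
  refine ⟨pullback.snd Y.hom f ⁻¹ᵁ U, hU, ?_⟩
  -- the restriction over `Y ×_S U` is a base change of the base change over `U`
  have h1 := isPullback_morphismRestrict ((Over.pullback f).map a).left (pullback.snd Y.hom f ⁻¹ᵁ U)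
  let q : ((pullback.snd Y.hom f ⁻¹ᵁ U : (pullback Y.hom f).Opens) : Scheme.{u}) ⟶ pullback Y.hom (U.ι ≫ f) :=
    (isPullback_cmp Y f U.ι).lift (pullback.snd Y.hom f ⁻¹ᵁ U).ι (pullback.snd Y.hom f ∣_ U)
      (by simp)
  have hq : q ≫ cmp Y f U.ι = (pullback.snd Y.hom f ⁻¹ᵁ U).ι := IsPullback.lift_fst _ _ _ _
  have h2 := isPullback_map_comp f U.ι a
  rw [← hq] at h1
  exact P.of_isPullback (IsPullback.of_right' h1.flip h2) hP

variable [P.DescendsAlong (@Surjective ⊓ @Flat ⊓ @QuasiCompact)]

/-- descent along flat surjective morphisms locally of finite presentation -/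
lemma has_of_fppf {T T' : Scheme.{u}} {f : T ⟶ S} (g : T' ⟶ T) [Surjective g] [Flat g] [LocallyOfFinitePresentation g]
    (h : Has P a (g ≫ f)) : Has P a f :=
  has_of_descent (Q := @Surjective ⊓ @Flat ⊓ @LocallyOfFinitePresentation) g ⟨⟨inferInstance, inferInstance⟩, inferInstance⟩ h

omit [IsZariskiLocalAtTarget P] in
/-- descent along faithfully flat quasi-compact morphisms -/
lemma has_of_fpqc {T T' : Scheme.{u}} {f : T ⟶ S} (g : T' ⟶ T) [Surjective g] [Flat g] [QuasiCompact g]
    (h : Has P a (g ≫ f)) : Has P a f :=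
  has_of_descent (Q := @Surjective ⊓ @Flat ⊓ @QuasiCompact) g ⟨⟨inferInstance, inferInstance⟩, inferInstance⟩ h

/-- fppf locality on the base -/
lemma has_of_locally {T : Scheme.{u}} {f : T ⟶ S}
    (h : ∀ t : T, ∃ (T' : Scheme.{u}) (g : T' ⟶ T), Flat g ∧ LocallyOfFinitePresentation g ∧ t ∈ Set.range g ∧
      Has P a (g ≫ f)) : Has P a f := by
  apply has_of_zariski
  intro t
  obtain ⟨T', g, h1, h2, ht, hP⟩ := h t
  let W : T.Opens := ⟨Set.range g, g.isOpenMap.isOpen_range⟩
  let g' : T' ⟶ W := IsOpenImmersion.lift W.ι g (by rw [Scheme.Opens.range_ι]; exact subset_rfl)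
  have hg' : g' ≫ W.ι = g := IsOpenImmersion.lift_fac _ _ _
  have h3 : Surjective g' := by
    constructor
    rintro ⟨x, y, hy⟩
    refine ⟨y, W.ι.injective ?_⟩
    rw [← Scheme.Hom.comp_apply, hg']
    exact hy
  have h4 : Flat g' := by
    have : Flat (g' ≫ W.ι) := by rw [hg']; exact h1
    exact MorphismProperty.of_postcomp (W := @Flat) (W' := @IsOpenImmersion) g' W.ι inferInstance this
  have h5 : LocallyOfFinitePresentation g' := by
    have : LocallyOfFinitePresentation (g' ≫ W.ι) := by rw [hg']; exact h2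
    exact MorphismProperty.of_postcomp (W := @LocallyOfFinitePresentation) (W' := @IsOpenImmersion) g' W.ι
      inferInstance this
  refine ⟨W, ht, has_of_fppf g' ?_⟩
  exact hP.of_eq (by rw [← Category.assoc, hg'])

end P

end K7.Loc
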