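import Groth.Agent.Sga3.H802.HaarBC
import Groth.Agent.Sga3A.MTBasis
import Mathlib.RingTheory.TensorProduct.IncludeLeftSubRight
import Mathlib.LinearAlgebra.TensorProduct.Pi

/-!
# Descent of invariant integrals

`IsInt l` : the linear map `l : D → B` (`B` a commutative `R`-algebra) is a two-sided invariant normalised integral with
values in `B`. Such a map is unique (`IsInt.unique`), hence descends along faithfully flat `R → B` (`exists_isInt`).
A bialgebra which becomes a group algebra after a faithfully flat extension has a unique integral (`haarOfIsInt`).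
-/

set_option autoImplicit false
open TensorProduct Coalgebra

namespace K7.IntDesc
open Groth.Agent.Sga3A.MTBasis Groth.Agent.Sga3B.HaarDef

variable {R : Type*} [CommRing R] {D : Type*} [CommRing D] [Bialgebra R D]

/-- Two-sided invariant normalised integrals with values in a commutative algebra. -/
structure IsInt {B : Type*} [CommRing B] [Algebra R B] (l : D →ₗ[R] B) : Prop where
  one : l 1 = 1
  left : ∀ d, l.rTensor D (comul (R := R) d) = l d ⊗ₜ[R] (1 : D)
  right : ∀ d, l.lTensor D (comul (R := R) d) = (1 : D) ⊗ₜ[R] l d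

section

variable {B : Type*} [CommRing B] [Algebra R B] {B' : Type*} [CommRing B'] [Algebra R B']

theorem IsInt.unique {l l' : D →ₗ[R] B} (h : IsInt l) (h' : IsInt l') : l = l' := by
  ext d
  have h1 : LinearMap.mul' R B (l'.lTensor B (l.rTensor D (comul (R := R) d))) = l d := by
    rw [h.left, LinearMap.lTensor_tmul, LinearMap.mul'_apply, h'.one, mul_one]
  have h2 : LinearMap.mul' R B (l.rTensor B (l'.lTensor D (comul (R := R) d))) = l' d := by
    rw [h'.right, LinearMap.rTensor_tmul, LinearMap.mul'_apply, h.one, one_mul]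
  rw [← h1, ← h2]
  congr 1
  rw [← LinearMap.comp_apply (LinearMap.lTensor B l'), ← LinearMap.comp_apply (LinearMap.rTensor B l),
    LinearMap.lTensor_comp_rTensor, LinearMap.rTensor_comp_lTensor]

theorem IsInt.map {l : D →ₗ[R] B} (h : IsInt l) (φ : B →ₐ[R] B') : IsInt (φ.toLinearMap ∘ₗ l) where
  one := by simp [h.one]
  left d := by
    rw [LinearMap.rTensor_comp, LinearMap.comp_apply, h.left]
    rfl
  right d := by
    rw [LinearMap.lTensor_comp, LinearMap.comp_apply, h.right]
    rfl

lemma comm_rTensor {N : Type*} [AddCommGroup N] [Module R N] (f : D →ₗ[R] N)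
    (z : D ⊗[R] D) : TensorProduct.comm R N D (f.rTensor D z) = f.lTensor D (TensorProduct.comm R D D z) := by
  induction z using TensorProduct.induction_on with
  | zero => simp
  | tmul a b => simp
  | add a b ha hb => simp only [map_add, ha, hb]

theorem IsInt.pi {ι : Type*} [Fintype ι] {B : ι → Type*} [∀ i, CommRing (B i)] [∀ i, Algebra R (B i)]
    {l : ∀ i, D →ₗ[R] B i} (h : ∀ i, IsInt (l i)) : IsInt (LinearMap.pi l) := by
  classical
  have hr : ∀ z : D ⊗[R] D, TensorProduct.piRight R R D B ((LinearMap.pi l).lTensor D z) =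
      fun i => (l i).lTensor D z := by
    intro z
    induction z using TensorProduct.induction_on with
    | zero => simp; rfl
    | tmul a b => simp [TensorProduct.piRight_apply]
    | add a b ha hb => rw [map_add, map_add, ha, hb]; ext i; simp
  refine ⟨?_, fun d => ?_, fun d => ?_⟩
  · ext i
    simp [(h i).one]
  · apply (TensorProduct.comm R (∀ i, B i) D).injective
    apply (TensorProduct.piRight R R D B).injective
    rw [comm_rTensor, hr]
    ext i
    have h1 := (h i).left d
    have h2 := congrArg (TensorProduct.comm R (B i) D) h1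
    rw [comm_rTensor] at h2
    rw [h2]
    simp [TensorProduct.piRight_apply]
  · apply (TensorProduct.piRight R R D B).injective
    rw [hr]
    ext i
    rw [(h i).right]
    simp [TensorProduct.piRight_apply]

/-- Integrals descend along faithfully flat extensions. -/
theorem exists_isInt [Module.FaithfullyFlat R B] {l : D →ₗ[R] B} (h : IsInt l) : ∃ μ : D →ₗ[R] R, IsInt μ := by
  have h1 : ∀ d, l d ⊗ₜ[R] (1 : B) = (1 : B) ⊗ₜ[R] l d := fun d =>
    congr($((h.map (Algebra.TensorProduct.includeLeft : B →ₐ[R] B ⊗[R] B)).unique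
      (h.map (Algebra.TensorProduct.includeRight : B →ₐ[R] B ⊗[R] B))) d)
  have hinj : Function.Injective (Algebra.linearMap R B) := FaithfulSMul.algebraMap_injective R B
  have h2 : ∀ d, l d ∈ LinearMap.range (Algebra.linearMap R B) := by
    intro d
    have h3 := Algebra.IsEffective.of_faithfullyFlat R B
    have h4 := (h3 (l d)).mp (by
      rw [Algebra.TensorProduct.includeLeftSubRight_apply, h1, sub_self])
    exact h4
  let μ : D →ₗ[R] R := (LinearEquiv.ofInjective (Algebra.linearMap R B) hinj).symm.toLinearMap ∘ₗ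
    (l.codRestrict _ h2)
  have hμ : (Algebra.linearMap R B) ∘ₗ μ = l := by
    ext d
    exact congrArg Subtype.val ((LinearEquiv.ofInjective (Algebra.linearMap R B) hinj).apply_symm_apply
      ((l.codRestrict _ h2) d))
  have hμ' : ∀ d, algebraMap R B (μ d) = l d := fun d => congr($hμ d)
  have inj1 : Function.Injective ((Algebra.linearMap R B).rTensor D) := by
    have h5 := Module.FaithfullyFlat.tensorProduct_mk_injective (A := R) (B := B) D
    have h6 : ((Algebra.linearMap R B).rTensor D) = (TensorProduct.mk R B D 1) ∘ₗ (TensorProduct.lid R D).toLinearMap := by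
      apply TensorProduct.ext'
      intro r d
      simp [Algebra.algebraMap_eq_smul_one, TensorProduct.smul_tmul']
    rw [h6]
    exact h5.comp (TensorProduct.lid R D).injective
  have inj2 : Function.Injective ((Algebra.linearMap R B).lTensor D) := by
    have h6 : ((Algebra.linearMap R B).lTensor D) = (TensorProduct.comm R B D).toLinearMap ∘ₗ
        ((Algebra.linearMap R B).rTensor D) ∘ₗ (TensorProduct.comm R D R).toLinearMap := by
      apply TensorProduct.ext'
      intro r d
      simp
    rw [h6]
    exact (TensorProduct.comm R B D).injective.comp (inj1.comp (TensorProduct.comm R D R).injective)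
  refine ⟨μ, ?_, fun d => ?_, fun d => ?_⟩
  · apply hinj
    simp [hμ', h.one]
  · apply inj1
    rw [← LinearMap.comp_apply (LinearMap.rTensor D _), ← LinearMap.rTensor_comp, hμ, h.left]
    simp [hμ']
  · apply inj2
    rw [← LinearMap.comp_apply (LinearMap.lTensor D _), ← LinearMap.lTensor_comp, hμ, h.right]
    simp [hμ']

/-- The invariant integral of a two-sided integral. -/
noncomputable def haarOfIsInt {μ : D →ₗ[R] R} (h : IsInt μ) : Haar R D where
  int := μ
  int_one := h.one
  inv d := by
    rw [h.left, TensorProduct.lid_tmul, Algebra.algebraMap_eq_smul_one]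

end

section gbasis

variable {B : Type*} [CommRing B] [Algebra R B] {M : Type*} [CommGroup M]

theorem exists_isInt_of_gbasis (g : GBasis B (B ⊗[R] D) M) : ∃ l : D →ₗ[R] B, IsInt l := by
  classical
  have hb : ∀ m, g.b.coord 1 (g.b m) • g.b m = g.b.coord 1 (g.b m) • (1 : B ⊗[R] D) := by
    intro m
    rw [Module.Basis.coord_apply, Module.Basis.repr_self, Finsupp.single_apply]
    split_ifs with hm
    · rw [hm, g.one]
    · rw [zero_smul, zero_smul]
  have hl : ∀ z : B ⊗[R] D, TensorProduct.lid B (B ⊗[R] D) ((g.b.coord 1).rTensor (B ⊗[R] D) (comul (R := B) z)) =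
      g.b.coord 1 z • (1 : B ⊗[R] D) := by
    intro z
    have : (TensorProduct.lid B (B ⊗[R] D)).toLinearMap ∘ₗ ((g.b.coord 1).rTensor (B ⊗[R] D)) ∘ₗ comul =
        (LinearMap.toSpanSingleton B (B ⊗[R] D) 1) ∘ₗ g.b.coord 1 := by
      apply g.b.ext
      intro m
      simp only [LinearMap.comp_apply, LinearEquiv.coe_coe, LinearMap.toSpanSingleton_apply]
      rw [(g.gl m).comul_eq_tmul_self, LinearMap.rTensor_tmul, TensorProduct.lid_tmul, hb]
    exact congr($this z)
  have hr : ∀ z : B ⊗[R] D, TensorProduct.rid B (B ⊗[R] D) ((g.b.coord 1).lTensor (B ⊗[R] D) (comul (R := B) z)) =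
      g.b.coord 1 z • (1 : B ⊗[R] D) := by
    intro z
    have : (TensorProduct.rid B (B ⊗[R] D)).toLinearMap ∘ₗ ((g.b.coord 1).lTensor (B ⊗[R] D)) ∘ₗ comul =
        (LinearMap.toSpanSingleton B (B ⊗[R] D) 1) ∘ₗ g.b.coord 1 := by
      apply g.b.ext
      intro m
      simp only [LinearMap.comp_apply, LinearEquiv.coe_coe, LinearMap.toSpanSingleton_apply]
      rw [(g.gl m).comul_eq_tmul_self, LinearMap.lTensor_tmul, TensorProduct.rid_tmul, hb]
    exact congr($this z)
  let l : D →ₗ[R] B := ((g.b.coord 1).restrictScalars R) ∘ₗ (TensorProduct.mk R B D 1)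
  have hl' : ∀ d, l d = g.b.coord 1 ((1 : B) ⊗ₜ[R] d) := fun d => rfl
  have h2 : ∀ z : D ⊗[R] D, l.rTensor D z = TensorProduct.lid B (B ⊗[R] D) ((g.b.coord 1).rTensor (B ⊗[R] D)
        (TensorProduct.AlgebraTensorModule.tensorTensorTensorComm R B R B B B D D ((1 ⊗ₜ 1) ⊗ₜ z))) := by
    intro z
    induction z using TensorProduct.induction_on with
    | zero => simp
    | tmul a b => simp [TensorProduct.smul_tmul', hl']
    | add a b ha hb => simp only [TensorProduct.tmul_add, map_add, ha, hb]
  have h2' : ∀ z : D ⊗[R] D, TensorProduct.comm R D B (l.lTensor D z) =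
      TensorProduct.rid B (B ⊗[R] D) ((g.b.coord 1).lTensor (B ⊗[R] D)
        (TensorProduct.AlgebraTensorModule.tensorTensorTensorComm R B R B B B D D ((1 ⊗ₜ 1) ⊗ₜ z))) := by
    intro z
    induction z using TensorProduct.induction_on with
    | zero => simp
    | tmul a b => simp [TensorProduct.smul_tmul', hl']
    | add a b ha hb => simp only [TensorProduct.tmul_add, map_add, ha, hb]
  have h3 : ∀ d, (TensorProduct.AlgebraTensorModule.tensorTensorTensorComm R B R B B B D D ((1 ⊗ₜ 1) ⊗ₜ comul (R := R) d)) =
      comul (R := B) ((1 : B) ⊗ₜ[R] d) := by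
    intro d
    rw [TensorProduct.comul_tmul]
    rfl
  refine ⟨l, ?_, fun d => ?_, fun d => ?_⟩
  · rw [hl']
    have : ((1 : B) ⊗ₜ[R] (1 : D)) = g.b 1 := by rw [g.one]; rfl
    rw [this, Module.Basis.coord_apply, Module.Basis.repr_self, Finsupp.single_eq_same]
  · rw [h2, h3, hl, ← hl', Algebra.TensorProduct.one_def, TensorProduct.smul_tmul', smul_eq_mul, mul_one]
  · apply (TensorProduct.comm R D B).injective
    rw [h2', h3, hr, ← hl', Algebra.TensorProduct.one_def, TensorProduct.smul_tmul', smul_eq_mul, mul_one,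
      TensorProduct.comm_tmul]

end gbasis

/-- A finite family of flat algebras whose spectra cover `Spec R` is jointly faithfully flat. -/
lemma faithfullyFlat_pi {ι : Type*} [Finite ι] (B : ι → Type*) [∀ i, CommRing (B i)] [∀ i, Algebra R (B i)]
    (hB : ∀ i, Module.Flat R (B i))
    (hs : ∀ p : PrimeSpectrum R, ∃ i, ∃ q : PrimeSpectrum (B i), PrimeSpectrum.comap (algebraMap R (B i)) q = p) :
    Module.FaithfullyFlat R (∀ i, B i) := by
  classical
  have := Fintype.ofFinite ι
  rw [Module.FaithfullyFlat.iff_flat_and_ideal_smul_eq_top]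
  refine ⟨Module.Flat.of_linearEquiv (DirectSum.linearEquivFunOnFintype R ι B).symm, fun I hI => ?_⟩
  by_contra hne
  obtain ⟨m, hm, hIm⟩ := Ideal.exists_le_maximal I hne
  obtain ⟨i, q, hq⟩ := hs ⟨m, hm.isPrime⟩
  have h2 : (1 : ∀ i, B i) ∈ I • (⊤ : Submodule R (∀ i, B i)) := by rw [hI]; trivial
  have h3 : ∀ x ∈ I • (⊤ : Submodule R (∀ i, B i)), x i ∈ q.asIdeal := by
    intro x hx
    refine Submodule.smul_induction_on hx ?_ ?_
    · intro r hr y _
      rw [Pi.smul_apply, Algebra.smul_def]
      refine Ideal.mul_mem_right _ _ ?_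
      have : r ∈ (PrimeSpectrum.comap (algebraMap R (B i)) q).asIdeal := by
        rw [hq]; exact hIm hr
      exact this
    · intro x y hx hy
      exact add_mem hx hy
  exact q.2.ne_top ((Ideal.eq_top_iff_one _).mpr (h3 _ h2))

/-- A commutative bialgebra which becomes a group algebra over each member of a finite flat covering family has a
normalised invariant integral. -/
theorem exists_haar {ι : Type*} [Fintype ι] (B : ι → Type*) [∀ i, CommRing (B i)] [∀ i, Algebra R (B i)]
    (hB : ∀ i, Module.Flat R (B i))
    (hs : ∀ p : PrimeSpectrum R, ∃ i, ∃ q : PrimeSpectrum (B i), PrimeSpectrum.comap (algebraMap R (B i)) q = p)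
    (M : ι → Type*) [∀ i, CommGroup (M i)] (g : ∀ i, GBasis (B i) (B i ⊗[R] D) (M i)) :
    ∃ μ : D →ₗ[R] R, IsInt μ := by
  classical
  choose l hl using fun i => exists_isInt_of_gbasis (g i)
  have h1 := faithfullyFlat_pi B hB hs
  exact exists_isInt (IsInt.pi hl)

end K7.IntDesc
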