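import Mathlib.AlgebraicGeometry.IdealSheaf.Functorial
import Mathlib.AlgebraicGeometry.Morphisms.Affine
import Mathlib.AlgebraicGeometry.Morphisms.UnderlyingMap
import Mathlib.AlgebraicGeometry.Morphisms.QuasiCompact

/-!
# A surjective morphism with trivial kernel is an epimorphism of schemes
-/

set_option autoImplicit false
universe u
open CategoryTheory AlgebraicGeometry TopologicalSpace

namespace K7.EpiKer

/-- A surjective morphism which is injective on sections is an epimorphism. -/
lemma epi_of_app_injective {X Y : Scheme.{u}} (f : X ⟶ Y) [Surjective f]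
    (h : ∀ U : Y.Opens, Function.Injective (f.app U).hom) : Epi f where
  left_cancellation {Z} a b hab := by
    have hb : ∀ y : Y, a y = b y := by
      intro y
      obtain ⟨x, rfl⟩ := f.surjective y
      rw [← Scheme.Hom.comp_apply, ← Scheme.Hom.comp_apply, hab]
    have hbase : a.base = b.base := by
      ext y
      exact hb y
    refine Scheme.Hom.ext hbase fun U => ?_
    ext s
    apply h
    have h1 := Scheme.Hom.congr_app hab U
    have h2 := congr($h1 s)
    rw [Scheme.Hom.comp_app, Scheme.Hom.comp_app] at h2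
    have h3 : ∀ (V V' : Y.Opens) (hV : V = V') (t : Γ(Y, V)),
        (f.app V').hom ((Y.presheaf.map (eqToHom (by rw [hV])).op).hom t) =
          (X.presheaf.map (eqToHom (by rw [hV])).op).hom ((f.app V).hom t) := by
      rintro V _ rfl t
      simp
    have h4 : a ⁻¹ᵁ U = b ⁻¹ᵁ U := by
      ext y
      exact iff_of_eq (congrArg (· ∈ U) (hb y))
    refine (h3 _ _ h4 ((a.app U).hom s)).trans ?_
    have key : ∀ (V V' : X.Opens) (e : V = V') (t : Γ(X, V)) (t' : Γ(X, V')),
        t = (X.presheaf.map (eqToHom e).op).hom t' → (X.presheaf.map (eqToHom e.symm).op).hom t = t' := by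
      rintro V _ rfl t t' h
      simpa using h
    exact key _ _ _ _ _ h2

lemma app_injective_of_ker_eq_bot {X Y : Scheme.{u}} (f : X ⟶ Y) [QuasiCompact f] (h : f.ker = ⊥)
    (U : Y.Opens) : Function.Injective (f.app U).hom := by
  rw [injective_iff_map_eq_zero]
  intro s hs
  have h1 : ∀ V : Y.affineOpens, Function.Injective (f.app V).hom := by
    intro V
    rw [RingHom.injective_iff_ker_eq_bot, ← Scheme.Hom.ker_apply, h]
    rfl
  refine Y.IsSheaf.section_ext fun y hy => ?_
  obtain ⟨V, hV, hyV, hVU⟩ := exists_isAffineOpen_mem_and_subset (x := y) (U := U) hy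
  refine ⟨V, hVU, hyV, ?_⟩
  apply h1 ⟨V, hV⟩
  change (f.app V).hom ((Y.presheaf.map _).hom s) = (f.app V).hom ((Y.presheaf.map _).hom 0)
  rw [map_zero, map_zero, ← RingHom.comp_apply, ← CommRingCat.hom_comp, Scheme.Hom.naturality,
    CommRingCat.hom_comp, RingHom.comp_apply, hs, map_zero]

end K7.EpiKer
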