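import Groth.Agent.SGA3x.K7.MTHaar
import Groth.Agent.Sga3A.MTFamily
import Groth.Agent.Sga3A.TypeLemma
import Groth.Agent.Sga3A.MTConst

/-!
# Hopf algebras of multiplicative type: integral, flatness; comparison with `IsMT`
-/

set_option autoImplicit false

universe u

open CategoryTheory MonoidalCategory CartesianMonoidalCategory MonObj GrpObj AlgebraicGeometry Limits
open TensorProduct
open Groth.Agent Groth.Agent.Books.AffBridge Groth.Agent.Sga3A Groth.Agent.Sga3A.MTBasis Groth.Agent.Sga3B
open Groth.Agent.Sga3B.TorusAlgClosed SGA3b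

namespace K7.MTQI

section alg

variable {R : Type u} [CommRing R]

/-- A jointly pure finite family of flat algebras is jointly faithfully flat. -/
lemma faithfullyFlat_pi {J : Type u} [Finite J] (S : J → Type u) [∀ i, CommRing (S i)] [∀ i, Algebra R (S i)]
    (h1 : GLBasic.JointlyPure R S) (h2 : ∀ i, Module.Flat R (S i)) : Module.FaithfullyFlat R (∀ i, S i) := by
  classical
  have := Fintype.ofFinite J
  rw [Module.FaithfullyFlat.iff_flat_and_lTensor_faithful]
  refine ⟨Module.Flat.of_linearEquiv (DirectSum.linearEquivFunOnFintype R J S).symm, fun N _ _ hN => ?_⟩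
  obtain ⟨n, hn⟩ := exists_ne (0 : N)
  by_contra hcon
  rw [not_nontrivial_iff_subsingleton] at hcon
  apply hn
  refine h1 N n fun i => ?_
  have h3 : (LinearMap.proj (R := R) (φ := S) i).rTensor N ((1 : ∀ i, S i) ⊗ₜ[R] n) = (1 : S i) ⊗ₜ[R] n := rfl
  rw [← h3, Subsingleton.elim ((1 : ∀ i, S i) ⊗ₜ[R] n) 0, map_zero]

variable {A : Type u} [CommRing A] [HopfAlgebra R A]

lemma exists_gbasis_of_isDiag {R : Type u} [CommRing R] {A : Type u} [CommRing A] [HopfAlgebra R A]
    (h : IsDiag R A) : ∃ (M : Type u) (_ : CommGroup M), Nonempty (GBasis R A M) := by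
  obtain ⟨M, _, ⟨e⟩⟩ := h
  exact ⟨M, inferInstance, ⟨GBasis.ofBialgEquiv e⟩⟩

/-- The invariant integral of a Hopf algebra of multiplicative type. -/
theorem exists_isInt (h : IsMultType R A) : ∃ l : A →ₗ[R] R, IntDesc.IsInt l := by
  obtain ⟨J, _, S, _, _, hS, hf, hd⟩ := MTFamily.exists_family h
  have := Fintype.ofFinite J
  have := faithfullyFlat_pi S hS hf
  choose M hM g using fun i => exists_gbasis_of_isDiag (hd i)
  choose l hl using fun i => IntDesc.exists_isInt_of_gbasis (g i).some
  exact IntDesc.exists_isInt (IntDesc.IsInt.pi hl)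

/-- A Hopf algebra of multiplicative type is flat. -/
theorem flat (h : IsMultType R A) : Module.Flat R A := by
  obtain ⟨J, _, S, _, _, hS, hf, hd⟩ := MTFamily.exists_family h
  rw [Module.Flat.iff_lTensor_preserves_injective_linearMap]
  intro N P _ _ _ _ f hfi
  rw [injective_iff_map_eq_zero]
  intro z hz
  refine hS _ z fun i => ?_
  obtain ⟨M, _, ⟨g⟩⟩ := exists_gbasis_of_isDiag (hd i)
  have h0 : Module.Free (S i) (S i ⊗[R] A) := Module.Free.of_basis g.b
  have h1 : Module.Flat (S i) (S i ⊗[R] A) := Module.Flat.of_free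
  have h2 : Module.Flat R (S i ⊗[R] A) := Module.Flat.trans R (S i) _
  have h3 := Module.Flat.lTensor_preserves_injective_linearMap (M := S i ⊗[R] A) f hfi
  have h4 : (f.lTensor (S i ⊗[R] A)) ((TensorProduct.assoc R (S i) A N).symm (1 ⊗ₜ z)) = 0 := by
    have h5 : ∀ w : A ⊗[R] N, (f.lTensor (S i ⊗[R] A)) ((TensorProduct.assoc R (S i) A N).symm (1 ⊗ₜ w)) =
        (TensorProduct.assoc R (S i) A P).symm (1 ⊗ₜ (f.lTensor A w)) := by
      intro w
      induction w using TensorProduct.induction_on with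
      | zero => simp
      | tmul a n => simp
      | add a b ha hb => rw [TensorProduct.tmul_add, map_add, map_add, ha, hb, map_add, TensorProduct.tmul_add, map_add]
    rw [h5, hz, TensorProduct.tmul_zero, map_zero]
  have h5 := h3 (h4.trans (map_zero _).symm)
  exact (TensorProduct.assoc R (S i) A N).symm.injective (h5.trans (map_zero _).symm)

end alg

/-- The Hopf algebra of a group of multiplicative type is of multiplicative type. -/
theorem isMultType_of_isMT {R : Type u} [CommRing R] {A : Type u} [CommRing A] [HopfAlgebra R A]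
    {H : Over (Spec (CommRingCat.of R))} [GrpObj H] (h : MTHaar.IsMT H) (e : H ≅ SpecOver R A) [IsMonHom e.hom] :
    IsMultType R A := by
  classical
  obtain ⟨J, _, B, _, _, hB, hs, hsp⟩ := FinCover.exists_finite_cover (fun {T T'} g f _ hP => by
    obtain ⟨M, _, ⟨i⟩⟩ := hP
    exact ⟨M, inferInstance, ⟨BcIso.bcCompIso g f H ≪≫ BcIso.bcMapIso g i ≪≫ dsBcIso g M⟩⟩) h
  choose M hM hi using hsp
  have hg : ∀ i, Nonempty (GBasis (B i) (B i ⊗[R] A) (K10.MTLoc.Mu.{u} (M i))) := by
    intro i
    refine (K10.MTLoc.isSplit_iff (M i)).mp ?_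
    obtain ⟨j⟩ := hi i
    exact ⟨BcIso.bcMapIso _ (Grp.mkIso' e).symm ≪≫ j⟩
  let B' : ULift.{u} J → Type u := fun i => B i.down
  have h1 : Module.FaithfullyFlat R (∀ i, B' i) := IntDesc.faithfullyFlat_pi B' (fun i => hB i.down)
    (fun p => by
      obtain ⟨i, q, hq⟩ := hs p
      exact ⟨⟨i⟩, q, hq⟩)
  exact TypeLemma.isMultType_of_family B' (fun i => MTConst.isDiag_of_gbasis (hg i.down).some)

end K7.MTQI
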