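import Groth.Agent.SGA3x.K7.Chart

/-!
# Loci of homomorphisms of groups of multiplicative type

`exists_clopen_locus`: for a homomorphism `f` of groups of multiplicative type and of finite type over `S`, the locus
where `f` has a property `P` is open and closed, and `f` has `P` above it; `P` is fpqc local on the target, and on
`D(φ) : D(M) ⟶ D(N)` it only depends on `φ` (monomorphisms, isomorphisms, faithfully flat morphisms).
-/

set_option autoImplicit false

universe u

open CategoryTheory MonoidalCategory CartesianMonoidalCategory MonObj GrpObj AlgebraicGeometry Limits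
open Groth.Agent Groth.Agent.Sga3B Groth.Agent.Sga3B.RedIso

namespace K7.Clopen

lemma residueField_flat_surj {K L : Type u} [Field K] [Field L] (φ : K →+* L) :
    Flat (Spec.map (CommRingCat.ofHom φ)) ∧ Surjective (Spec.map (CommRingCat.ofHom φ)) ∧
      QuasiCompact (Spec.map (CommRingCat.ofHom φ)) := by
  refine ⟨?_, ?_, inferInstance⟩
  · rw [HasRingHomProperty.Spec_iff (P := @Flat)]
    let _ := φ.toAlgebra
    exact (inferInstance : Module.Flat K L)
  · constructor
    intro x
    exact ⟨IsLocalRing.closedPoint L, Subsingleton.elim (α := PrimeSpectrum K) _ _⟩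

variable {S : Scheme.{u}} {G H : Over S} [GrpObj G] [GrpObj H]

theorem exists_clopen_locus (hG : SGA3x.IsMultTypeFT G) (hH : SGA3x.IsMultTypeFT H) (f : G ⟶ H) [IsMonHom f]
    (P : MorphismProperty Scheme.{u}) [P.IsStableUnderBaseChange] [IsZariskiLocalAtTarget P]
    [P.DescendsAlong (@Surjective ⊓ @Flat ⊓ @QuasiCompact)]
    (p : ∀ {M N : Type} [AddCommGroup M] [AddCommGroup N], (N →+ M) → Prop)
    (h1 : ∀ {M N : Type} [AddCommGroup M] [AddCommGroup N] (φ : N →+ M) (T : Scheme.{u}), p φ → P (Red.DSmap T φ).left)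
    (h2 : ∀ {M N : Type} [AddCommGroup M] [AddCommGroup N] (φ : N →+ M) (K : Type u) [Field K],
      P (Red.DSmap (Spec (CommRingCat.of K)) φ).left → p φ) :
    ∃ U : S.Opens, IsClosed (U : Set S) ∧ (∀ s : S, s ∈ U ↔ Loc.Has P f (S.fromSpecResidueField s)) ∧
      Loc.Has P f U.ι := by
  let Z : Set S := {s | Loc.Has P f (S.fromSpecResidueField s)}
  have key : ∀ s : S, ∃ (R : CommRingCat.{u}) (c : Spec R ⟶ S) (q : Prop), Etale c ∧ s ∈ Set.range c ∧
      (∀ y : Spec R, c y ∈ Z ↔ q) ∧ (q → Loc.Has P f c) := by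
    intro s
    obtain ⟨R, c, M, N, _, _, φ, e₁, e₂, -, -, hc, hs, h⟩ := Chart.exists_chart hG hH f s
    refine ⟨R, c, p φ, hc, hs, fun y => ?_, fun hq => ?_⟩
    · have e : Spec.map (c.residueFieldMap y) ≫ S.fromSpecResidueField (c y) =
        (Spec R).fromSpecResidueField y ≫ c := Scheme.Hom.SpecMap_residueFieldMap_fromSpecResidueField c y
      obtain ⟨i1, i2, i3⟩ := residueField_flat_surj (c.residueFieldMap y).hom
      have i1' : Flat (Spec.map (c.residueFieldMap y)) := i1
      have i2' : Surjective (Spec.map (c.residueFieldMap y)) := i2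
      have i3' : QuasiCompact (Spec.map (c.residueFieldMap y)) := i3
      have e1 : c y ∈ Z ↔ Loc.Has P f ((Spec R).fromSpecResidueField y ≫ c) := by
        rw [← e]
        exact ⟨fun h => h.bc _, fun h => Loc.has_of_fpqc _ h⟩
      rw [e1, Chart.has_chart_iff h]
      exact ⟨fun h => h2 φ ((Spec R).residueField y) h, fun h => h1 φ _ h⟩
    · have h3 := (Chart.has_chart_iff h P (𝟙 (Spec R))).mpr (h1 φ _ hq)
      exact h3.of_eq (Category.id_comp c)
  have hopen : IsOpen Z := by
    rw [isOpen_iff_forall_mem_open]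
    intro s hs
    obtain ⟨R, c, q, hc, ⟨y, hy⟩, hq, -⟩ := key s
    refine ⟨Set.range c, ?_, c.isOpenMap.isOpen_range, ⟨y, hy⟩⟩
    rintro _ ⟨z, rfl⟩
    rw [hq]
    rw [← hq y, hy]
    exact hs
  have hclosed : IsClosed Z := by
    rw [← isOpen_compl_iff, isOpen_iff_forall_mem_open]
    intro s hs
    obtain ⟨R, c, q, hc, ⟨y, hy⟩, hq, -⟩ := key s
    refine ⟨Set.range c, ?_, c.isOpenMap.isOpen_range, ⟨y, hy⟩⟩
    rintro _ ⟨z, rfl⟩
    rw [Set.mem_compl_iff, hq, ← hq y, hy]
    exact hs
  let U : S.Opens := ⟨Z, hopen⟩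
  refine ⟨U, hclosed, fun s => Iff.rfl, ?_⟩
  apply Loc.has_of_locally
  intro t
  obtain ⟨R, c, q, hc, ⟨y, hy⟩, hq, hq'⟩ := key t.1
  have hqt : q := by
    rw [← hq y, hy]
    exact t.2
  have hr : Set.range c ⊆ Set.range U.ι := by
    rw [Scheme.Opens.range_ι]
    rintro _ ⟨z, rfl⟩
    exact (hq z).mpr hqt
  let g : Spec R ⟶ U := IsOpenImmersion.lift U.ι c hr
  have hg : g ≫ U.ι = c := IsOpenImmersion.lift_fac _ _ _
  have hgc : Etale g := by
    have : Etale (g ≫ U.ι) := by rw [hg]; exact hc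
    exact MorphismProperty.of_postcomp (W := @Etale) (W' := @IsOpenImmersion) g U.ι inferInstance this
  refine ⟨Spec R, g, inferInstance, inferInstance, ⟨y, U.ι.injective ?_⟩, (hq' hqt).of_eq hg.symm⟩
  rw [← Scheme.Hom.comp_apply, hg]
  exact hy

end K7.Clopen
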