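import Groth.Agent.SGA3x.K6.Const
import Groth.Agent.SGA3x.K7.Loc
import Groth.Agent.NoriFGS.K996.LocSplit
import Groth.Agent.Sga3C.LocConn
import Groth.Agent.Desc.MorDescent
import Groth.Agent.SGA3x.K10.TwFin
import Mathlib.AlgebraicGeometry.Morphisms.UniversallyInjective
import Mathlib.AlgebraicGeometry.Morphisms.Etale

/-!
# Descent of the triviality of a twisted constant scheme

* `sec`: the sections over `T` of a scheme `X` over `S` trivialised over `f : T ⟶ S`.
* `nonempty_iso_const`: if the sections attached to a trivialisation over `g : T' ⟶ T` (faithfully flat,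
  quasi-compact) are compatible with the descent data, the scheme is constant over `T`.
* `exists_open_agree`: for `m : V ⟶ U` finite with a unique point over `u`, with purely inseparable residue
  extension, and a family of sections over `V` of an étale separated `U`-scheme, there is an open neighbourhood
  of `u` over which all the sections are compatible with the two projections of `V ×_U V`.
-/

set_option autoImplicit false
open CategoryTheory CategoryTheory.Limits AlgebraicGeometry MonoidalCategory CartesianMonoidalCategory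
universe u

namespace K7.ConstDesc

open TwC

section Desc

variable {S T : Scheme.{u}} {X : Over S} {f : T ⟶ S} {I : Type u}

/-- the section of index `i` -/
noncomputable def sec (φ : Red.bc f X ≅ const T I) (i : I) : T ⟶ X.left :=
  (pt T I i ≫ φ.inv).left ≫ pullback.fst X.hom f

lemma sec_hom (φ : Red.bc f X ≅ const T I) (i : I) : sec φ i ≫ X.hom = f := by
  have h1 : (pt T I i ≫ φ.inv).left ≫ pullback.snd X.hom f = 𝟙 T := Over.w (pt T I i ≫ φ.inv)
  rw [sec, Category.assoc, pullback.condition, reassoc_of% h1]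
  exact Category.id_comp f

lemma over_hom_ext {Z : Over T} {a b : Z ⟶ Red.bc f X}
    (h : a.left ≫ pullback.fst X.hom f = b.left ≫ pullback.fst X.hom f) : a = b := by
  ext1
  apply pullback.hom_ext h
  have h1 : a.left ≫ pullback.snd X.hom f = Z.hom := Over.w a
  have h2 : b.left ≫ pullback.snd X.hom f = Z.hom := Over.w b
  rw [h1, h2]

lemma const_hom_ext {Z : Over T} {a b : const T I ⟶ Z} (h : ∀ i, pt T I i ≫ a = pt T I i ≫ b) : a = b := by
  ext1
  refine Sigma.hom_ext _ _ fun i => ?_
  exact congr($(h i).left)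

/-- iterated base change -/
noncomputable def bcIso (X : Over S) (f : T ⟶ S) {T' : Scheme.{u}} (k : T' ⟶ T) :
    Red.bc (k ≫ f) X ≅ Red.bc k (Red.bc f X) :=
  Over.isoMk (Loc.isPullback_cmp X f k).isoPullback (Loc.isPullback_cmp X f k).isoPullback_hom_snd

lemma bcIso_hom_fst (X : Over S) (f : T ⟶ S) {T' : Scheme.{u}} (k : T' ⟶ T) :
    (bcIso X f k).hom.left ≫ pullback.fst (Red.bc f X).hom k = Loc.cmp X f k :=
  (Loc.isPullback_cmp X f k).isoPullback_hom_fst

lemma bcIso_inv_cmp (X : Over S) (f : T ⟶ S) {T' : Scheme.{u}} (k : T' ⟶ T) :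
    (bcIso X f k).inv.left ≫ Loc.cmp X f k = pullback.fst (Red.bc f X).hom k :=
  (Loc.isPullback_cmp X f k).isoPullback_inv_fst

lemma exists_bc (φ : Red.bc f X ≅ const T I) {T' : Scheme.{u}} (k : T' ⟶ T) (f' : T' ⟶ S) (h : k ≫ f = f') :
    ∃ φ' : Red.bc f' X ≅ const T' I, ∀ i, sec φ' i = k ≫ sec φ i := by
  subst h
  refine ⟨bcIso X f k ≪≫ (Over.pullback k).mapIso φ ≪≫ K6.Const.bcConst I k, fun i => ?_⟩
  have e1 : ((Over.pullback k).map φ.inv).left ≫ pullback.fst (Red.bc f X).hom k =
    pullback.fst (const T I).hom k ≫ φ.inv.left := pullback.lift_fst _ _ _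
  have e2 := K6.Const.pt_bcConst_inv I k i
  have e3 : pullback.fst X.hom (k ≫ f) = Loc.cmp X f k ≫ pullback.fst X.hom f := (Loc.cmp_fst X f k).symm
  calc (pt T' I i ≫ ((K6.Const.bcConst I k).inv ≫ (Over.pullback k).map φ.inv) ≫ (bcIso X f k).inv).left ≫
        pullback.fst X.hom (k ≫ f)
      = ((pt T' I i ≫ (K6.Const.bcConst I k).inv).left ≫ ((Over.pullback k).map φ.inv).left ≫
          (bcIso X f k).inv.left) ≫ Loc.cmp X f k ≫ pullback.fst X.hom f := by
        rw [e3, ← Over.comp_left, ← Over.comp_left]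
        simp only [Category.assoc]
    _ = (pt T' I i ≫ (K6.Const.bcConst I k).inv).left ≫ ((Over.pullback k).map φ.inv).left ≫
          pullback.fst (Red.bc f X).hom k ≫ pullback.fst X.hom f := by
        rw [← bcIso_inv_cmp]
        simp only [Category.assoc]
    _ = ((pt T' I i ≫ (K6.Const.bcConst I k).inv).left ≫ pullback.fst (const T I).hom k) ≫ φ.inv.left ≫
          pullback.fst X.hom f := by
        rw [reassoc_of% e1, Category.assoc]
    _ = k ≫ sec φ i := by
        rw [e2, sec, Over.comp_left]
        simp only [Category.assoc]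

lemma exists_bcbc {T' : Scheme.{u}} (k : T' ⟶ T) (f' : T' ⟶ S) (h : k ≫ f = f') (φ : Red.bc f' X ≅ const T' I) :
    ∃ φ' : Red.bc k (Red.bc f X) ≅ const T' I, ∀ i, sec φ' i ≫ pullback.fst X.hom f = sec φ i := by
  subst h
  refine ⟨(bcIso X f k).symm ≪≫ φ, fun i => ?_⟩
  calc ((pt T' I i ≫ φ.inv ≫ (bcIso X f k).hom).left ≫ pullback.fst (Red.bc f X).hom k) ≫ pullback.fst X.hom f
      = ((pt T' I i ≫ φ.inv).left ≫ (bcIso X f k).hom.left ≫ pullback.fst (Red.bc f X).hom k) ≫
          pullback.fst X.hom f := by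
        rw [← Category.assoc (pt T' I i), Over.comp_left]
        simp only [Category.assoc]
    _ = sec φ i := by
        rw [bcIso_hom_fst, Category.assoc, Loc.cmp_fst, sec]

end Desc

section Desc2

variable {T T' : Scheme.{u}} (Y : Over T) (g : T' ⟶ T) {I : Type u}

theorem nonempty_iso_const [Flat g] [Surjective g] [QuasiCompact g] (φ : Red.bc g Y ≅ const T' I)
    (h : ∀ (i : I) (V : Scheme.{u}) (p p' : V ⟶ T'), p ≫ g = p' ≫ g → p ≫ sec φ i = p' ≫ sec φ i) :
    Nonempty (Y ≅ const T I) := by
  have hg : K996.LocSplit.LS g := K996.LocSplit.LS.of_flat g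
  have he := hg.epi
  choose s hs using fun i => hg.desc (sec φ i) (h i)
  have hs' : ∀ i, s i ≫ Y.hom = 𝟙 T := by
    intro i
    rw [← cancel_epi g, reassoc_of% (hs i), sec_hom, Category.comp_id]
  let ψ : const T I ⟶ Y := Over.homMk (Sigma.desc s) (Sigma.hom_ext _ _ fun i => by simp [hs'])
  have hψ : ∀ i, (pt T I i).left ≫ ψ.left = s i := fun i => Sigma.ι_desc _ _
  have key : (K6.Const.bcConst I g).inv ≫ (Over.pullback g).map ψ = φ.inv := by
    refine const_hom_ext fun i => over_hom_ext ?_
    have e1 : ((Over.pullback g).map ψ).left ≫ pullback.fst Y.hom g = pullback.fst _ g ≫ ψ.left :=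
      pullback.lift_fst _ _ _
    have e2 := K6.Const.pt_bcConst_inv I g i
    calc (pt T' I i ≫ (K6.Const.bcConst I g).inv ≫ (Over.pullback g).map ψ).left ≫ pullback.fst Y.hom g
        = ((pt T' I i ≫ (K6.Const.bcConst I g).inv).left ≫ ((Over.pullback g).map ψ).left) ≫
            pullback.fst Y.hom g := by
          rw [← Over.comp_left, Category.assoc]
      _ = (pt T' I i ≫ (K6.Const.bcConst I g).inv).left ≫ pullback.fst _ g ≫ ψ.left := by
          rw [Category.assoc, e1]
      _ = g ≫ (pt T I i).left ≫ ψ.left := by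
          rw [reassoc_of% e2]
      _ = sec φ i := by rw [hψ, hs]
  have hiso : IsIso ((Over.pullback g).map ψ) := by
    have : (Over.pullback g).map ψ = (K6.Const.bcConst I g).hom ≫ φ.inv := by
      rw [← key, Iso.hom_inv_id_assoc]
    rw [this]
    infer_instance
  have h1 : Loc.Has (MorphismProperty.isomorphisms Scheme.{u}) ψ (g ≫ 𝟙 T) := by
    rw [Category.comp_id]
    exact (Over.forget T').map_isIso ((Over.pullback g).map ψ)
  have h2 : Loc.Has (MorphismProperty.isomorphisms Scheme.{u}) ψ (𝟙 T) := Loc.has_of_fpqc g h1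
  have h3 : IsIso ((Over.pullback (𝟙 T)).map ψ).left := h2
  have h4 : IsIso ψ.left := by
    have sq := Loc.isPullback_map (𝟙 T) ψ
    have i1 : IsIso (pullback.fst (const T I).hom (𝟙 T)) := inferInstance
    have i2 : IsIso (pullback.fst Y.hom (𝟙 T)) := inferInstance
    have : pullback.fst (const T I).hom (𝟙 T) ≫ ψ.left =
      ((Over.pullback (𝟙 T)).map ψ).left ≫ pullback.fst Y.hom (𝟙 T) := sq.w
    rw [← Category.id_comp ψ.left, ← IsIso.inv_hom_id (pullback.fst (const T I).hom (𝟙 T)), Category.assoc, this]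
    infer_instance
  have h5 : IsIso ψ := by
    have : IsIso ((Over.forget T).map ψ) := h4
    exact isIso_of_reflects_iso ψ (Over.forget T)
  exact ⟨(asIso ψ).symm⟩

end Desc2

section Locus

/-- the locus where two sections of an étale separated morphism agree is open and closed -/
theorem exists_clopen_agree {W Y U : Scheme.{u}} (p : Y ⟶ U) [Etale p] [IsSeparated p] (a b : W ⟶ Y)
    (h : a ≫ p = b ≫ p) :
    ∃ Z : Set W, IsClopen Z ∧ ∀ {W' : Scheme.{u}} (t : W' ⟶ W), t ≫ a = t ≫ b ↔ Set.range t ⊆ Z := by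
  let E := pullback (pullback.lift a b h) (pullback.diagonal p)
  let ι : E ⟶ W := pullback.fst (pullback.lift a b h) (pullback.diagonal p)
  have i1 : IsOpenImmersion ι := inferInstance
  have i2 : IsClosedImmersion ι := inferInstance
  have hι : ι ≫ a = ι ≫ b := by
    have h1 : ι ≫ pullback.lift a b h = pullback.snd _ _ ≫ pullback.diagonal p := pullback.condition
    have h2 := congr($h1 ≫ pullback.fst p p)
    have h3 := congr($h1 ≫ pullback.snd p p)
    rw [Category.assoc, Category.assoc, pullback.lift_fst, pullback.diagonal_fst, Category.comp_id] at h2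
    rw [Category.assoc, Category.assoc, pullback.lift_snd, pullback.diagonal_snd, Category.comp_id] at h3
    rw [h2, h3]
  refine ⟨Set.range ι, ⟨ι.isClosedEmbedding.isClosed_range, ι.isOpenEmbedding.isOpen_range⟩, fun {W'} t => ⟨fun ht => ?_, fun ht => ?_⟩⟩
  · let t' : W' ⟶ E := pullback.lift t (t ≫ a) (by
      apply pullback.hom_ext
      · rw [Category.assoc, pullback.lift_fst, Category.assoc, pullback.diagonal_fst, Category.comp_id]
      · rw [Category.assoc, pullback.lift_snd, Category.assoc, pullback.diagonal_snd, Category.comp_id, ht])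
    have e : t' ≫ ι = t := pullback.lift_fst _ _ _
    rw [← e, Scheme.Hom.comp_base, TopCat.coe_comp]
    exact Set.range_comp_subset_range _ _
  · have e : IsOpenImmersion.lift ι t ht ≫ ι = t := IsOpenImmersion.lift_fac _ _ _
    rw [← e, Category.assoc, Category.assoc, hι]

set_option backward.isDefEq.respectTransparency.types false in
set_option backward.defeqAttrib.useBackward true in
/-- Two field valued points with the same image in the target are equal when they lie on the same point, whose
residue field extension is purely inseparable. -/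
theorem eq_of_purelyInsep {X Y : Scheme.{u}} (f : X ⟶ Y) (x : X) (hf : (f.residueFieldMap x).hom.IsPurelyInseparable)
    (K : Type u) [Field K] (g₁ g₂ : Spec (.of K) ⟶ X) (h₁ : g₁ (IsLocalRing.closedPoint K) = x)
    (h₂ : g₂ (IsLocalRing.closedPoint K) = x) (hg : g₁ ≫ f = g₂ ≫ f) : g₁ = g₂ := by
  subst h₁
  obtain ⟨e, h⟩ := Scheme.SpecToEquivOfField_eq_iff.mp congr((Y.SpecToEquivOfField K) $(hg))
  apply (X.SpecToEquivOfField K).injective
  dsimp at e h
  simp only [Scheme.descResidueField_stalkClosedPointTo_comp] at e h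
  rw [← f.residueFieldMap_congr'_assoc h₂.symm, CommRingCat.hom_ext_iff] at h
  rw [Scheme.SpecToEquivOfField_eq_iff]
  algebraize [(f.residueFieldMap (g₁ (IsLocalRing.closedPoint K))).hom]
  refine ⟨h₂.symm, CommRingCat.hom_ext ?_⟩
  exact IsPurelyInseparable.injective_comp_algebraMap
    (Y.residueField (f (g₁ (IsLocalRing.closedPoint K)))) (X.residueField (g₁ (IsLocalRing.closedPoint K))) _ h

/-- For `m : V ⟶ U` finite over a locally Noetherian base with a unique point over `m v`, at which field valued
points are determined by their image in `U`: any family of sections over `V` of an étale separated `U`-scheme is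
compatible with the two projections of `V ×_U V` over an open neighbourhood of `m v`. -/
theorem exists_open_agree {U V Y : Scheme.{u}} [IsLocallyNoetherian U] (m : V ⟶ U) [IsFinite m]
    (p : Y ⟶ U) [Etale p] [IsSeparated p] {I : Type u} (σ : I → (V ⟶ Y)) (hσ : ∀ i, σ i ≫ p = m)
    (v : V) (hv : ∀ v' : V, m v' = m v → v' = v)
    (hpi : ∀ (K : Type u) [Field K] (g₁ g₂ : Spec (.of K) ⟶ V), g₁ (IsLocalRing.closedPoint K) = v →
      g₂ (IsLocalRing.closedPoint K) = v → g₁ ≫ m = g₂ ≫ m → g₁ = g₂) :
    ∃ O : U.Opens, m v ∈ O ∧ ∀ (i : I) {W' : Scheme.{u}} (q q' : W' ⟶ V), q ≫ m = q' ≫ m →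
      (∀ w : W', m (q w) ∈ O) → q ≫ σ i = q' ≫ σ i := by
  let W := pullback m m
  have hWn : IsLocallyNoetherian W := LocallyOfFiniteType.isLocallyNoetherian (pullback.fst m m ≫ m)
  have hlc : LocallyConnectedSpace W := Groth.Agent.Sga3C.LocConn.locallyConnectedSpace_of_isLocallyNoetherian W
  let D : Set W := Set.range (pullback.diagonal m)
  let N : Set W := {w | connectedComponent w ∩ D = ∅}
  have hcomp : ∀ w w' : W, w' ∈ connectedComponent w → connectedComponent w' = connectedComponent w :=
    fun w w' h => (connectedComponent_eq h).symm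
  have hNc : IsClosed N := by
    rw [← isOpen_compl_iff, isOpen_iff_forall_mem_open]
    intro w hw
    refine ⟨connectedComponent w, fun w' hw' hN => hw ?_, isOpen_connectedComponent, mem_connectedComponent⟩
    have h1 : connectedComponent w' ∩ D = ∅ := hN
    rw [hcomp w w' hw'] at h1
    exact h1
  let π : W ⟶ U := pullback.fst m m ≫ m
  have hπ : IsFinite π := inferInstance
  have hcl : IsClosed (π '' N) := π.isClosedMap _ hNc
  refine ⟨⟨(π '' N)ᶜ, hcl.isOpen_compl⟩, ?_, ?_⟩
  · rintro ⟨w, hw, hwv⟩
    have h1 : pullback.fst m m w = v := hv _ (by rw [← hwv]; rfl)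
    have h2 : pullback.snd m m w = v := hv _ (by
      rw [← hwv, ← Scheme.Hom.comp_apply, ← pullback.condition])
    let a := W.fromSpecResidueField w
    have ha : a (IsLocalRing.closedPoint _) = w := Scheme.fromSpecResidueField_apply _ _
    have h3 : a ≫ pullback.fst m m = a ≫ pullback.snd m m := by
      refine hpi (W.residueField w) _ _ ?_ ?_ ?_
      · rw [Scheme.Hom.comp_apply, ha, h1]
      · rw [Scheme.Hom.comp_apply, ha, h2]
      · rw [Category.assoc, Category.assoc, pullback.condition]
    have h4 : a = (a ≫ pullback.fst m m) ≫ pullback.diagonal m := by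
      apply pullback.hom_ext
      · simp
      · simp [h3]
    have h5 : w ∈ D := by
      refine ⟨(a ≫ pullback.fst m m) (IsLocalRing.closedPoint _), ?_⟩
      rw [← Scheme.Hom.comp_apply, ← h4, ha]
    have h6 : w ∈ connectedComponent w ∩ D := ⟨mem_connectedComponent, h5⟩
    have h7 : connectedComponent w ∩ D = ∅ := hw
    rw [h7] at h6
    exact h6
  · intro i W' q q' hq hO
    obtain ⟨Z, hZ, hZ'⟩ := exists_clopen_agree p (pullback.fst m m ≫ σ i) (pullback.snd m m ≫ σ i)
      (by rw [Category.assoc, Category.assoc, hσ, pullback.condition])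
    have hD : D ⊆ Z := (hZ' (pullback.diagonal m)).mp (by simp)
    let t : W' ⟶ W := pullback.lift q q' hq
    have h1 : Set.range t ⊆ Z := by
      rintro _ ⟨w, rfl⟩
      have h2 : t w ∉ N := by
        intro hN
        refine hO w ⟨t w, hN, ?_⟩
        rw [← Scheme.Hom.comp_apply, ← Scheme.Hom.comp_apply]
        congr 1
        rw [← Category.assoc, pullback.lift_fst]
      obtain ⟨d, hd1, hd2⟩ := Set.nonempty_iff_ne_empty.mpr h2
      have h3 : connectedComponent d ⊆ Z := hZ.connectedComponent_subset (hD hd2)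
      rw [hcomp _ _ hd1] at h3
      exact h3 mem_connectedComponent
    have h2 := (hZ' t).mpr h1
    rwa [pullback.lift_fst_assoc, pullback.lift_snd_assoc] at h2

/-- A scheme over a locally Noetherian scheme `U`, which becomes constant over a finite flat cover `V` with a unique
point `v` over `m v` and purely inseparable residue extension, is constant over a neighbourhood of `m v`. -/
theorem exists_open_const {U V : Scheme.{u}} [IsLocallyNoetherian U] (m : V ⟶ U) [IsFinite m] [Flat m] [Surjective m]
    (Y : Over U) {I : Type u} (φ : Red.bc m Y ≅ const V I)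
    (v : V) (hv : ∀ v' : V, m v' = m v → v' = v)
    (hpi : ∀ (K : Type u) [Field K] (g₁ g₂ : Spec (.of K) ⟶ V), g₁ (IsLocalRing.closedPoint K) = v →
      g₂ (IsLocalRing.closedPoint K) = v → g₁ ≫ m = g₂ ≫ m → g₁ = g₂) :
    ∃ O : U.Opens, m v ∈ O ∧ Nonempty (Red.bc O.ι Y ≅ const (O : Scheme.{u}) I) := by
  have e0 : pullback.snd Y.hom m = φ.hom.left ≫ (const V I).hom := (Over.w φ.hom).symm
  have h1 : Etale Y.hom := by
    have : Etale (pullback.snd Y.hom m) := by
      rw [e0]
      infer_instance
    exact MorphismProperty.of_isPullback_of_descendsAlong (P := @Etale) (Q := @Surjective ⊓ @Flat ⊓ @QuasiCompact)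
      (IsPullback.of_hasPullback Y.hom m).flip ⟨⟨inferInstance, inferInstance⟩, inferInstance⟩ this
  have h2 : IsSeparated Y.hom := by
    have h3 : IsSeparated (const V I).hom := K10.TwFin.isSeparated_const I
    have : IsSeparated (pullback.snd Y.hom m) := by
      rw [e0]
      infer_instance
    have hd := Groth.Agent.Desc.MorDescent.descendsAlong_isSeparated.{u}
    exact MorphismProperty.of_isPullback_of_descendsAlong (P := @IsSeparated) (Q := @Surjective ⊓ @Flat ⊓ @QuasiCompact)
      (IsPullback.of_hasPullback Y.hom m).flip ⟨⟨inferInstance, inferInstance⟩, inferInstance⟩ this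
  obtain ⟨O, hO, H⟩ := exists_open_agree m Y.hom (sec φ) (sec_hom φ) v hv hpi
  refine ⟨O, hO, ?_⟩
  -- restrict to `O`
  let m' : pullback m O.ι ⟶ O := pullback.snd m O.ι
  let k : pullback m O.ι ⟶ V := pullback.fst m O.ι
  have hk : k ≫ m = m' ≫ O.ι := pullback.condition
  obtain ⟨φ₁, hφ₁⟩ := exists_bc φ k (m' ≫ O.ι) hk
  obtain ⟨φ₂, hφ₂⟩ := exists_bcbc (X := Y) (f := O.ι) m' (m' ≫ O.ι) rfl φ₁
  refine nonempty_iso_const (Red.bc O.ι Y) m' φ₂ fun i W' q q' hq => ?_
  have h4 : ∀ q : W' ⟶ pullback m O.ι, (q ≫ sec φ₂ i) ≫ pullback.snd Y.hom O.ι = q ≫ m' := by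
    intro q
    rw [Category.assoc]
    congr 1
    exact sec_hom φ₂ i
  apply pullback.hom_ext
  · rw [Category.assoc, Category.assoc, hφ₂, hφ₁, ← Category.assoc, ← Category.assoc]
    refine H i (q ≫ k) (q' ≫ k) (by rw [Category.assoc, Category.assoc, hk, reassoc_of% hq]) fun w => ?_
    have h5 : (q ≫ k) ≫ m = (q ≫ m') ≫ O.ι := by rw [Category.assoc, hk, Category.assoc]
    have h6 := congr($h5 w)
    rw [Scheme.Hom.comp_apply] at h6
    rw [h6]
    exact ((q ≫ m') w).2
  · rw [h4, h4, hq]

end Locus

end K7.ConstDesc
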