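import Groth.Agent.SGA3x.K7.MTQI
import Groth.Agent.SGA3x.K7.ConjGlobal
import Groth.Agent.SGA3x.K7.Loc
import Groth.Agent.SGA3x.K7.ActTriv
import Groth.Agent.Sga3A.FibSpread
import Groth.Agent.Sga3B.IsoFam
import Groth.Agent.S1316
import Groth.Agent.S2973
import Groth.Agent.S2979
import Groth.Agent.S2305

/-!
# Lifting of subgroups of multiplicative type of a smooth group along a nilpotent thickening
-/

set_option autoImplicit false

universe u

open CategoryTheory MonoidalCategory CartesianMonoidalCategory MonObj GrpObj AlgebraicGeometry Limits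
open TensorProduct
open Groth.Agent Groth.Agent.Books.AffBridge Groth.Agent.Sga3B Groth.Agent.Sga3B.InfConj
open Groth.Agent.Sga3B.BcPts Groth.Agent.Sga3B.IsoFam Groth.Agent.Sga3.H802.HomFam

namespace K7.SubLift

section fam

variable {S S' : Scheme.{u}} (f : S' ⟶ S) {X Y : Over S}

/-- the structural morphism of an `S'`-scheme, over `S` -/
noncomputable def st' (T : Over S') : (Over.map f).obj T ⟶ Over.mk f := Over.homMk T.hom

lemma ev_st (φ : Red.bc f X ⟶ Red.bc f Y) {T : Over S'} (p : T ⟶ Red.bc f X) :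
    ev φ ((bcEquiv f T X).symm p) (st' f T) = (bcEquiv f T Y).symm (p ≫ φ) := by
  let κ : Over.mk (st' f T).left ⟶ T := Over.homMk (𝟙 _) (by simp [st'])
  have h1 : (overIso (st' f T)).hom = (Over.map f).map κ := by
    ext1
    simp [κ, overIso]
  rw [ev, h1, ← comp_bcEquiv_symm, Equiv.apply_symm_apply, Category.assoc, comp_bcEquiv_symm, ← h1,
    Iso.inv_hom_id_assoc]

/-- A global morphism inducing a given family. -/
lemma pullback_map_eq (φ : Red.bc f X ⟶ Red.bc f Y) (j : X ⟶ Y) (h : fst X (Over.mk f) ≫ j = fam φ) :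
    (Over.pullback f).map j = φ := by
  have h1 : ∀ {T : Over S'} (p : T ⟶ Red.bc f X), p ≫ (Over.pullback f).map j = p ≫ φ := by
    intro T p
    apply (bcEquiv f T Y).symm.injective
    rw [bcEquiv_symm_comp, ← ev_st, ← lift_fam, ← h, ← Category.assoc, lift_fst]
  have := h1 (𝟙 _)
  rwa [Category.id_comp, Category.id_comp] at this

end fam

section hom

variable {R : Type u} [CommRing R] {J : Ideal R} {G : Over (Spec (CommRingCat.of R))} [GrpObj G]

/-- the closed immersion -/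
noncomputable abbrev qJ (J : Ideal R) : Spec (CommRingCat.of (R ⧸ J)) ⟶ Spec (CommRingCat.of R) :=
  Spec.map (CommRingCat.ofHom (Ideal.Quotient.mk J))

/-- Homomorphisms from a group of multiplicative type to a smooth group lift along nilpotent thickenings. -/
theorem exists_hom_lift (hJ : IsNilpotent J) (hG : Smooth G.hom) {A : Type u} [CommRing A] [HopfAlgebra R A]
    {l : A →ₗ[R] R} (hl : IntDesc.IsInt l) (ω : Red.bc (qJ J) (SpecOver R A) ⟶ Red.bc (qJ J) G) [IsMonHom ω] :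
    ∃ j : SpecOver R A ⟶ G, IsMonHom j ∧ (Over.pullback (qJ J)).map j = ω := by
  let e : SpecOver R A ≅ SpecOver R A := Iso.refl _
  have he : IsMonHom e.hom := inferInstanceAs (IsMonHom (𝟙 (SpecOver R A)))
  let a₀ : SpecOver R A ⊗ pt R (R ⧸ J) ⟶ G := fam ω
  obtain ⟨a, ha, ha'⟩ := FamGen.exists_lift_family (G := G) (X := R) (Y := R ⧸ J) (e : SpecOver R A ≅ pt R A)
    (isModel_of_isMonHom e) (IntDesc.haarOfIsInt hl) (π := Ideal.Quotient.mkₐ R J) (Ideal.Quotient.mkₐ_surjective R J)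
    (by rwa [show RingHom.ker (Ideal.Quotient.mkₐ R J) = J from Ideal.mk_ker]) (a₀ := a₀) (isHomFamily_fam ω)
  let j : SpecOver R A ⟶ G := lift (𝟙 _) (toUnit _ ≫ ConjGlobal.topPt R) ≫ a
  have hj : ∀ {T : Over (Spec (CommRingCat.of R))} (x : T ⟶ SpecOver R A) (s : T ⟶ pt R R), x ≫ j = lift x s ≫ a := by
    intro T x s
    rw [← Category.assoc, comp_lift, Category.comp_id]
    exact congrArg (fun z => lift x z ≫ a) (ConjGlobal.pt_ext _ _)
  refine ⟨j, IsoFam.isMonHom_of_mul _ fun T x y => ?_, pullback_map_eq (qJ J) ω j ?_⟩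
  · rw [hj _ (toUnit _ ≫ ConjGlobal.topPt R), hj _ (toUnit _ ≫ ConjGlobal.topPt R),
      hj _ (toUnit _ ≫ ConjGlobal.topPt R), ha]
  · change fst (SpecOver R A) (pt R (R ⧸ J)) ≫ j = a₀
    rw [← ha', hj _ (snd _ _ ≫ ptMap (Ideal.Quotient.mkₐ R J))]
    congr 1

/-- Finite type modulo a nilpotent ideal. -/
lemma finiteType_of_red (hJ : IsNilpotent J) {A : Type u} [CommRing A] [Algebra R A]
    (h : Algebra.FiniteType (R ⧸ J) ((R ⧸ J) ⊗[R] A)) : Algebra.FiniteType R A := by
  apply S2305.finiteType_of_quotient J hJ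
  have h1 : Algebra.FiniteType R ((R ⧸ J) ⊗[R] A) := Algebra.FiniteType.trans (S := R ⧸ J) inferInstance h
  let φ : (R ⧸ J) ⊗[R] A →ₐ[R] A ⧸ J.map (algebraMap R A) :=
    Algebra.TensorProduct.productMap (Ideal.Quotient.liftₐ J (Algebra.ofId R _) (fun r hr => by
      change algebraMap R (A ⧸ J.map (algebraMap R A)) r = 0
      rw [IsScalarTower.algebraMap_apply R A]
      exact Ideal.Quotient.eq_zero_iff_mem.mpr (Ideal.mem_map_of_mem _ hr)))
      (Ideal.Quotient.mkₐ R (J.map (algebraMap R A)))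
  refine Algebra.FiniteType.of_surjective φ ?_
  intro z
  obtain ⟨a, rfl⟩ := Ideal.Quotient.mk_surjective z
  exact ⟨1 ⊗ₜ a, by simp [φ]⟩

/-- Lifting of subgroups of multiplicative type. -/
theorem exists_subgroup (hJ : IsNilpotent J) (hG : Smooth G.hom)
    (H₀ : Over (Spec (CommRingCat.of (R ⧸ J)))) [GrpObj H₀] (hH₀ : MTHaar.IsMT H₀)
    (j₀ : H₀ ⟶ Red.bc (qJ J) G) [IsMonHom j₀] [IsImmersion j₀.left] :
    ∃ (H : Over (Spec (CommRingCat.of R))) (_ : GrpObj H) (j : H ⟶ G), IsMonHom j ∧ IsImmersion j.left ∧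
      Flat H.hom ∧ ∃ φ : Red.bc (qJ J) H ≅ H₀, φ.hom ≫ j₀ = (Over.pullback (qJ J)).map j := by
  obtain ⟨A₀, _, _, e₀, he₀, -, -⟩ := MTHaar.exists_model hH₀
  have hlft₀ : LocallyOfFiniteType H₀.hom := by
    have h1 : LocallyOfFiniteType (Red.bc (qJ J) G).hom := inferInstanceAs (LocallyOfFiniteType (pullback.snd _ _))
    rw [← Over.w j₀]
    infer_instance
  have hft₀ : Algebra.FiniteType (R ⧸ J) A₀ := by
    have h1 : LocallyOfFiniteType (SpecOver (R ⧸ J) A₀).hom := by
      rw [← Over.w e₀.inv]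
      infer_instance
    have h2 : LocallyOfFiniteType (Spec.map (CommRingCat.ofHom (algebraMap (R ⧸ J) A₀))) := h1
    rw [HasRingHomProperty.Spec_iff (P := @LocallyOfFiniteType)] at h2
    exact RingHom.finiteType_algebraMap.mp h2
  have hmt₀ : SGA3b.IsMultType (R ⧸ J) A₀ := MTQI.isMultType_of_isMT hH₀ e₀
  obtain ⟨A, _, _, hqi, ⟨ψ⟩⟩ := S2979.result R J (fun x hx => by
    obtain ⟨n, hn⟩ := hJ
    refine ⟨n, ?_⟩
    have := Ideal.pow_mem_pow hx n
    rwa [hn] at this) A₀ (S2973.result _ _ hft₀ hmt₀)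
  have hmt := Sga3A.FibSpread.isMultType_of_isQuasiIsotrivial hqi
  have hft : Algebra.FiniteType R A := finiteType_of_red hJ
    (Algebra.FiniteType.of_surjective (ψ.symm : A₀ →ₐ[R ⧸ J] _) ψ.symm.surjective)
  have hfl : Flat (SpecOver R A).hom := by
    have h2 : Flat (Spec.map (CommRingCat.ofHom (algebraMap R A))) := by
      rw [HasRingHomProperty.Spec_iff (P := @Flat)]
      exact RingHom.flat_algebraMap_iff.mpr (MTQI.flat hmt)
    exact h2
  have hlft : LocallyOfFiniteType (SpecOver R A).hom := by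
    have h2 : LocallyOfFiniteType (Spec.map (CommRingCat.ofHom (algebraMap R A))) := by
      rw [HasRingHomProperty.Spec_iff (P := @LocallyOfFiniteType)]
      exact RingHom.finiteType_algebraMap.mpr hft
    exact h2
  obtain ⟨l, hl⟩ := MTQI.exists_isInt hmt
  obtain ⟨ε⟩ := Sga3B.Hens.Dict.bc_specOver R A (R ⧸ J)
  obtain ⟨ε'⟩ := (Sga3B.Hens.Dict.nonempty_bialgEquiv (R ⧸ J) ((R ⧸ J) ⊗[R] A) A₀).mpr ⟨ψ⟩
  let θ : Grp.mk (Red.bc (qJ J) (SpecOver R A)) ≅ Grp.mk H₀ := ε ≪≫ ε' ≪≫ (Grp.mkIso' e₀).symm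
  let φ : Red.bc (qJ J) (SpecOver R A) ≅ H₀ := (Grp.forget _).mapIso θ
  have hφ : IsMonHom φ.hom := θ.hom.hom.isMonHom_hom
  obtain ⟨j, hj, hj'⟩ := exists_hom_lift hJ hG hl (φ.hom ≫ j₀)
  refine ⟨SpecOver R A, inferInstance, j, hj, ?_, hfl, φ, hj'.symm⟩
  have hlj : LocallyOfFiniteType j.left := by
    have h1 : LocallyOfFiniteType (j.left ≫ G.hom) := by
      rw [Over.w j]; exact hlft
    exact locallyOfFiniteType_of_comp j.left G.hom
  have hpb := Loc.isPullback_map (qJ J) j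
  have hlj' : LocallyOfFiniteType ((Over.pullback (qJ J)).map j).left :=
    MorphismProperty.of_isPullback (P := @LocallyOfFiniteType) hpb hlj
  have hth : MoreMor.IsThickening (qJ J) := by
    refine ⟨?_, ?_⟩
    · exact IsClosedImmersion.spec_of_surjective _ Ideal.Quotient.mk_surjective
    · exact ⟨ActTriv.surjective_specMap_mk hJ⟩
  have hth' : MoreMor.IsThickening (pullback.fst G.hom (qJ J)) := by
    have := hth.1
    have := hth.2
    exact ⟨inferInstance, inferInstance⟩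
  refine (S1316.result _ _ _ _ hth' hpb).mp ?_
  rw [hj']
  have h1 : IsIso φ.hom.left := inferInstance
  have h2 : IsImmersion (φ.hom.left ≫ j₀.left) := inferInstance
  exact h2

end hom

end K7.SubLift
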