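import Groth.Agent.SGA3x.K7.JetField
import Groth.Agent.SGA3x.K7.ConstDesc
import Groth.Agent.Sga3.H797.TorsNhd
import Groth.Agent.Sga3C.GrpIrr
import Groth.Agent.Sga3B.TorusAlgClosed
import Groth.Agent.SGA3x.K10.MTLoc

/-!
# Centrality of a homomorphism from a group of multiplicative type is an open condition

* `Cen u V`: the homomorphism `u : H ⟶ G` is central over the `S`-scheme `V`;
* `cen_bc_iff`, `cen_of_cover`: base change and descent;
* `exists_nhd_split`: the case of a diagonalizable group over an affine base.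
-/

set_option autoImplicit false
universe u
open CategoryTheory MonoidalCategory CartesianMonoidalCategory MonObj GrpObj AlgebraicGeometry Limits

namespace K7.NhdCentral

open Groth.Agent.Sga3B FreeBC DSPts AdGrad AdPts Groth.Agent.SGA3x.K5.ActTriv JetTriv JetField

section cen

variable {S : Scheme.{u}} {G H : Over S} [GrpObj G]

/-- `u : H ⟶ G` is central over `V` -/
def Cen (u : H ⟶ G) (V : Over S) : Prop :=
  ∀ (T : Over S) (_ : T ⟶ V) (g : T ⟶ G) (h : T ⟶ H), g * (h ≫ u) = (h ≫ u) * g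

lemma Cen.of_hom {u : H ⟶ G} {V V' : Over S} (h : Cen u V) (w : V' ⟶ V) : Cen u V' :=
  fun T b g t => h T (b ≫ w) g t

/-- centrality descends along flat surjective morphisms -/
lemma cen_of_cover {u : H ⟶ G} {V V' : Over S} (w : V' ⟶ V) [Flat w.left] [Surjective w.left] (h : Cen u V') :
    Cen u V := by
  intro T b g t
  let T' : Over S := Over.mk (pullback.fst b.left w.left ≫ T.hom)
  let p : T' ⟶ T := Over.homMk (pullback.fst b.left w.left) rfl
  let q : T' ⟶ V' := Over.homMk (pullback.snd b.left w.left) (by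
    change pullback.snd b.left w.left ≫ V'.hom = pullback.fst b.left w.left ≫ T.hom
    rw [← Over.w w, ← Over.w b, ← Category.assoc, ← Category.assoc, pullback.condition])
  have h1 : Flat p.left := inferInstanceAs (Flat (pullback.fst b.left w.left))
  have h2 : Surjective p.left := inferInstanceAs (Surjective (pullback.fst b.left w.left))
  have h3 : Epi p.left := Flat.epi_of_flat_of_surjective _
  have h4 : Epi p := (Over.forget _).epi_of_epi_map h3
  rw [← cancel_epi p, MonObj.comp_mul, MonObj.comp_mul, ← Category.assoc]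
  exact h T' q (p ≫ g) (p ≫ t)

variable {S' : Scheme.{u}} (f : S' ⟶ S)

lemma cen_bc_iff (u : H ⟶ G) (V : Over S') : Cen ((Over.pullback f).map u) V ↔ Cen u ((Over.map f).obj V) := by
  constructor
  · intro h T b g t
    let T' : Over S' := Over.mk (b.left ≫ V.hom)
    let b' : T' ⟶ V := Over.homMk b.left rfl
    let c : (Over.map f).obj T' ⟶ T := Over.homMk (𝟙 _) (by
      have := Over.w b
      change 𝟙 _ ≫ T.hom = (b.left ≫ V.hom) ≫ f
      rw [Category.id_comp, Category.assoc]
      exact this.symm)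
    have hc : IsIso c := by
      have : IsIso ((Over.forget _).map c) := inferInstanceAs (IsIso (𝟙 _))
      exact isIso_of_reflects_iso c (Over.forget _)
    have h1 := h T' b' (BcPts.bcEquiv f _ G (c ≫ g)) (BcPts.bcEquiv f _ H (c ≫ t))
    rw [← BcPts.bcEquiv_comp, ← BcPts.bcEquiv_mul, ← BcPts.bcEquiv_mul] at h1
    have h2 := (BcPts.bcEquiv f _ G).injective h1
    rw [Category.assoc, ← MonObj.comp_mul, ← MonObj.comp_mul] at h2
    exact (cancel_epi _).mp h2
  · intro h T b g t
    have h1 := h ((Over.map f).obj T) ((Over.map f).map b) ((BcPts.bcEquiv f _ G).symm g) ((BcPts.bcEquiv f _ H).symm t)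
    apply (BcPts.bcMulEquiv f T G).symm.injective
    rw [map_mul, map_mul]
    change (BcPts.bcEquiv f T G).symm g * (BcPts.bcEquiv f T G).symm (t ≫ (Over.pullback f).map u) =
      (BcPts.bcEquiv f T G).symm (t ≫ (Over.pullback f).map u) * (BcPts.bcEquiv f T G).symm g
    rw [BcPts.bcEquiv_symm_comp]
    exact h1

/-- change of the source by an isomorphism -/
lemma cen_comp_iso {u : H ⟶ G} {H' : Over S} (e : H' ≅ H) {V : Over S} : Cen (e.hom ≫ u) V ↔ Cen u V := by
  constructor
  · intro h T b g t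
    have := h T b g (t ≫ e.inv)
    simpa using this
  · intro h T b g t
    have := h T b g (t ≫ e.hom)
    simpa using this

end cen

section conn

theorem connectedSpace_bc_field {k : Type u} [Field k] (G : Over (Spec (CommRingCat.of k))) [GrpObj G] [LocallyOfFiniteType G.hom]
    [ConnectedSpace G.left] {K : Type u} [Field K] (t : Spec (CommRingCat.of K) ⟶ Spec (CommRingCat.of k)) :
    ConnectedSpace ↥(Red.bc t G).left := by
  have h3 : GrpObj (Over.mk G.hom) := inferInstanceAs (GrpObj G)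
  have h4 := Groth.Agent.Sga3C.GrpIrr.geometricallyIrreducible_of_connectedSpace G.hom
  have h5 : GeometricallyIrreducible (pullback.snd G.hom t) := MorphismProperty.pullback_snd _ _ h4
  have h6 : IrreducibleSpace ↥(pullback G.hom t) :=
    GeometricallyIrreducible.irreducibleSpace_of_subsingleton (pullback.snd G.hom t)
  have : IrreducibleSpace ↥(Red.bc t G).left := h6
  infer_instance

theorem connectedSpace_bc_aux {S : Scheme.{u}} (G : Over S) [GrpObj G] [LocallyOfFiniteType G.hom]
    {k : Type u} [Field k] (r : Spec (CommRingCat.of k) ⟶ S) (h : ConnectedSpace ↥(Red.bc r G).left)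
    {K : Type u} [Field K] (t : Spec (CommRingCat.of K) ⟶ Spec (CommRingCat.of k)) :
    ConnectedSpace ↥(Red.bc (t ≫ r) G).left := by
  have h2 : LocallyOfFiniteType (Red.bc r G).hom := inferInstanceAs (LocallyOfFiniteType (pullback.snd _ _))
  have h7 := connectedSpace_bc_field (Red.bc r G) t
  have e := (Over.forget _).mapIso (K7.ConstDesc.bcIso G r t)
  have h8 : ConnectedSpace ↥((Over.forget (Spec (CommRingCat.of K))).obj (Red.bc t (Red.bc r G))) := h7
  exact (Scheme.homeoOfIso e).symm.surjective.connectedSpace (Scheme.homeoOfIso e).symm.continuous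

theorem connectedSpace_of_comp {S S' S'' : Scheme.{u}} (G : Over S) (r : S' ⟶ S) (t : S'' ⟶ S')
    (h : ConnectedSpace ↥(Red.bc (t ≫ r) G).left) : ConnectedSpace ↥(Red.bc t (Red.bc r G)).left := by
  have e := (Over.forget _).mapIso (K7.ConstDesc.bcIso G r t)
  have h8 : ConnectedSpace ↥((Over.forget S'').obj (Red.bc (t ≫ r) G)) := h
  exact (Scheme.homeoOfIso e).surjective.connectedSpace (Scheme.homeoOfIso e).continuous

theorem connectedSpace_bc {S : Scheme.{u}} (G : Over S) [GrpObj G] [LocallyOfFiniteType G.hom]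
    (hconn : ∀ t : S, ConnectedSpace ↥(Limits.pullback G.hom (S.fromSpecResidueField t))) {K : Type u} [Field K]
    (t : Spec (CommRingCat.of K) ⟶ S) : ConnectedSpace ↥(Red.bc t G).left := by
  obtain ⟨⟨s, φ⟩, rfl⟩ := (Scheme.SpecToEquivOfField K S).symm.surjective t
  exact connectedSpace_bc_aux G (k := S.residueField s) (S.fromSpecResidueField s) (hconn s) (Spec.map φ)

end conn

section split

/-- the augmentation of a chart containing the unit section -/
lemma exists_aug {R : Type u} [CommRing R] {G : Over (Spec (CommRingCat.of R))} [GrpObj G] {B : Type u} [CommRing B]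
    [Algebra R B] (j : DE R B ⟶ G) [IsOpenImmersion j.left]
    (h : Set.range (1 : DE R R ⟶ G).left ⊆ Set.range j.left) :
    ∃ ε : B →ₐ[R] R, ∀ (T : Over (Spec (CommRingCat.of R))) (x : T ⟶ DE R R), x ≫ deMap ε ≫ j = 1 := by
  obtain ⟨e', he'⟩ := OverAff898.exists_lift j (1 : DE R R ⟶ G) h
  let ψ := RingEquiv.ofBijective _ (fn_id_bijective (R := R) R)
  have hψ : ∀ b, fn (𝟙 (DE R R)) (ψ.symm (fn e' b)) = fn e' b := fun b => ψ.apply_symm_apply _
  let ε : B →ₐ[R] R :=
    { (ψ.symm : _ →+* R).comp (fn e') with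
      commutes' := fun r => (fn_id_bijective (R := R) R).1 (by
        refine (hψ _).trans ?_
        rw [fn_algebraMap, fn_algebraMap]) }
  have hε : deMap ε = e' := by
    apply fn_injective
    intro b
    rw [← Category.id_comp (deMap ε), fn_comp_deMap]
    exact hψ b
  refine ⟨ε, fun T x => ?_⟩
  rw [hε, he', MonObj.comp_one]

lemma exists_over' {R : Type u} [CommRing R] {A : Type u} [CommRing A] (T : Over (Spec (CommRingCat.of R)))
    (f : Spec (CommRingCat.of A) ⟶ T.left) : ∃ (_ : Algebra R A) (j : DE R A ⟶ T), j.left = f :=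
  OverAff898.exists_over T f

/-- a chart containing the unit section -/
theorem exists_chart {R : Type u} [CommRing R] {G : Over (Spec (CommRingCat.of R))} [GrpObj G]
    (hU : InfConjFam.HasAffineUnitNhd G) :
    ∃ (B : Type u) (_ : CommRing B) (_ : Algebra R B) (j : DE R B ⟶ G) (ε : B →ₐ[R] R), IsOpenImmersion j.left ∧
      ∀ (T : Over (Spec (CommRingCat.of R))) (x : T ⟶ DE R R), x ≫ deMap ε ≫ j = 1 := by
  obtain ⟨D, j₀, hj₀, hr⟩ := hU
  obtain ⟨_, j, hj⟩ := exists_over' (A := D) G j₀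
  have hjo : IsOpenImmersion j.left := by rw [hj]; exact hj₀
  obtain ⟨ε, hε⟩ := exists_aug (B := D) j (by
    rintro _ ⟨z, rfl⟩
    have h1 : (1 : DE R R ⟶ G) = toUnit _ ≫ η := rfl
    rw [h1, Over.comp_left, Scheme.Hom.comp_apply, hj]
    exact hr ⟨_, rfl⟩)
  exact ⟨D, inferInstance, inferInstance, j, ε, hjo, hε⟩

lemma finiteType_of_chart {R : Type u} [CommRing R] {G : Over (Spec (CommRingCat.of R))} [LocallyOfFiniteType G.hom]
    {B : Type u} [CommRing B] [Algebra R B] (j : DE R B ⟶ G) [IsOpenImmersion j.left] : Algebra.FiniteType R B := by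
  have h1 : LocallyOfFiniteType (j.left ≫ G.hom) := inferInstance
  rw [Over.w] at h1
  have h2 : LocallyOfFiniteType (Spec.map (CommRingCat.ofHom (algebraMap R B))) := h1
  rw [HasRingHomProperty.Spec_iff (P := @LocallyOfFiniteType)] at h2
  simp only [CommRingCat.hom_ofHom] at h2
  exact RingHom.finiteType_algebraMap.mp h2


/-- the fibre over a field: if the first infinitesimal neighbourhood of the unit section commutes with `u` over `K`, then
`u` is central over `K`. -/
theorem cen_field {R : Type u} [CommRing R] {G : Over (Spec (CommRingCat.of R))} [GrpObj G] {N : Type} [AddCommGroup N]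
    [LocallyOfFiniteType G.hom] (u : Red.DS (Spec (CommRingCat.of R)) N ⟶ G) [IsMonHom u]
    {B : Type u} [CommRing B] [Algebra R B] (j : DE R B ⟶ G) [IsOpenImmersion j.left] (ε : B →ₐ[R] R)
    (hε : ∀ (T : Over (Spec (CommRingCat.of R))) (x : T ⟶ DE R R), x ≫ deMap ε ≫ j = 1)
    (K : Type u) [Field K] (t : Spec (CommRingCat.of K) ⟶ Spec (CommRingCat.of R))
    (hK : ConnectedSpace ↥(Red.bc t G).left)
    (h : ∀ (T : Over (Spec (CommRingCat.of R))) (_ : T ⟶ Over.mk t) (x : T ⟶ DE R (B ⧸ (RingHom.ker ε) ^ (1 + 1)))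
      (τ : T ⟶ Red.DS (Spec (CommRingCat.of R)) N),
      (x ≫ deMap (jetPr ε 1) ≫ j) * (τ ≫ u) = (τ ≫ u) * (x ≫ deMap (jetPr ε 1) ≫ j)) :
    Cen u (Over.mk t) := by
  have hjm : Mono j := Over.mono_of_mono_left j
  let GK : Over (Spec (CommRingCat.of K)) := Red.bc t G
  have hlft : LocallyOfFiniteType GK.hom := inferInstanceAs (LocallyOfFiniteType (pullback.snd G.hom t))
  have hconn : ConnectedSpace ↥GK.left := hK
  obtain ⟨δ⟩ : Nonempty (Grp.mk (Red.bc t (Red.DS (Spec (CommRingCat.of R)) N)) ≅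
    Grp.mk (Red.DS (Spec (CommRingCat.of K)) N)) := ⟨TorusAlgClosed.dsBcIso t N⟩
  obtain ⟨δ', hδ⟩ : ∃ δ' : Red.DS (Spec (CommRingCat.of K)) N ≅ Red.bc t (Red.DS (Spec (CommRingCat.of R)) N),
      IsMonHom δ'.hom := ⟨((Grp.forget _).mapIso δ).symm, inferInstanceAs (IsMonHom δ.inv.hom.hom)⟩
  let uK : Red.DS (Spec (CommRingCat.of K)) N ⟶ GK := δ'.hom ≫ (Over.pullback t).map u
  -- a chart of the fibre
  let pr : (Over.map t).obj GK ⟶ G := (BcPts.bcEquiv t GK G).symm (𝟙 GK)
  have hpr : ∀ {T : Over (Spec (CommRingCat.of K))} (x : T ⟶ GK), (BcPts.bcEquiv t T G).symm x = (Over.map t).map x ≫ pr := by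
    intro T x
    conv_lhs => rw [← Category.comp_id x]
    exact BcPts.comp_bcEquiv_symm t x (𝟙 GK)
  have hsymm_one : ∀ (T : Over (Spec (CommRingCat.of K))), (BcPts.bcEquiv t T G).symm (1 : T ⟶ GK) = 1 :=
    fun T => (BcPts.bcMulEquiv t T G).symm.map_one
  let x0 : (Over.map t).obj (DE K K) ⟶ DE R R := Over.homMk ((Over.map t).obj (DE K K)).hom (by
    change _ ≫ Spec.map (CommRingCat.ofHom (RingHom.id R)) = _
    rw [CommRingCat.ofHom_id, Spec.map_id, Category.comp_id])
  let p : GK.left := (1 : DE K K ⟶ GK).left (IsLocalRing.closedPoint K)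
  have hp : p ∈ pr.left ⁻¹ᵁ j.left.opensRange := by
    have h1 : (Over.map t).map (1 : DE K K ⟶ GK) ≫ pr = x0 ≫ deMap ε ≫ j := by
      rw [← hpr, hsymm_one, hε]
    change pr.left p ∈ Set.range j.left
    have h2 : pr.left p = ((Over.map t).map (1 : DE K K ⟶ GK) ≫ pr).left (IsLocalRing.closedPoint K) := rfl
    rw [h2, h1, Over.comp_left, Over.comp_left, Scheme.Hom.comp_apply, Scheme.Hom.comp_apply]
    exact ⟨_, rfl⟩
  obtain ⟨V, hV, hpV, hVW⟩ := exists_isAffineOpen_mem_and_subset (X := GK.left) hp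
  obtain ⟨_, j', hj'⟩ := exists_over' (A := Γ(GK.left, V)) GK hV.fromSpec
  set B' : Type u := Γ(GK.left, V)
  have hj'o : IsOpenImmersion j'.left := by rw [hj']; exact hV.isOpenImmersion_fromSpec
  have hj'r : Set.range j'.left = (V : Set GK.left) := by rw [hj']; exact hV.range_fromSpec
  obtain ⟨ε', hε'⟩ := exists_aug j' (by
    rintro _ ⟨z, rfl⟩
    rw [hj'r]
    have : z = IsLocalRing.closedPoint K := Subsingleton.elim (α := PrimeSpectrum K) _ _
    rw [this]
    exact hpV)
  let y : (Over.map t).obj (DE K B') ⟶ G := (BcPts.bcEquiv t (DE K B') G).symm j'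
  obtain ⟨y', hy'⟩ := OverAff898.exists_lift j y (by
    rintro _ ⟨z, rfl⟩
    have h1 : y = (Over.map t).map j' ≫ pr := hpr j'
    rw [h1, Over.comp_left, Scheme.Hom.comp_apply]
    have h2 : j'.left z ∈ V := by
      have : j'.left z ∈ Set.range j'.left := ⟨z, rfl⟩
      rw [hj'r] at this
      exact this
    exact hVW h2)
  have h1 : (Over.map t).map (deMap ε') ≫ y' = x0 ≫ deMap ε := by
    rw [← cancel_mono j, Category.assoc, hy', Category.assoc, hε]
    have h2 := BcPts.comp_bcEquiv_symm t (deMap ε') j'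
    rw [← h2]
    have h3 := hε' (DE K K) (𝟙 _)
    rw [Category.id_comp] at h3
    rw [h3, hsymm_one]
  have h2 : ∀ b ∈ RingHom.ker ε, ∃ b' ∈ RingHom.ker ε', fn y' b = fn (𝟙 (DE K B')) b' := by
    intro b hb
    obtain ⟨b', hb'⟩ := (fn_id_bijective (R := K) B').2 (fn y' b)
    refine ⟨b', ?_, hb'.symm⟩
    have h3 : fn ((Over.map t).map (deMap ε') ≫ y') b = fn (𝟙 (DE K K)) (ε' b') := by
      rw [fn_comp, ← hb']
      change (deMap ε').left.appTop (fn (𝟙 (DE K B')) b') = _
      rw [← fn_comp, Category.comp_id, ← Category.id_comp (deMap ε'), fn_comp_deMap]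
    rw [h1, fn_comp_deMap] at h3
    have h4 : ε b = 0 := hb
    rw [h4, map_zero] at h3
    exact (fn_id_bijective (R := K) K).1 (by rw [← h3, map_zero])
  have h3 : ∀ b ∈ (RingHom.ker ε) ^ (1 + 1), ∃ b' ∈ (RingHom.ker ε') ^ (1 + 1), fn y' b = fn (𝟙 (DE K B')) b' := by
    intro b hb
    have h4 : (RingHom.ker ε) ^ (1 + 1) ≤ (((RingHom.ker ε') ^ (1 + 1)).map (fn (𝟙 (DE K B')))).comap (fn y') := by
      rw [← Ideal.map_le_iff_le_comap, Ideal.map_pow, Ideal.map_pow]
      refine Ideal.pow_right_mono ?_ _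
      rw [Ideal.map_le_iff_le_comap]
      intro c hc
      obtain ⟨c', hc', h5⟩ := h2 c hc
      rw [Ideal.mem_comap]
      exact h5 ▸ Ideal.mem_map_of_mem _ hc'
    have h5 := h4 hb
    rw [Ideal.mem_comap, Ideal.mem_map_iff_of_surjective _ (fn_id_bijective (R := K) B').2] at h5
    obtain ⟨b', hb', h6⟩ := h5
    exact ⟨b', hb', h6.symm⟩
  -- the infinitesimal neighbourhood in the fibre
  have h4 : ∀ (T : Over (Spec (CommRingCat.of K))) (x : T ⟶ DE K (B' ⧸ (RingHom.ker ε') ^ (1 + 1)))
      (τ : T ⟶ Red.DS (Spec (CommRingCat.of K)) N),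
      (x ≫ deMap (jetPr ε' 1) ≫ j') * (τ ≫ uK) = (τ ≫ uK) * (x ≫ deMap (jetPr ε' 1) ≫ j') := by
    intro T x τ
    let X : (Over.map t).obj T ⟶ DE R B := (Over.map t).map (x ≫ deMap (jetPr ε' 1)) ≫ y'
    obtain ⟨w, hw⟩ := eq_comp_deMap X (jetPr ε 1) (jetPr_surjective ε 1) (by
      intro b hb
      obtain ⟨b', hb', h5⟩ := h3 b (Ideal.Quotient.eq_zero_iff_mem.mp hb)
      simp only [X]
      rw [fn_comp, h5]
      change (x ≫ deMap (jetPr ε' 1)).left.appTop (fn (𝟙 (DE K B')) b') = _
      rw [← fn_comp, Category.comp_id, fn_comp_deMap]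
      have h6 : jetPr ε' 1 b' = 0 := Ideal.Quotient.eq_zero_iff_mem.mpr hb'
      rw [h6, map_zero])
    have e1 : (BcPts.bcEquiv t T G).symm (x ≫ deMap (jetPr ε' 1) ≫ j') = w ≫ deMap (jetPr ε 1) ≫ j := by
      rw [← Category.assoc, BcPts.comp_bcEquiv_symm, ← Category.assoc w, hw]
      simp only [X]
      rw [Category.assoc, hy']
    let τ' : (Over.map t).obj T ⟶ Red.DS (Spec (CommRingCat.of R)) N := (BcPts.bcEquiv t T _).symm (τ ≫ δ'.hom)
    have e2 : (BcPts.bcEquiv t T G).symm (τ ≫ uK) = τ' ≫ u := by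
      simp only [uK, τ']
      rw [← Category.assoc, BcPts.bcEquiv_symm_comp]
    have e3 := h ((Over.map t).obj T) (Over.homMk T.hom rfl) w τ'
    rw [← e1, ← e2] at e3
    apply (BcPts.bcMulEquiv t T G).symm.injective
    rw [map_mul, map_mul]
    exact e3
  have h5 : ∀ {T : Over (Spec (CommRingCat.of K))} (g : T ⟶ GK) (τ : T ⟶ Red.DS (Spec (CommRingCat.of K)) N),
      g * (τ ≫ uK) = (τ ≫ uK) * g := fun g τ => comm_of_jet uK j' ε' hε' h4 g τ
  have h6 : Cen ((Over.pullback t).map u) (𝟙_ (Over (Spec (CommRingCat.of K)))) := by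
    intro T _ g h
    have h7 := h5 g (h ≫ δ'.inv)
    simp only [uK, Category.assoc, Iso.inv_hom_id_assoc] at h7
    exact h7
  have h7 := (cen_bc_iff t u _).mp h6
  let c : Over.mk t ⟶ (Over.map t).obj (𝟙_ (Over (Spec (CommRingCat.of K)))) := Over.homMk (𝟙 _) (by
    change 𝟙 _ ≫ 𝟙 _ ≫ t = t
    rw [Category.id_comp, Category.id_comp])
  exact h7.of_hom c


/-- **Openness of centrality, diagonalizable case**. -/
theorem exists_nhd_split {R : Type u} [CommRing R] {G : Over (Spec (CommRingCat.of R))} [GrpObj G] {N : Type}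
    [AddCommGroup N] [LocallyOfFiniteType G.hom] (u : Red.DS (Spec (CommRingCat.of R)) N ⟶ G) [IsMonHom u]
    (hU : InfConjFam.HasAffineUnitNhd G)
    (hconn : ∀ (K : Type u) [Field K] (t : Spec (CommRingCat.of K) ⟶ Spec (CommRingCat.of R)), ConnectedSpace ↥(Red.bc t G).left)
    (𝔭 : PrimeSpectrum R) (h𝔭 : Cen u (DE R 𝔭.asIdeal.ResidueField)) :
    ∃ f : R, f ∉ 𝔭.asIdeal ∧ ∀ 𝔮 : PrimeSpectrum R, f ∉ 𝔮.asIdeal → Cen u (DE R 𝔮.asIdeal.ResidueField) := by
  obtain ⟨B, _, _, j, ε, hj, hε⟩ := exists_chart hU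
  have hft : Algebra.FiniteType R B := finiteType_of_chart j
  obtain ⟨f, hf, h1⟩ := exists_triv_away (isAct_conjAct u) j ε (fun T x t => by
    rw [hε, lift_conjAct]
    group) 𝔭 (fun T b x t => (lift_conjAct_eq_iff u x t).mpr (h𝔭 T b x t))
  refine ⟨f, hf, fun 𝔮 hq => ?_⟩
  refine cen_field u j ε hε 𝔮.asIdeal.ResidueField _ (hconn _ _) fun T b x τ => ?_
  rw [← lift_conjAct_eq_iff]
  refine h1 T ?_ x τ
  have h2 : IsUnit (algebraMap R 𝔮.asIdeal.ResidueField f) := by
    rw [isUnit_iff_ne_zero, Ne, Ideal.algebraMap_residueField_eq_zero]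
    exact hq
  have b' : T ⟶ DE R 𝔮.asIdeal.ResidueField := b
  have h3 := h2.map (fn b')
  rw [fn_algebraMap] at h3
  exact h3

end split

section point

variable {S : Scheme.{u}} {G H : Over S} [GrpObj G] (u : H ⟶ G)

/-- centrality over a field valued point only depends on its image -/
lemma cen_point_iff {K : Type u} [Field K] (τ : Spec (CommRingCat.of K) ⟶ S) :
    Cen u (Over.mk τ) ↔ Cen u (Over.mk (S.fromSpecResidueField (τ (IsLocalRing.closedPoint K)))) := by
  obtain ⟨⟨s, φ⟩, rfl⟩ := (Scheme.SpecToEquivOfField K S).symm.surjective τ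
  have e : ((Scheme.SpecToEquivOfField K S).symm ⟨s, φ⟩) (IsLocalRing.closedPoint K) = s := by
    change (Spec.map φ ≫ S.fromSpecResidueField s) (IsLocalRing.closedPoint K) = s
    rw [Scheme.Hom.comp_apply]
    exact Scheme.fromSpecResidueField_apply s _
  rw [e]
  let w : Over.mk ((Scheme.SpecToEquivOfField K S).symm ⟨s, φ⟩) ⟶ Over.mk (S.fromSpecResidueField s) :=
    Over.homMk (Spec.map φ) rfl
  refine ⟨fun h => ?_, fun h => h.of_hom w⟩
  have h1 : Flat w.left := by
    change Flat (Spec.map φ)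
    have : Flat (Spec.map (CommRingCat.ofHom (φ.hom : (S.residueField s : Type u) →+* K))) := inferInstance
    exact this
  have h2 : Surjective w.left := by
    constructor
    intro z
    refine ⟨IsLocalRing.closedPoint K, ?_⟩
    exact Subsingleton.elim (α := PrimeSpectrum (S.residueField s)) _ _
  exact cen_of_cover w h

/-- centrality over `S'` in terms of the base change -/
lemma cen_mk_iff {S' : Scheme.{u}} (f : S' ⟶ S) :
    Cen u (Over.mk f) ↔ ∀ (X : Over S') (g : X ⟶ Red.bc f G) (h : X ⟶ Red.bc f H),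
      g * (h ≫ (Over.pullback f).map u) = (h ≫ (Over.pullback f).map u) * g := by
  have h1 : (∀ (X : Over S') (g : X ⟶ Red.bc f G) (h : X ⟶ Red.bc f H),
      g * (h ≫ (Over.pullback f).map u) = (h ≫ (Over.pullback f).map u) * g) ↔
      Cen ((Over.pullback f).map u) (𝟙_ (Over S')) := ⟨fun h T _ g t => h T g t, fun h T g t => h T (toUnit _) g t⟩
  rw [h1, cen_bc_iff]
  constructor
  · intro h
    exact h.of_hom (Over.homMk (𝟙 _) (by
      change 𝟙 _ ≫ f = 𝟙 _ ≫ f
      rfl))
  · intro h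
    exact h.of_hom (Over.homMk (𝟙 _) (by
      change 𝟙 _ ≫ 𝟙 _ ≫ f = f
      rw [Category.id_comp, Category.id_comp]))

end point

end K7.NhdCentral
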