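import Groth.Agent.AlgSt.K735.DvrSpec
import Groth.Agent.EGA43.K126.GeomPtsDvr
import Mathlib.FieldTheory.IsSepClosed

/-!
# Strictly henselian discrete valuation rings through a specialization
-/

set_option autoImplicit false
universe u

open CategoryTheory CategoryTheory.Limits AlgebraicGeometry IsLocalRing

namespace K7.GenTrait

lemma exists_factor {S : Scheme.{u}} {L : Type u} [Field L] (f : Spec (CommRingCat.of L) ⟶ S) {s : S}
    (h : f (closedPoint L) = s) : ∃ g : Spec (CommRingCat.of L) ⟶ Spec (S.residueField s),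
      g ≫ S.fromSpecResidueField s = f := by
  subst h
  exact ⟨_, Scheme.descResidueField_stalkClosedPointTo_fromSpecResidueField L S f⟩

theorem closedPoint_map {A B : Type u} [CommRing A] [CommRing B] [IsLocalRing A] [IsLocalRing B] (φ : A →+* B)
    [IsLocalHom φ] : Spec.map (CommRingCat.ofHom φ) (closedPoint B) = closedPoint A := by
  apply PrimeSpectrum.ext
  ext x
  change φ x ∈ maximalIdeal B ↔ x ∈ maximalIdeal A
  rw [mem_maximalIdeal, mem_maximalIdeal, mem_nonunits_iff, mem_nonunits_iff, isUnit_map_iff]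

theorem exists_frac_map {A B K L : Type u} [CommRing A] [IsDomain A] [CommRing B] [IsDomain B] [Field K] [Field L]
    [Algebra A K] [Algebra B L] [IsFractionRing A K] [IsFractionRing B L] (f : A →+* B)
    (hf : Function.Injective f) : ∃ χ : K →+* L, χ.comp (algebraMap A K) = (algebraMap B L).comp f := by
  have hinj : Function.Injective ((algebraMap B L).comp f) := (IsFractionRing.injective B L).comp hf
  refine ⟨IsFractionRing.lift (A := A) (K := K) hinj, ?_⟩
  refine RingHom.ext fun x => ?_
  exact IsFractionRing.lift_algebraMap hinj x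

theorem exists_trait {S : Scheme.{u}} [IsLocallyNoetherian S] {t s : S} (h : t ⤳ s) :
    ∃ (V : Type u) (_ : CommRing V) (_ : IsDomain V) (_ : IsDiscreteValuationRing V) (_ : HenselianLocalRing V)
      (_ : IsSepClosed (IsLocalRing.ResidueField V)) (α : Spec (CommRingCat.of V) ⟶ S)
      (χ : Spec (CommRingCat.of (FractionRing V)) ⟶ Spec (S.residueField t))
      (χ₀ : Spec (CommRingCat.of (V ⧸ IsLocalRing.maximalIdeal V)) ⟶ Spec (S.residueField s)),
      χ ≫ S.fromSpecResidueField t = Spec.map (CommRingCat.ofHom (algebraMap V (FractionRing V))) ≫ α ∧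
      χ₀ ≫ S.fromSpecResidueField s =
        Spec.map (CommRingCat.ofHom (Ideal.Quotient.mk (IsLocalRing.maximalIdeal V))) ≫ α := by
  obtain ⟨A, _, _, _, α, κ, hκ, hκt, hαs⟩ := K735.DvrSpec.exists_dvr (𝟙 S) t s h
  rw [Category.comp_id] at hκ
  obtain ⟨V, _, _, _, _, hV, -⟩ := Groth.Agent.Hensel.Exist.exists_isStrictHenselization A
  have h1 : IsDomain V := Groth.Agent.Sga4h.ChartDVR.isDomain_of_isStrictHenselization A V
  have h2 : IsDiscreteValuationRing V := Groth.Agent.Sga4h.ChartDVR.isDiscreteValuationRing_of_isStrictHenselization A V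
  obtain ⟨h3, h4⟩ := Groth.Agent.Sga4h.ChartDVR.isStrictlyHenselianLocalRing_of_isStrictHenselization A V
  have hinj : Function.Injective (algebraMap A V) := Groth.Agent.Sga4h.ChartDVR.injective_algebraMap A V
  have hloc : IsLocalHom (algebraMap A V) := inferInstance
  let α' : Spec (CommRingCat.of V) ⟶ S := Spec.map (CommRingCat.ofHom (algebraMap A V)) ≫ α
  -- the generic point
  have hg : ∃ χ : Spec (CommRingCat.of (FractionRing V)) ⟶ Spec (S.residueField t),
      χ ≫ S.fromSpecResidueField t = Spec.map (CommRingCat.ofHom (algebraMap V (FractionRing V))) ≫ α' := by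
    refine exists_factor _ ?_
    obtain ⟨χ1, h5⟩ := exists_frac_map (K := FractionRing A) (L := FractionRing V) (algebraMap A V) hinj
    have h6 : Spec.map (CommRingCat.ofHom (algebraMap V (FractionRing V))) ≫ α' =
        Spec.map (CommRingCat.ofHom χ1) ≫ κ := by
      rw [hκ, ← Category.assoc, ← Category.assoc, ← Spec.map_comp, ← Spec.map_comp, ← CommRingCat.ofHom_comp,
        ← CommRingCat.ofHom_comp, h5]
    rw [h6, Scheme.Hom.comp_apply, hκt]
  -- the closed point
  have hc : ∃ χ₀ : Spec (CommRingCat.of (V ⧸ IsLocalRing.maximalIdeal V)) ⟶ Spec (S.residueField s),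
      χ₀ ≫ S.fromSpecResidueField s =
        Spec.map (CommRingCat.ofHom (Ideal.Quotient.mk (IsLocalRing.maximalIdeal V))) ≫ α' := by
    have h5 : ∃ c : Spec (CommRingCat.of (ResidueField V)) ⟶ Spec (S.residueField s),
        c ≫ S.fromSpecResidueField s = Spec.map (CommRingCat.ofHom (residue V)) ≫ α' := by
      refine exists_factor _ ?_
      rw [Scheme.Hom.comp_apply, closedPoint_map, Scheme.Hom.comp_apply, closedPoint_map, hαs]
    exact h5
  obtain ⟨χ, hχ⟩ := hg
  obtain ⟨χ₀, hχ₀⟩ := hc
  exact ⟨V, inferInstance, h1, h2, h3, h4, α', χ, χ₀, hχ, hχ₀⟩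

end K7.GenTrait
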