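import Groth.Agent.Sga3B.HaarDef
import Mathlib.RingTheory.Nilpotent.Basic

/-!
# Coactions which are trivial modulo a nilpotent ideal

`D` a commutative bialgebra with a normalised invariant integral, `ρ : B → D ⊗ B` a coassociative algebra map which is
trivial modulo a nilpotent ideal: then it is trivial.
-/

set_option autoImplicit false
open TensorProduct Coalgebra

namespace K7.ActRing
open Groth.Agent.Sga3B.HaarDef

variable {R : Type*} [CommRing R] {D : Type*} [CommRing D] [Bialgebra R D] {B : Type*} [CommRing B] [Algebra R B]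

/-- A submodule which generates modulo a nilpotent ideal is everything. -/
lemma eq_top_of_sup {M : Type*} [AddCommGroup M] [Module R M] (N : Submodule R M) (J : Ideal R) (hJ : IsNilpotent J)
    (h : N ⊔ J • ⊤ = ⊤) : N = ⊤ := by
  obtain ⟨n, hn⟩ := hJ
  have h1 : ∀ k : ℕ, N ⊔ (J ^ k) • ⊤ = ⊤ := by
    intro k
    induction k with
    | zero => rw [pow_zero, Ideal.one_eq_top, Submodule.top_smul, sup_top_eq]
    | succ k ih =>
      have h2 : (J ^ k) • (⊤ : Submodule R M) ≤ N ⊔ (J ^ (k + 1)) • ⊤ := by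
        calc (J ^ k) • (⊤ : Submodule R M) = (J ^ k) • (N ⊔ J • ⊤) := by rw [h]
          _ = (J ^ k) • N ⊔ (J ^ k) • J • ⊤ := Submodule.smul_sup _ _ _
          _ ≤ N ⊔ (J ^ (k + 1)) • ⊤ := by
            refine sup_le_sup Submodule.smul_le_right ?_
            rw [← Submodule.mul_smul, ← pow_succ]
      rw [eq_top_iff]
      exact ih.symm.le.trans (sup_le le_sup_left h2)
  have := h1 n
  rwa [hn, Submodule.zero_eq_bot, Submodule.bot_smul, sup_bot_eq] at this

/-- A coaction of a linearly reductive affine group which is trivial modulo a nilpotent ideal is trivial. -/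
theorem coact_trivial (ν : Haar R D) (ρ : B →ₐ[R] D ⊗[R] B) (hρ : (T D ρ).comp ρ = (δ R D B).comp ρ)
    (J : Ideal R) (hJ : IsNilpotent J)
    (h0 : ∀ b, T D (Ideal.Quotient.mkₐ R (J.map (algebraMap R B))) (ρ b) =
      1 ⊗ₜ[R] Ideal.Quotient.mk (J.map (algebraMap R B)) b) (b : B) : ρ b = 1 ⊗ₜ[R] b := by
  let N : Submodule R B := LinearMap.eqLocus ρ.toLinearMap (TensorProduct.mk R D B 1)
  have hN : N = ⊤ := by
    apply eq_top_of_sup N J hJ
    rw [eq_top_iff]
    intro c _
    have h1 : ν.J B (ρ c) ∈ N := by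
      change ρ (ν.J B (ρ c)) = 1 ⊗ₜ[R] ν.J B (ρ c)
      rw [← ν.J_comp_T ρ (ρ c), ← AlgHom.comp_apply, hρ, AlgHom.comp_apply, ν.J_comp_δ]
      rfl
    have h2 : c - ν.J B (ρ c) ∈ J • (⊤ : Submodule R B) := by
      rw [Ideal.smul_top_eq_map, Submodule.restrictScalars_mem, ← Ideal.Quotient.eq]
      have h3 := ν.J_comp_T (Ideal.Quotient.mkₐ R (J.map (algebraMap R B))) (ρ c)
      rw [h0, ν.J_tmul, ν.int_one, one_smul] at h3
      exact h3
    have h3 := Submodule.add_mem_sup h1 h2
    rwa [add_sub_cancel] at h3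
  have : b ∈ N := by rw [hN]; trivial
  exact this

end K7.ActRing
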