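import Groth.Agent.SGA3x.K7.EpiKer
import Groth.Agent.FlatB.PushSpec
import Groth.Agent.Sga3.H802.HaarPts

/-!
# Averaging points of an arbitrary group scheme

Same statements as in `Groth.Agent.Sga3.H802.HaarPts`, for an arbitrary group scheme `G` over `Spec R` (no separatedness,
no affine neighbourhood of the unit section): the points of `G` with values in `X₀ + K₁` are determined by their
restriction to `X₁` because `Spec X₁ ⟶ Spec (X₀ + K₁)` is an epimorphism of schemes, and a point with values in `X₁`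
which is trivial modulo `K₁` comes from `X₀ + K₁` because `Spec (X₀ + K₁)` is a pushout of schemes.
-/

set_option autoImplicit false
universe u
open CategoryTheory MonoidalCategory CartesianMonoidalCategory MonObj GrpObj AlgebraicGeometry Limits

namespace K7.AvgGen
open Groth.Agent.Sga3B.InfConj Groth.Agent.Sga3.H802.HaarPts

variable {R : Type u} [CommRing R]

section epi

variable {X₀ X₁ : Type u} [CommRing X₀] [CommRing X₁] [Algebra R X₀] [Algebra R X₁]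
  {K₀ : Ideal X₀} {K₁ : Ideal X₁} (A : Avg (R := R) K₀ K₁)

/-- `Spec X₁ → Spec X₀` is surjective. -/
lemma comap_inc_surjective : Function.Surjective (PrimeSpectrum.comap A.inc.toRingHom) := by
  intro p
  rw [← Set.mem_range, PrimeSpectrum.mem_range_comap_iff]
  refine le_antisymm ?_ Ideal.le_comap_map
  intro x hx
  have h2 : ∀ z ∈ p.asIdeal.map A.inc.toRingHom, ∀ a, A.J (a * z) ∈ p.asIdeal := by
    intro z hz
    refine Submodule.span_induction ?_ ?_ ?_ ?_ hz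
    · rintro _ ⟨y, hy, rfl⟩ a
      change A.J (a * A.inc y) ∈ _
      rw [mul_comm, A.J_mul]
      exact Ideal.mul_mem_right _ _ hy
    · intro a
      rw [mul_zero, map_zero]; exact zero_mem _
    · intro x y _ _ hx hy a
      rw [mul_add, map_add]
      exact add_mem (hx a) (hy a)
    · intro b x _ hx a
      rw [smul_eq_mul, ← _root_.mul_assoc]
      exact hx _
  have h3 := h2 _ hx 1
  change A.J (1 * A.inc x) ∈ _ at h3
  rwa [_root_.one_mul, A.J_inc] at h3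

lemma mem_of_sq {B : Type*} [CommRing B] {K : Ideal B} (hK : K * K = ⊥) (q : PrimeSpectrum B) {x : B} (hx : x ∈ K) :
    x ∈ q.asIdeal := by
  have h1 := Ideal.mul_mem_mul hx hx
  rw [hK, Ideal.mem_bot] at h1
  have h2 : x * x ∈ q.asIdeal := by rw [h1]; exact zero_mem _
  exact (q.2.mem_or_mem h2).elim id id

/-- `Spec X₁ → Spec (X₀ + K₁)` is surjective. -/
lemma comap_val_surjective : Function.Surjective (PrimeSpectrum.comap A.sub.val.toRingHom) := by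
  intro q
  obtain ⟨P, hP⟩ := comap_inc_surjective A (PrimeSpectrum.comap A.incSub.toRingHom q)
  have hP' : ∀ x, A.inc x ∈ P.asIdeal ↔ A.incSub x ∈ q.asIdeal := by
    intro x
    have := congrArg (fun z => x ∈ PrimeSpectrum.asIdeal z) hP
    exact iff_of_eq this
  refine ⟨P, ?_⟩
  apply PrimeSpectrum.ext
  ext ⟨b, x, hb⟩
  change b ∈ P.asIdeal ↔ _
  have h1 : b ∈ P.asIdeal ↔ A.inc x ∈ P.asIdeal := by
    have h2 := mem_of_sq A.sq₁ P hb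
    constructor
    · intro h
      have := sub_mem h h2
      rwa [sub_sub_cancel] at this
    · intro h
      have := add_mem h2 h
      rwa [sub_add_cancel] at this
  have hk : ∀ z : A.sub, z.1 ∈ K₁ → z ∈ q.asIdeal := by
    intro z hz
    have h3 : z * z = 0 := by
      apply Subtype.ext
      have := Ideal.mul_mem_mul hz hz
      rw [A.sq₁, Ideal.mem_bot] at this
      exact this
    have h4 : z * z ∈ q.asIdeal := by rw [h3]; exact zero_mem _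
    exact (q.2.mem_or_mem h4).elim id id
  have h3 : (⟨b, x, hb⟩ : A.sub) ∈ q.asIdeal ↔ A.incSub x ∈ q.asIdeal := by
    have h2 := hk (⟨b, x, hb⟩ - A.incSub x) hb
    constructor
    · intro h
      have := sub_mem h h2
      rwa [sub_sub_cancel] at this
    · intro h
      have := add_mem h2 h
      rwa [sub_add_cancel] at this
  rw [h1, h3, hP']

instance epi_val : Epi (Spec.map (CommRingCat.ofHom A.sub.val.toRingHom)) := by
  have : Surjective (Spec.map (CommRingCat.ofHom A.sub.val.toRingHom)) := ⟨comap_val_surjective A⟩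
  exact EpiKer.epi_of_app_injective _ (EpiKer.app_injective_of_ker_eq_bot _ (ker_specMap _ Subtype.val_injective))

/-- Points with values in `X₀ + K₁` are determined by their restriction to `X₁`. -/
lemma ptMap_val_injective {G : Over (Spec (CommRingCat.of R))} {x y : pt R A.sub ⟶ G}
    (hxy : ptMap A.sub.val ≫ x = ptMap A.sub.val ≫ y) : x = y := by
  ext1
  rw [← cancel_epi (Spec.map (CommRingCat.ofHom A.sub.val.toRingHom))]
  exact congr($(hxy).left)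

end epi

section av

variable {G : Over (Spec (CommRingCat.of R))} [GrpObj G]
variable {X₀ X₁ : Type u} [CommRing X₀] [CommRing X₁] [Algebra R X₀] [Algebra R X₁]
  {K₀ : Ideal X₀} {K₁ : Ideal X₁} (A : Avg (R := R) K₀ K₁)

lemma av_eq (z : pt R A.sub ⟶ G) :
    A.av (ptMap A.sub.val ≫ z) = ptMap A.hom ≫ z := by
  have h : A.Fac (ptMap A.sub.val ≫ z) := ⟨z, rfl⟩
  unfold Avg.av
  rw [dif_pos h]
  congr 1
  exact ptMap_val_injective A h.choose_spec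

lemma av_mul {x y : pt R X₁ ⟶ G} (hx : A.Fac x) (hy : A.Fac y) :
    A.av (x * y) = A.av x * A.av y := by
  obtain ⟨x', rfl⟩ := hx
  obtain ⟨y', rfl⟩ := hy
  rw [← MonObj.comp_mul, av_eq, av_eq, av_eq, MonObj.comp_mul]

lemma av_inv {x : pt R X₁ ⟶ G} (hx : A.Fac x) :
    A.av x⁻¹ = (A.av x)⁻¹ := by
  obtain ⟨x', rfl⟩ := hx
  rw [← GrpObj.comp_inv, av_eq, av_eq, GrpObj.comp_inv]

lemma av_inc (x : pt R X₀ ⟶ G) : A.av (ptMap A.inc ≫ x) = x := by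
  have h1 : ptMap A.inc ≫ x = ptMap A.sub.val ≫ ptMap A.incSub ≫ x := by
    rw [← Category.assoc, ptMap_comp, A.val_comp_incSub]
  rw [h1, av_eq, ← Category.assoc, ptMap_comp, A.hom_comp_incSub, ptMap_id, Category.id_comp]

/-- A point trivial modulo `K₁` comes from `X₀ + K₁`, by the pushout property of `Spec (X₀ + K₁)`. -/
lemma exists_fac {y : pt R X₁ ⟶ G} (hy : IsInf G K₁ y) :
    ∃ z : pt R A.sub ⟶ G, ptMap A.sub.val ≫ z = y ∧ IsInf G K₀ (ptMap A.hom ≫ z) := by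
  let L : Ideal X₀ := K₁.comap A.inc
  have hL : L ≤ K₀ := by
    intro x hx
    have := A.J_mem _ (Ideal.mem_comap.mp hx)
    rwa [A.J_inc] at this
  let p : X₁ →ₐ[R] X₁ ⧸ K₁ := Ideal.Quotient.mkₐ R K₁
  let q : X₀ ⧸ L →ₐ[R] X₁ ⧸ K₁ := Ideal.quotientMapₐ K₁ A.inc le_rfl
  let P := Groth.Agent.FlatB.PushRing.eqL p.toRingHom q.toRingHom
  have hpo := Groth.Agent.FlatB.PushSpec.isPushout_Spec p.toRingHom q.toRingHom Ideal.Quotient.mk_surjective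
  have hc : Spec.map (CommRingCat.ofHom p.toRingHom) ≫ y.left =
      Spec.map (CommRingCat.ofHom q.toRingHom) ≫ (1 : pt R (X₀ ⧸ L) ⟶ G).left := by
    have h1 : ptMap p ≫ y = 1 := hy
    have h2 : ptMap q ≫ (1 : pt R (X₀ ⧸ L) ⟶ G) = 1 := MonObj.comp_one _
    have h3 := h1.trans h2.symm
    exact congr($(h3).left)
  let z₀ : Spec (CommRingCat.of P) ⟶ G.left := hpo.desc y.left (1 : pt R (X₀ ⧸ L) ⟶ G).left hc
  have hz1 : Spec.map (CommRingCat.ofHom (Groth.Agent.FlatB.PushRing.eqL.fst p.toRingHom q.toRingHom)) ≫ z₀ = y.left :=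
    hpo.inl_desc _ _ _
  have hz2 : Spec.map (CommRingCat.ofHom (Groth.Agent.FlatB.PushRing.eqL.snd p.toRingHom q.toRingHom)) ≫ z₀ =
      (1 : pt R (X₀ ⧸ L) ⟶ G).left := hpo.inr_desc _ _ _
  let τ : P →+* A.sub := (Groth.Agent.FlatB.PushRing.eqL.fst p.toRingHom q.toRingHom).codRestrict A.sub (by
    rintro ⟨⟨b, c⟩, hbc⟩
    obtain ⟨x, rfl⟩ := Ideal.Quotient.mk_surjective c
    refine ⟨x, ?_⟩
    exact Ideal.Quotient.eq.mp hbc)
  have hτ : Spec.map (CommRingCat.ofHom A.sub.val.toRingHom) ≫ Spec.map (CommRingCat.ofHom τ) ≫ z₀ = y.left := by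
    rw [← Category.assoc, ← Spec.map_comp, ← CommRingCat.ofHom_comp, ← hz1]
    rfl
  let z : pt R A.sub ⟶ G := Over.homMk (Spec.map (CommRingCat.ofHom τ) ≫ z₀) (by
    rw [← cancel_epi (Spec.map (CommRingCat.ofHom A.sub.val.toRingHom)), ← Category.assoc, hτ, Over.w y]
    exact (Over.w (ptMap A.sub.val)).symm)
  refine ⟨z, ?_, ?_⟩
  · ext1
    exact hτ
  · let f : X₀ ⧸ L →ₐ[R] X₀ ⧸ K₀ := Ideal.Quotient.factorₐ R hL
    have h4 : ptMap f ≫ (1 : pt R (X₀ ⧸ L) ⟶ G) = 1 := MonObj.comp_one _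
    unfold IsInf
    rw [← h4]
    ext1
    rw [Over.comp_left, Over.comp_left, Over.comp_left, ← hz2]
    change Spec.map (CommRingCat.ofHom (Ideal.Quotient.mkₐ R K₀).toRingHom) ≫ Spec.map (CommRingCat.ofHom A.hom.toRingHom) ≫
      Spec.map (CommRingCat.ofHom τ) ≫ z₀ = Spec.map (CommRingCat.ofHom f.toRingHom) ≫
      Spec.map (CommRingCat.ofHom (Groth.Agent.FlatB.PushRing.eqL.snd p.toRingHom q.toRingHom)) ≫ z₀
    simp only [← Category.assoc, ← Spec.map_comp, ← CommRingCat.ofHom_comp]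
    congr 3
    ext ⟨⟨b, c⟩, hbc⟩
    obtain ⟨x, rfl⟩ := Ideal.Quotient.mk_surjective c
    have h5 : b - A.inc x ∈ K₁ := Ideal.Quotient.eq.mp hbc
    have h6 := A.J_mem _ h5
    rw [map_sub, A.J_inc] at h6
    exact Ideal.Quotient.eq.mpr h6

lemma fac_of_isInf {y : pt R X₁ ⟶ G} (hy : IsInf G K₁ y) : A.Fac y := by
  obtain ⟨z, hz, -⟩ := exists_fac A hy
  exact ⟨z, hz⟩

lemma isInf_av {y : pt R X₁ ⟶ G} (hy : IsInf G K₁ y) : IsInf G K₀ (A.av y) := by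
  obtain ⟨z, rfl, hz⟩ := exists_fac A hy
  rwa [av_eq]

/-- Naturality of averages. -/
lemma av_map {X₀' X₁' : Type u} [CommRing X₀'] [CommRing X₁'] [Algebra R X₀']
    [Algebra R X₁'] {K₀' : Ideal X₀'} {K₁' : Ideal X₁'} (A' : Avg (R := R) K₀' K₁')
    (φ₀ : X₀ →ₐ[R] X₀') (φ₁ : X₁ →ₐ[R] X₁') (hi : ∀ x, φ₁ (A.inc x) = A'.inc (φ₀ x))
    (hJ : ∀ z, A'.J (φ₁ z) = φ₀ (A.J z)) (hK : ∀ z ∈ K₁, φ₁ z ∈ K₁') {y : pt R X₁ ⟶ G} (hy : A.Fac y) :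
    A'.Fac (ptMap φ₁ ≫ y) ∧ A'.av (ptMap φ₁ ≫ y) = ptMap φ₀ ≫ A.av y := by
  obtain ⟨z, rfl⟩ := hy
  let φ : A.sub →ₐ[R] A'.sub := (φ₁.comp A.sub.val).codRestrict A'.sub (by
    rintro ⟨b, x, hb⟩
    refine ⟨φ₀ x, ?_⟩
    have := hK _ hb
    rwa [map_sub, hi] at this)
  have h1 : ptMap φ₁ ≫ ptMap A.sub.val = ptMap A'.sub.val ≫ ptMap φ := by
    rw [ptMap_comp, ptMap_comp]
    rfl
  have h2 : ptMap A'.hom ≫ ptMap φ = ptMap φ₀ ≫ ptMap A.hom := by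
    rw [ptMap_comp, ptMap_comp]
    congr 1
    ext b
    exact hJ b.1
  refine ⟨⟨ptMap φ ≫ z, ?_⟩, ?_⟩
  · rw [← Category.assoc, ← h1, Category.assoc]
  · rw [← Category.assoc, h1, Category.assoc, av_eq, av_eq, ← Category.assoc, h2, Category.assoc]

end av

section abstractForms

variable {G : Over (Spec (CommRingCat.of R))} [GrpObj G]
variable {X₀ X₁ X₂ X₃ : Type u} [CommRing X₀] [CommRing X₁] [CommRing X₂] [CommRing X₃]
  [Algebra R X₀] [Algebra R X₁] [Algebra R X₂] [Algebra R X₃]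
  {K₀ : Ideal X₀} {K₁ : Ideal X₁} {K₂ : Ideal X₂} {K₃ : Ideal X₃}

/-- Abstract form of `H¹ = 0`. `p₁`, `p₂ = A₁.inc`, `m` are the projections and the multiplication. -/
theorem exists_conj_abstract (A₀ : Avg (R := R) K₀ K₁) (A₁ : Avg (R := R) K₁ K₂)
    (p₁ m : X₁ →ₐ[R] X₂)
    (hp₁i : ∀ x, p₁ (A₀.inc x) = A₁.inc (A₀.inc x)) (hmi : ∀ x, m (A₀.inc x) = A₁.inc (A₀.inc x))
    (hJ1 : ∀ x, A₁.J (p₁ x) = A₀.inc (A₀.J x)) (hJm : ∀ x, A₁.J (m x) = A₀.inc (A₀.J x))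
    (hp1 : ∀ x ∈ K₁, p₁ x ∈ K₂) (hm : ∀ x ∈ K₁, m x ∈ K₂)
    (F F' : pt R X₁ ⟶ G) (hF : (ptMap p₁ ≫ F) * (ptMap A₁.inc ≫ F) = ptMap m ≫ F)
    (hF' : (ptMap p₁ ≫ F') * (ptMap A₁.inc ≫ F') = ptMap m ≫ F') (hFF : IsInf G K₁ (F⁻¹ * F')) :
    ∃ g : pt R X₀ ⟶ G, IsInf G K₀ g ∧ F' = (ptMap A₀.inc ≫ g) * F * (ptMap A₀.inc ≫ g)⁻¹ := by
  set c := F⁻¹ * F' with hc
  have hcf : A₀.Fac c := fac_of_isInf A₀ hFF
  have h1 : ptMap m ≫ c = (ptMap A₁.inc ≫ F)⁻¹ * (ptMap p₁ ≫ c) * (ptMap A₁.inc ≫ F) * (ptMap A₁.inc ≫ c) := by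
    rw [hc]
    simp only [MonObj.comp_mul, GrpObj.comp_inv]
    rw [← hF, ← hF']
    group
  obtain ⟨f1, e1⟩ := av_map A₀ A₁ A₀.inc m hmi hJm hm hcf
  obtain ⟨f2, e2⟩ := av_map A₀ A₁ A₀.inc p₁ hp₁i hJ1 hp1 hcf
  have h2 := congrArg A₁.av h1
  rw [av_mul A₁ (((A₁.fac_inc F).inv.mul _ f2).mul _ (A₁.fac_inc F)) (A₁.fac_inc c),
    av_mul A₁ ((A₁.fac_inc F).inv.mul _ f2) (A₁.fac_inc F), av_mul A₁ (A₁.fac_inc F).inv f2,
    av_inv A₁ (A₁.fac_inc F), av_inc A₁, av_inc A₁, e1, e2] at h2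
  set g := A₀.av c with hg
  set γ := ptMap A₀.inc ≫ g with hγ
  refine ⟨g⁻¹, (isInf_av A₀ hFF).inv, ?_⟩
  rw [GrpObj.comp_inv, ← hγ]
  have h3 : F' = F * c := by rw [hc]; group
  have h4 : c = (F⁻¹ * γ * F)⁻¹ * γ := by
    rw [eq_inv_mul_iff_mul_eq]
    exact h2.symm
  rw [h3, h4]
  group

/-- Abstract form of `H² = 0`. -/
theorem exists_hom_abstract (A₁ : Avg (R := R) K₁ K₂) (A₂ : Avg (R := R) K₂ K₃)
    (p₁ p₂ m : X₁ →ₐ[R] X₂) (q₁ q₃ q₄ : X₂ →ₐ[R] X₃)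
    (c1 : q₁.comp m = q₃.comp m) (c2 : q₁.comp p₁ = q₄.comp p₁) (c3 : q₁.comp p₂ = A₂.inc.comp m)
    (c4 : q₃.comp p₁ = q₄.comp m) (c5 : q₃.comp p₂ = A₂.inc.comp p₂) (c6 : q₄.comp p₂ = A₂.inc.comp p₁)
    (hi1 : ∀ x, q₁ (A₁.inc x) = A₂.inc (m x)) (hi3 : ∀ x, q₃ (A₁.inc x) = A₂.inc (p₂ x))
    (hi4 : ∀ x, q₄ (A₁.inc x) = A₂.inc (p₁ x))
    (hJ1 : ∀ x, A₂.J (q₁ x) = m (A₁.J x)) (hJ3 : ∀ x, A₂.J (q₃ x) = p₂ (A₁.J x))
    (hJ4 : ∀ x, A₂.J (q₄ x) = p₁ (A₁.J x))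
    (hq1 : ∀ x ∈ K₂, q₁ x ∈ K₃) (hq3 : ∀ x ∈ K₂, q₃ x ∈ K₃) (hq4 : ∀ x ∈ K₂, q₄ x ∈ K₃)
    (φ : pt R X₁ ⟶ G)
    (hφ : IsInf G K₂ ((ptMap m ≫ φ)⁻¹ * (ptMap p₁ ≫ φ) * (ptMap p₂ ≫ φ))) :
    ∃ b : pt R X₁ ⟶ G, IsInf G K₁ b ∧
      (ptMap p₁ ≫ (φ * b)) * (ptMap p₂ ≫ (φ * b)) = ptMap m ≫ (φ * b) := by
  set Φ1 := ptMap p₁ ≫ φ with hΦ1
  set Φ2 := ptMap p₂ ≫ φ with hΦ2
  set Φ12 := ptMap m ≫ φ with hΦ12
  set c := Φ12⁻¹ * Φ1 * Φ2 with hc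
  have hcf : A₁.Fac c := fac_of_isInf A₁ hφ
  set φ3 := ptMap A₂.inc ≫ Φ2 with hφ3
  have a1 : ptMap q₁ ≫ Φ12 = ptMap q₃ ≫ Φ12 := by
    rw [hΦ12, ← Category.assoc, ← Category.assoc, ptMap_comp, ptMap_comp, c1]
  have a2 : ptMap q₁ ≫ Φ1 = ptMap q₄ ≫ Φ1 := by
    rw [hΦ1, ← Category.assoc, ← Category.assoc, ptMap_comp, ptMap_comp, c2]
  have a3 : ptMap q₁ ≫ Φ2 = ptMap A₂.inc ≫ Φ12 := by
    rw [hΦ2, hΦ12, ← Category.assoc, ← Category.assoc, ptMap_comp, ptMap_comp, c3]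
  have a4 : ptMap q₃ ≫ Φ1 = ptMap q₄ ≫ Φ12 := by
    rw [hΦ1, hΦ12, ← Category.assoc, ← Category.assoc, ptMap_comp, ptMap_comp, c4]
  have a5 : ptMap q₃ ≫ Φ2 = φ3 := by
    rw [hφ3, hΦ2, ← Category.assoc, ← Category.assoc, ptMap_comp, ptMap_comp, c5]
  have a6 : ptMap q₄ ≫ Φ2 = ptMap A₂.inc ≫ Φ1 := by
    rw [hΦ1, hΦ2, ← Category.assoc, ← Category.assoc, ptMap_comp, ptMap_comp, c6]
  have e1 : (ptMap q₁ ≫ c) * (ptMap A₂.inc ≫ c) = (ptMap q₃ ≫ c) * (φ3⁻¹ * (ptMap q₄ ≫ c) * φ3) := by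
    rw [hc]
    simp only [MonObj.comp_mul, GrpObj.comp_inv]
    rw [a1, a2, a3, a4, a5, a6, ← hφ3]
    group
  obtain ⟨f1, e2⟩ := av_map A₁ A₂ m q₁ hi1 hJ1 hq1 hcf
  obtain ⟨f3, e3⟩ := av_map A₁ A₂ p₂ q₃ hi3 hJ3 hq3 hcf
  obtain ⟨f4, e4⟩ := av_map A₁ A₂ p₁ q₄ hi4 hJ4 hq4 hcf
  have hf3 : A₂.Fac φ3 := A₂.fac_inc _
  have e5 := congrArg A₂.av e1
  rw [av_mul A₂ f1 (A₂.fac_inc c), av_mul A₂ f3 ((hf3.inv.mul _ f4).mul _ hf3),
    av_mul A₂ (hf3.inv.mul _ f4) hf3, av_mul A₂ hf3.inv f4, av_inv A₂ hf3, hφ3, av_inc A₂, av_inc A₂,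
    e2, e3, e4] at e5
  set b := A₁.av c with hb
  refine ⟨b⁻¹, (isInf_av A₁ hφ).inv, ?_⟩
  simp only [MonObj.comp_mul, GrpObj.comp_inv]
  rw [← hΦ1, ← hΦ2, ← hΦ12]
  set b1 := ptMap p₁ ≫ b
  set b2 := ptMap p₂ ≫ b
  set b12 := ptMap m ≫ b
  have h7 : Φ1 * Φ2 = Φ12 * c := by rw [hc]; group
  have h8 : c = b12⁻¹ * (b2 * (Φ2⁻¹ * b1 * Φ2)) := by
    rw [← e5]; group
  have h9 : Φ12 * b12⁻¹ = Φ1 * Φ2 * (b2 * (Φ2⁻¹ * b1 * Φ2))⁻¹ := by
    rw [h7, h8]; group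
  rw [h9]
  group

end abstractForms

end K7.AvgGen
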