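import Groth.Agent.SGA3x.K10.MTLoc
import Groth.Agent.SGA3x.K7.DSProp
import Groth.Agent.SGA3x.K7.Loc
import Groth.Agent.Sga3B.BcNat
import Groth.Agent.Sga3B.BorLoc613

/-!
# Étale charts of homomorphisms of groups of multiplicative type and of finite type

`exists_chart`: étale-locally on the base, a homomorphism `u : G ⟶ H` of groups of multiplicative type and of finite
type is `D(φ) : D(M) ⟶ D(N)` for a homomorphism `φ : N → M` of finitely generated abelian groups.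
`exists_clopen_locus`: the locus where `u` has a property `P` (monomorphism, isomorphism, faithfully flat …) is open and
closed.
-/

set_option autoImplicit false

universe u

open CategoryTheory MonoidalCategory CartesianMonoidalCategory MonObj GrpObj AlgebraicGeometry Limits
open Groth.Agent Groth.Agent.Sga3B Groth.Agent.Sga3B.RedIso Groth.Agent.Sga3B.BcNat

namespace K7.Chart

section comp

variable {S T T' : Scheme.{u}} (P : MorphismProperty Scheme.{u}) [P.RespectsIso] {X Y : Over S} (a : X ⟶ Y)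

lemma has_comp_iff (f : T ⟶ S) (g : T' ⟶ T) :
    Loc.Has P ((Over.pullback f).map a) g ↔ Loc.Has P a (g ≫ f) := by
  refine P.arrow_mk_iso_iff (Arrow.isoMk ((Over.forget _).mapIso ((Over.pullbackComp g f).symm.app X))
    ((Over.forget _).mapIso ((Over.pullbackComp g f).symm.app Y)) ?_)
  have h := (Over.pullbackComp g f).inv.naturality a
  exact congr($(h.symm).left)

/-- invariance under isomorphisms over `S` -/
lemma has_iff_of_iso_base {X' Y' : Over S} (a' : X' ⟶ Y') (e₁ : X ≅ X') (e₂ : Y ≅ Y') (h : a ≫ e₂.hom = e₁.hom ≫ a')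
    (f : T ⟶ S) : Loc.Has P a f ↔ Loc.Has P a' f := by
  refine P.arrow_mk_iso_iff (Arrow.isoMk ((Over.pullback f ⋙ Over.forget _).mapIso e₁)
    ((Over.pullback f ⋙ Over.forget _).mapIso e₂) ?_)
  have h1 := congrArg (fun z => ((Over.pullback f).map z).left) h
  simp only [Functor.map_comp, Over.comp_left] at h1
  exact h1.symm

lemma has_id_iff : Loc.Has P a (𝟙 S) ↔ P a.left := by
  refine P.arrow_mk_iso_iff (Arrow.isoMk ((Over.forget _).mapIso ((Over.pullbackId (X := S)).app X))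
    ((Over.forget _).mapIso ((Over.pullbackId (X := S)).app Y)) ?_)
  have h := (Over.pullbackId (X := S)).hom.naturality a
  exact congr($(h.symm).left)

end comp

section ds

variable {S T : Scheme.{u}} (P : MorphismProperty Scheme.{u}) [P.RespectsIso] {M N : Type} [AddCommGroup M]
  [AddCommGroup N] (φ : N →+ M)

lemma has_DSmap_iff (v : T ⟶ S) : Loc.Has P (Red.DSmap S φ) v ↔ P (Red.DSmap T φ).left := by
  refine P.arrow_mk_iso_iff (Arrow.isoMk ((Over.forget _).mapIso (und (TorusAlgClosed.dsBcIso v M)))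
    ((Over.forget _).mapIso (und (TorusAlgClosed.dsBcIso v N))) ?_)
  exact congr($((BorLoc613.dsBcIso_naturality v φ).symm).left)

end ds

variable {S : Scheme.{u}} {G H : Over S} [GrpObj G] [GrpObj H]

lemma chart_comp {V W : Scheme.{u}} (w : V ⟶ S) {M N : Type} [AddCommGroup M] [AddCommGroup N]
    (k₁ : Grp.mk (Red.bc w G) ≅ Grp.mk (Red.DS V M)) (k₂ : Grp.mk (Red.bc w H) ≅ Grp.mk (Red.DS V N)) (f : G ⟶ H)
    (v : W ⟶ V) (φ : N →+ M) (g : Red.DS V M ⟶ Red.DS V N) (hg : (Over.pullback w).map f ≫ (und k₂).hom = (und k₁).hom ≫ g)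
    (h : (Over.pullback v).map g ≫ (und (TorusAlgClosed.dsBcIso v N)).hom =
      (und (TorusAlgClosed.dsBcIso v M)).hom ≫ Red.DSmap W φ) :
    (Over.pullback (v ≫ w)).map f ≫ (und (BcIso.bcCompIso v w H ≪≫ BcIso.bcMapIso v k₂ ≪≫ TorusAlgClosed.dsBcIso v N)).hom =
      (und (BcIso.bcCompIso v w G ≪≫ BcIso.bcMapIso v k₁ ≪≫ TorusAlgClosed.dsBcIso v M)).hom ≫ Red.DSmap W φ := by
  rw [und_trans, und_trans, und_trans, und_trans, und_bcMapIso, und_bcMapIso]
  have h3 : (Over.pullback (v ≫ w)).map f ≫ (und (BcIso.bcCompIso v w H)).hom =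
    (und (BcIso.bcCompIso v w G)).hom ≫ (Over.pullback v).map ((Over.pullback w).map f) := (comp_nat v w f).symm
  have h4 : (Over.pullback v).map ((Over.pullback w).map f) ≫ (Over.pullback v).map (und k₂).hom =
    (Over.pullback v).map (und k₁).hom ≫ (Over.pullback v).map g := by
    rw [← Functor.map_comp, hg, Functor.map_comp]
  rw [reassoc_of% h3, reassoc_of% h4, h]
  simp only [Category.assoc]

/-- Étale charts when both groups are split. -/
lemma exists_chart_split {V : Scheme.{u}} (w : V ⟶ S) {M N : Type} [AddCommGroup M] [AddCommGroup N]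
    (k₁ : Grp.mk (Red.bc w G) ≅ Grp.mk (Red.DS V M)) (k₂ : Grp.mk (Red.bc w H) ≅ Grp.mk (Red.DS V N)) (f : G ⟶ H)
    [IsMonHom f] (hN : AddGroup.FG N) (p₂ : V) :
    ∃ (R : CommRingCat.{u}) (v : Spec R ⟶ V) (φ : N →+ M)
      (e₁ : Grp.mk (Red.bc (v ≫ w) G) ≅ Grp.mk (Red.DS (Spec R) M))
      (e₂ : Grp.mk (Red.bc (v ≫ w) H) ≅ Grp.mk (Red.DS (Spec R) N)),
      IsOpenImmersion v ∧ p₂ ∈ Set.range v ∧
      (Over.pullback (v ≫ w)).map f ≫ (und e₂).hom = (und e₁).hom ≫ Red.DSmap (Spec R) φ := by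
  let g : Red.DS V M ⟶ Red.DS V N := (und k₁).inv ≫ (Over.pullback w).map f ≫ (und k₂).hom
  have hg0 : IsMonHom (und k₁).inv := k₁.inv.hom.isMonHom_hom
  have hg1 : IsMonHom (und k₂).hom := k₂.hom.hom.isMonHom_hom
  have hg2 : IsMonHom ((Over.pullback w).map f) := inferInstance
  have hg : IsMonHom g := inferInstanceAs (IsMonHom ((und k₁).inv ≫ (Over.pullback w).map f ≫ (und k₂).hom))
  have : Module.Finite ℤ N := Module.Finite.iff_addGroup_fg.2 hN
  obtain ⟨R, v, φ, hv, hp, -, hφ⟩ := BorLoc613.exists_spec_hom g p₂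
  exact ⟨R, v, φ, _, _, hv, hp, chart_comp w k₁ k₂ f v φ g (by simp only [g, Iso.hom_inv_id_assoc]) hφ⟩

/-- **Étale charts.** -/
theorem exists_chart (hG : SGA3x.IsMultTypeFT G) (hH : SGA3x.IsMultTypeFT H) (f : G ⟶ H) [IsMonHom f] (s : S) :
    ∃ (R : CommRingCat.{u}) (c : Spec R ⟶ S) (M N : Type) (_ : AddCommGroup M) (_ : AddCommGroup N) (φ : N →+ M)
      (e₁ : Grp.mk (Red.bc c G) ≅ Grp.mk (Red.DS (Spec R) M)) (e₂ : Grp.mk (Red.bc c H) ≅ Grp.mk (Red.DS (Spec R) N)),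
      AddGroup.FG M ∧ AddGroup.FG N ∧ Etale c ∧ s ∈ Set.range c ∧
      (Over.pullback c).map f ≫ (und e₂).hom = (und e₁).hom ≫ Red.DSmap (Spec R) φ := by
  obtain ⟨B₁, _, v₁, M, _, hv₁, ⟨p₁, hp₁⟩, hM, ⟨i₁⟩⟩ := K10.MTLoc.exists_etale_split hG s
  obtain ⟨B₂, _, v₂, N, _, hv₂, ⟨p₂, hp₂⟩, hN, ⟨i₂⟩⟩ := K10.MTLoc.exists_etale_split (K10.MTLoc.bc v₁ hH) p₁
  obtain ⟨R, v, φ, e₁, e₂, hv, ⟨p, hp⟩, h⟩ := exists_chart_split (v₂ ≫ v₁)
    (BcIso.bcCompIso v₂ v₁ G ≪≫ BcIso.bcMapIso v₂ i₁ ≪≫ TorusAlgClosed.dsBcIso v₂ M)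
    (BcIso.bcCompIso v₂ v₁ H ≪≫ i₂) f hN p₂
  refine ⟨R, v ≫ v₂ ≫ v₁, M, N, inferInstance, inferInstance, φ, e₁, e₂, hM, hN, inferInstance, ⟨p, ?_⟩, h⟩
  rw [Scheme.Hom.comp_apply, Scheme.Hom.comp_apply, hp, hp₂, hp₁]

/-- The property of a homomorphism on a chart. -/
lemma has_chart_iff {f : G ⟶ H} {R : CommRingCat.{u}} {c : Spec R ⟶ S} {M N : Type} [AddCommGroup M] [AddCommGroup N]
    {φ : N →+ M} {e₁ : Grp.mk (Red.bc c G) ≅ Grp.mk (Red.DS (Spec R) M)}
    {e₂ : Grp.mk (Red.bc c H) ≅ Grp.mk (Red.DS (Spec R) N)}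
    (h : (Over.pullback c).map f ≫ (und e₂).hom = (und e₁).hom ≫ Red.DSmap (Spec R) φ)
    (P : MorphismProperty Scheme.{u}) [P.RespectsIso] {T : Scheme.{u}} (g : T ⟶ Spec R) :
    Loc.Has P f (g ≫ c) ↔ P (Red.DSmap T φ).left := by
  rw [← has_comp_iff, has_iff_of_iso_base P _ (Red.DSmap (Spec R) φ) (und e₁) (und e₂) h g, has_DSmap_iff]

end K7.Chart
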