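import Groth.Agent.SGA3x.K7.AvgGen
import Groth.Agent.Sga3.H802.HaarHom

/-!
# Homomorphisms from a linearly reductive affine group to an arbitrary group scheme

The theorems of `Groth.Agent.Sga3.H802.HaarHom` without the assumption that `G` is separated and that its unit section
has an affine open neighbourhood. `D` is a commutative bialgebra over `R` with a normalised invariant integral
(`HaarDef.Haar`), `H = Spec D`, `G` is any group scheme over `Spec R`.

* `exists_conj` : `H¹ = 0`, homomorphisms which agree modulo a square-zero ideal are conjugate;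
* `exists_lift` : `H² = 0`, `G` smooth, homomorphisms lift modulo a square-zero ideal;
* `exists_lift_of_nilpotent`, `eq_one_of_nilpotent`: the same modulo a nilpotent ideal.
-/

set_option autoImplicit false
universe u
open CategoryTheory MonoidalCategory CartesianMonoidalCategory MonObj AlgebraicGeometry Limits
open scoped TensorProduct

namespace K7.HaarGen
open Groth.Agent.Sga3B.InfConj Groth.Agent.Sga3.H802.HaarPts Groth.Agent.Sga3.H802.HaarHom
open Groth.Agent.Sga3B.HaarDef hiding exists_conj_abstract exists_hom_abstract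

local notation "cst" => Groth.Agent.Sga3B.HaarDef.«ι»

variable {R : Type u} [CommRing R] {D : Type u} [CommRing D] [Bialgebra R D]

section

variable {G : Over (Spec (CommRingCat.of R))} [GrpObj G]
variable {X Y : Type u} [CommRing X] [Algebra R X] [CommRing Y] [Algebra R Y]

/-- **Infinitesimal conjugacy** (`H¹ = 0`). -/
theorem exists_conj (ν : Haar R D) {π : X →ₐ[R] Y} (hπ : Function.Surjective π)
    (hK : (RingHom.ker π) ^ 2 = ⊥) {F F' : pt R (D ⊗[R] X) ⟶ G} (hF : IsHomPt F) (hF' : IsHomPt F')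
    (h : ptMap (T D π) ≫ F = ptMap (T D π) ≫ F') :
    ∃ g : pt R X ⟶ G, ptMap π ≫ g = 1 ∧
      F' = (ptMap (cst R D X) ≫ g) * F * (ptMap (cst R D X) ≫ g)⁻¹ := by
  have hK1 : (RingHom.ker (T D π)) ^ 2 = ⊥ := ker_T_sq hπ hK
  have hTs : Function.Surjective (T D π) := T_surjective hπ
  have r3 : ∀ x, T D (T D π) (cst R D (D ⊗[R] X) x) = cst R D (D ⊗[R] Y) (T D π x) :=
    fun x => AlgHom.congr_fun (T_comp_ι (T D π)) x
  have hδ : ∀ x : D ⊗[R] X, T D (T D π) (δ R D X x) = δ R D Y (T D π x) :=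
    fun x => (AlgHom.congr_fun (δ_comp_T π) x).symm
  obtain ⟨g, hg1, hg2⟩ := AvgGen.exists_conj_abstract (haarAvg ν π hπ hK) (haarAvg ν (T D π) hTs hK1)
    (T D (cst R D X)) (δ R D X)
    (fun x => AlgHom.congr_fun (T_comp_ι (D := D) (cst R D X)) x)
    (fun x => AlgHom.congr_fun (δ_comp_ι (R := R) (D := D) (X := X)) x)
    (fun x => ν.J_comp_T _ x) (fun x => ν.J_comp_δ x)
    (fun x hx => by
      rw [RingHom.mem_ker] at hx ⊢
      rw [r2, hx, map_zero])
    (fun x hx => by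
      rw [RingHom.mem_ker] at hx ⊢
      rw [hδ, hx, map_zero])
    F F' hF hF'
    (isInf_of_map (T D π) hTs (by
      rw [MonObj.comp_mul, GrpObj.comp_inv, h, inv_mul_cancel]))
  exact ⟨g, hg1.map_eq_one π (fun k hk => hk), hg2⟩

/-- Lifting of points of a smooth group along square-zero extensions. -/
lemma exists_lift_pt_sq [Smooth G.hom] {E E' : Type u} [CommRing E] [Algebra R E] [CommRing E'] [Algebra R E']
    (π : E →ₐ[R] E') (hπ : Function.Surjective π) (hK : (RingHom.ker π) ^ 2 = ⊥) (x : pt R E' ⟶ G) :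
    ∃ y : pt R E ⟶ G, ptMap π ≫ y = x := by
  let e : (E ⧸ RingHom.ker π) ≃ₐ[R] E' := Ideal.quotientKerAlgEquivOfSurjective hπ
  let e₁ : (E ⧸ RingHom.ker π) →ₐ[R] E' := e
  let e₂ : E' →ₐ[R] (E ⧸ RingHom.ker π) := e.symm
  have he : e₁.comp e₂ = AlgHom.id R _ := by
    ext z
    exact e.apply_symm_apply _
  have h0 : e₁.comp (Ideal.Quotient.mkₐ R (RingHom.ker π)) = π := by
    ext z
    rfl
  obtain ⟨l, hl1, hl2⟩ := Groth.Agent.Flat2H.FSSmoothHom.isFormallySmoothHom_of_smooth G.hom E (RingHom.ker π) hK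
    (ptMap e₂ ≫ x).left (pt R E).hom
    ((Over.w (ptMap (Ideal.Quotient.mkₐ R (RingHom.ker π)))).trans (Over.w (ptMap e₂ ≫ x)).symm)
  let y : pt R E ⟶ G := Over.homMk l hl2
  have h1 : ptMap (Ideal.Quotient.mkₐ R (RingHom.ker π)) ≫ y = ptMap e₂ ≫ x := by
    ext1
    exact hl1
  refine ⟨y, ?_⟩
  rw [← h0, ← ptMap_comp, Category.assoc, h1, ← Category.assoc, ptMap_comp, he, ptMap_id, Category.id_comp]

/-- **Lifting of homomorphisms** (`H² = 0`). -/
theorem exists_lift [Smooth G.hom] (ν : Haar R D) {π : X →ₐ[R] Y}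
    (hπ : Function.Surjective π) (hK : (RingHom.ker π) ^ 2 = ⊥) {F₀ : pt R (D ⊗[R] Y) ⟶ G}
    (hF₀ : IsHomPt F₀) :
    ∃ F : pt R (D ⊗[R] X) ⟶ G, IsHomPt F ∧ ptMap (T D π) ≫ F = F₀ := by
  have hK1 : (RingHom.ker (T D π)) ^ 2 = ⊥ := ker_T_sq hπ hK
  have hTs : Function.Surjective (T D π) := T_surjective hπ
  have hTTs : Function.Surjective (T D (T D π)) := T_surjective hTs
  have hK2 : (RingHom.ker (T D (T D π))) ^ 2 = ⊥ := ker_T_sq hTs hK1
  obtain ⟨φ, hφ⟩ := exists_lift_pt_sq (G := G) (T D π) hTs hK1 F₀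
  have hc1 : ptMap (T D (T D π)) ≫ ((ptMap (δ R D X) ≫ φ)⁻¹ * (ptMap (T D (cst R D X)) ≫ φ) *
      (ptMap (cst R D (D ⊗[R] X)) ≫ φ)) = 1 := by
    have h1 : ptMap (T D (T D π)) ≫ (ptMap (T D (cst R D X)) ≫ φ) = ptMap (T D (cst R D Y)) ≫ F₀ := by
      rw [← hφ, ← Category.assoc, ← Category.assoc, ptMap_comp, ptMap_comp, T_comp, T_comp_ι, ← T_comp]
    have h2 : ptMap (T D (T D π)) ≫ (ptMap (cst R D (D ⊗[R] X)) ≫ φ) = ptMap (cst R D (D ⊗[R] Y)) ≫ F₀ := by
      rw [← hφ, ← Category.assoc, ← Category.assoc, ptMap_comp, ptMap_comp, T_comp_ι]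
    have h3 : ptMap (T D (T D π)) ≫ (ptMap (δ R D X) ≫ φ) = ptMap (δ R D Y) ≫ F₀ := by
      rw [← hφ, ← Category.assoc, ← Category.assoc, ptMap_comp, ptMap_comp, δ_comp_T]
    rw [MonObj.comp_mul, MonObj.comp_mul, GrpObj.comp_inv, h1, h2, h3, ← hF₀, _root_.mul_assoc, inv_mul_cancel]
  have t1 : ∀ x, T D (T D (T D π)) (T D (δ R D X) x) = T D (δ R D Y) (T D (T D π) x) := by
    intro x
    have := AlgHom.congr_fun (show (T D (T D (T D π))).comp (T D (δ R D X)) =
      (T D (δ R D Y)).comp (T D (T D π)) by rw [T_comp, T_comp, δ_comp_T]) x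
    exact this
  have t3 : ∀ x, T D (T D (T D π)) (δ R D (D ⊗[R] X) x) = δ R D (D ⊗[R] Y) (T D (T D π) x) := by
    intro x
    exact (AlgHom.congr_fun (δ_comp_T (T D π)) x).symm
  have t4 : ∀ x, T D (T D (T D π)) (T D (T D (cst R D X)) x) = T D (T D (cst R D Y)) (T D (T D π) x) := by
    intro x
    have := AlgHom.congr_fun (show (T D (T D (T D π))).comp (T D (T D (cst R D X))) =
      (T D (T D (cst R D Y))).comp (T D (T D π)) by rw [T_comp, T_comp, T_comp, T_comp, T_comp_ι]) x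
    exact this
  obtain ⟨b, hb1, hb2⟩ := AvgGen.exists_hom_abstract (haarAvg ν (T D π) hTs hK1)
    (haarAvg ν (T D (T D π)) hTTs hK2) (T D (cst R D X)) (cst R D (D ⊗[R] X)) (δ R D X)
    (T D (δ R D X)) (δ R D (D ⊗[R] X)) (T D (T D (cst R D X)))
    δ_coassoc (by rw [T_comp, T_comp, δ_comp_ι, T_comp_ι]) (by rw [T_comp_ι]; rfl)
    (by rw [δ_comp_T]) (by rw [δ_comp_ι]; rfl) (by rw [T_comp_ι]; rfl)
    (fun x => AlgHom.congr_fun (T_comp_ι (D := D) (δ R D X)) x)
    (fun x => AlgHom.congr_fun (δ_comp_ι (R := R) (D := D) (X := D ⊗[R] X)) x)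
    (fun x => AlgHom.congr_fun (T_comp_ι (D := D) (T D (cst R D X))) x)
    (fun x => ν.J_comp_T _ x) (fun x => ν.J_comp_δ x) (fun x => ν.J_comp_T _ x)
    (fun x hx => by
      rw [RingHom.mem_ker] at hx ⊢
      rw [t1, hx, map_zero])
    (fun x hx => by
      rw [RingHom.mem_ker] at hx ⊢
      rw [t3, hx, map_zero])
    (fun x hx => by
      rw [RingHom.mem_ker] at hx ⊢
      rw [t4, hx, map_zero])
    φ (isInf_of_map _ hTTs hc1)
  refine ⟨φ * b, hb2, ?_⟩
  rw [MonObj.comp_mul, hφ, hb1.map_eq_one (T D π) (fun k hk => hk), _root_.mul_one]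

end

section nilpotent

variable {G : Over (Spec (CommRingCat.of R))} [GrpObj G]

lemma exists_lift_of_pow [Smooth G.hom] (ν : Haar R D) (n : ℕ) :
    ∀ {X Y : Type u} [CommRing X] [Algebra R X] [CommRing Y] [Algebra R Y] {π : X →ₐ[R] Y}
    (_ : Function.Surjective π) (_ : (RingHom.ker π) ^ (n + 1) = ⊥) {F₀ : pt R (D ⊗[R] Y) ⟶ G}
    (_ : IsHomPt F₀),
    ∃ F : pt R (D ⊗[R] X) ⟶ G, IsHomPt F ∧ ptMap (T D π) ≫ F = F₀ := by
  induction n with
  | zero =>
    intro X Y _ _ _ _ π hπ hK F₀ hF₀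
    refine exists_lift ν hπ ?_ hF₀
    rw [zero_add, pow_one] at hK
    rw [hK, pow_two, Ideal.mul_bot]
  | succ n ih =>
    intro X Y _ _ _ _ π hπ hK F₀ hF₀
    let K := RingHom.ker π
    let X₁ := X ⧸ K ^ (n + 1)
    let π₁ : X →ₐ[R] X₁ := Ideal.Quotient.mkₐ R (K ^ (n + 1))
    have hπ₁ : Function.Surjective π₁ := Ideal.Quotient.mkₐ_surjective R _
    have hle : K ^ (n + 1) ≤ K := Ideal.pow_le_self (Nat.succ_ne_zero n)
    let π₂ : X₁ →ₐ[R] Y := Ideal.Quotient.liftₐ (K ^ (n + 1)) π (fun a ha => hle ha)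
    have hπ₂ : Function.Surjective π₂ := by
      intro y
      obtain ⟨x, rfl⟩ := hπ y
      exact ⟨π₁ x, rfl⟩
    have hc : π₂.comp π₁ = π := by
      ext x; rfl
    have hker2 : RingHom.ker π₂ = K.map (Ideal.Quotient.mk (K ^ (n + 1))) := by
      ext x
      obtain ⟨x, rfl⟩ := Ideal.Quotient.mk_surjective x
      rw [RingHom.mem_ker, Ideal.mem_map_iff_of_surjective _ Ideal.Quotient.mk_surjective]
      constructor
      · intro h
        exact ⟨x, h, rfl⟩
      · rintro ⟨y, hy, hxy⟩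
        rw [← hxy]
        exact hy
    have hK2 : (RingHom.ker π₂) ^ (n + 1) = ⊥ := by
      rw [hker2, ← Ideal.map_pow, Ideal.map_quotient_self]
    have hker1 : RingHom.ker π₁ = K ^ (n + 1) := by
      ext x
      rw [RingHom.mem_ker]
      exact Ideal.Quotient.eq_zero_iff_mem
    have hK1 : (RingHom.ker π₁) ^ 2 = ⊥ := by
      rw [hker1, ← pow_mul, eq_bot_iff, ← hK]
      exact Ideal.pow_le_pow_right (by omega)
    obtain ⟨F₁, hF₁, e₁⟩ := ih hπ₂ hK2 hF₀
    obtain ⟨F, hF, e⟩ := exists_lift ν hπ₁ hK1 hF₁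
    refine ⟨F, hF, ?_⟩
    rw [← hc, ← T_comp, ← ptMap_comp, Category.assoc, e, e₁]

/-- Homomorphisms lift along surjections with nilpotent kernel. -/
theorem exists_lift_of_nilpotent [Smooth G.hom] (ν : Haar R D)
    {X Y : Type u} [CommRing X] [Algebra R X] [CommRing Y] [Algebra R Y] {π : X →ₐ[R] Y}
    (hπ : Function.Surjective π) (hK : IsNilpotent (RingHom.ker π)) {F₀ : pt R (D ⊗[R] Y) ⟶ G}
    (hF₀ : IsHomPt F₀) :
    ∃ F : pt R (D ⊗[R] X) ⟶ G, IsHomPt F ∧ ptMap (T D π) ≫ F = F₀ := by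
  obtain ⟨n, hn⟩ := hK
  exact exists_lift_of_pow ν n hπ (by rw [pow_succ, hn]; exact Ideal.bot_mul _) hF₀

lemma eq_one_of_pow (ν : Haar R D) (n : ℕ) :
    ∀ {X Y : Type u} [CommRing X] [Algebra R X] [CommRing Y] [Algebra R Y] {π : X →ₐ[R] Y}
    (_ : Function.Surjective π) (_ : (RingHom.ker π) ^ (n + 1) = ⊥) {F : pt R (D ⊗[R] X) ⟶ G}
    (_ : IsHomPt F) (_ : ptMap (T D π) ≫ F = 1), F = 1 := by
  induction n with
  | zero =>
    intro X Y _ _ _ _ π hπ hK F hF h
    rw [zero_add, pow_one] at hK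
    obtain ⟨g, -, hg⟩ := exists_conj ν hπ (by rw [hK, pow_two, Ideal.mul_bot]) isHomPt_one hF
      (by rw [h, MonObj.comp_one])
    rw [hg, _root_.mul_one, mul_inv_cancel]
  | succ n ih =>
    intro X Y _ _ _ _ π hπ hK F hF h
    let K := RingHom.ker π
    let X₁ := X ⧸ K ^ (n + 1)
    let π₁ : X →ₐ[R] X₁ := Ideal.Quotient.mkₐ R (K ^ (n + 1))
    have hπ₁ : Function.Surjective π₁ := Ideal.Quotient.mkₐ_surjective R _
    have hle : K ^ (n + 1) ≤ K := Ideal.pow_le_self (Nat.succ_ne_zero n)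
    let π₂ : X₁ →ₐ[R] Y := Ideal.Quotient.liftₐ (K ^ (n + 1)) π (fun a ha => hle ha)
    have hπ₂ : Function.Surjective π₂ := by
      intro y
      obtain ⟨x, rfl⟩ := hπ y
      exact ⟨π₁ x, rfl⟩
    have hc : π₂.comp π₁ = π := by
      ext x; rfl
    have hker2 : RingHom.ker π₂ = K.map (Ideal.Quotient.mk (K ^ (n + 1))) := by
      ext x
      obtain ⟨x, rfl⟩ := Ideal.Quotient.mk_surjective x
      rw [RingHom.mem_ker, Ideal.mem_map_iff_of_surjective _ Ideal.Quotient.mk_surjective]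
      constructor
      · intro h
        exact ⟨x, h, rfl⟩
      · rintro ⟨y, hy, hxy⟩
        rw [← hxy]
        exact hy
    have hK2 : (RingHom.ker π₂) ^ (n + 1) = ⊥ := by
      rw [hker2, ← Ideal.map_pow, Ideal.map_quotient_self]
    have hker1 : RingHom.ker π₁ = K ^ (n + 1) := by
      ext x
      rw [RingHom.mem_ker]
      exact Ideal.Quotient.eq_zero_iff_mem
    have hK1 : (RingHom.ker π₁) ^ 2 = ⊥ := by
      rw [hker1, ← pow_mul, eq_bot_iff, ← hK]
      exact Ideal.pow_le_pow_right (by omega)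
    have h1 : ptMap (T D π₁) ≫ F = 1 := ih hπ₂ hK2 (hF.map π₁) (by
      rw [← Category.assoc, ptMap_comp, T_comp, hc, h])
    obtain ⟨g, -, hg⟩ := exists_conj ν hπ₁ hK1 isHomPt_one hF (by rw [h1, MonObj.comp_one])
    rw [hg, _root_.mul_one, mul_inv_cancel]

/-- **Rigidity.** A homomorphism from a linearly reductive group which is trivial modulo a nilpotent ideal is
trivial. -/
theorem eq_one_of_nilpotent (ν : Haar R D)
    {X Y : Type u} [CommRing X] [Algebra R X] [CommRing Y] [Algebra R Y] {π : X →ₐ[R] Y}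
    (hπ : Function.Surjective π) (hK : IsNilpotent (RingHom.ker π)) {F : pt R (D ⊗[R] X) ⟶ G}
    (hF : IsHomPt F) (h : ptMap (T D π) ≫ F = 1) : F = 1 := by
  obtain ⟨n, hn⟩ := hK
  exact eq_one_of_pow ν n hπ (by rw [pow_succ, hn]; exact Ideal.bot_mul _) hF h

end nilpotent


end K7.HaarGen
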