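import Groth.Agent.SGA3x.K7.JetTriv
import Groth.Agent.AGF.K501.CentField
import Groth.Agent.Books.AntiAffine
import Mathlib.RingTheory.Filtration
import Mathlib.AlgebraicGeometry.Morphisms.LocalFlatDescent

/-!
# Subgroups of a connected group over a field containing the infinitesimal neighbourhoods of the unit

* `iso_of_open`: a closed subgroup scheme of a connected group over a field containing an open neighbourhood of the unit is everything;
* `comm_of_jets`: if all infinitesimal neighbourhoods of the unit of a connected group `G` locally of finite type commute with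
  `q : Q ⟶ G`, then `G` centralizes `q`;
* `comm_of_jet`: if `Q = D(N)`, it is enough to look at the first infinitesimal neighbourhood.
-/

set_option autoImplicit false
universe u
open CategoryTheory MonoidalCategory CartesianMonoidalCategory MonObj GrpObj AlgebraicGeometry Limits

namespace K7.JetField

open Groth.Agent.Sga3B FreeBC DSPts AdGrad AdPts Groth.Agent.SGA3x.K5.ActTriv JetTriv

section lift

variable {R : Type u} [CommRing R] {A : Type u} [CommRing A] [Algebra R A]

/-- lifting along a closed immersion to an affine scheme -/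
lemma exists_lift_closed {X T : Over (Spec (CommRingCat.of R))} (y : X ⟶ DE R A) [IsClosedImmersion y.left]
    (x : T ⟶ DE R A) (h : ∀ a, fn y a = 0 → fn x a = 0) : ∃ x' : T ⟶ X, x' ≫ y = x := by
  have haff : IsAffine X.left := (IsClosedImmersion.isAffine_surjective_of_isAffine y.left).1
  let φ : Γ(X.left, ⊤) →+* Γ(T.left, ⊤) := RingHom.liftOfSurjective (fn y) (fn_surjective y) ⟨fn x, fun a ha => h a ha⟩
  have hφ : ∀ a, φ (fn y a) = fn x a := fun a =>
    RingHom.liftOfSurjective_comp_apply (fn y) (fn_surjective y) ⟨fn x, fun a ha => h a ha⟩ a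
  have hφ' : y.left.appTop ≫ CommRingCat.ofHom φ = x.left.appTop := by
    rw [← cancel_epi (Scheme.ΓSpecIso (CommRingCat.of A)).inv]
    ext a
    exact hφ a
  let x' : T.left ⟶ X.left := T.left.toSpecΓ ≫ Spec.map (CommRingCat.ofHom φ) ≫ X.left.isoSpec.inv
  have hx' : x' ≫ y.left = x.left := by
    have e1 : X.left.isoSpec.inv ≫ y.left = Spec.map y.left.appTop ≫ (DE R A).left.isoSpec.inv :=
      (Scheme.isoSpec_inv_naturality y.left).symm
    have e2 : T.left.toSpecΓ ≫ Spec.map x.left.appTop = x.left ≫ (DE R A).left.toSpecΓ :=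
      (Scheme.toSpecΓ_naturality x.left).symm
    simp only [x', Category.assoc]
    rw [e1, ← Spec.map_comp_assoc, hφ', reassoc_of% e2, Scheme.toSpecΓ_isoSpec_inv, Category.comp_id]
  refine ⟨Over.homMk x' ?_, ?_⟩
  · rw [← Over.w y, ← Category.assoc, hx', Over.w]
  · ext1
    exact hx'

end lift

section field

variable {K : Type u} [Field K] {G : Over (Spec (CommRingCat.of K))} [GrpObj G]

/-- **A closed subgroup of a connected group over a field which contains an open neighbourhood of the unit is everything.** -/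
theorem iso_of_open [LocallyOfFiniteType G.hom] [ConnectedSpace G.left] {Z : Over (Spec (CommRingCat.of K))} [GrpObj Z]
    (z : Z ⟶ G) [IsMonHom z] [IsClosedImmersion z.left] {U : Over (Spec (CommRingCat.of K))} (i : U ⟶ Z)
    [IsOpenImmersion (i ≫ z).left] (e : 𝟙_ (Over (Spec (CommRingCat.of K))) ⟶ U) (he : e ≫ i = 1) : IsIso z := by
  have hZf : Flat Z.hom := inferInstance
  have hZl : LocallyOfFiniteType Z.hom := by
    rw [← Over.w z]
    infer_instance
  have hZp : LocallyOfFinitePresentation Z.hom := inferInstance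
  let sh : Z ⊗ G ⟶ G := (fst Z G ≫ z) * snd Z G
  let π : Z ⊗ U ⟶ G := (Z ◁ (i ≫ z)) ≫ sh
  let y : Z ⊗ U ⟶ Z := fst Z U * (snd Z U ≫ i)
  have hy : y ≫ z = π := by
    simp only [y, π, sh]
    rw [MonObj.mul_comp, MonObj.comp_mul, whiskerLeft_fst_assoc, whiskerLeft_snd, Category.assoc]
  -- the shear isomorphism
  let s1 : Z ⊗ G ⟶ Z ⊗ G := lift (fst Z G) sh
  let s2 : Z ⊗ G ⟶ Z ⊗ G := lift (fst Z G) ((fst Z G ≫ z)⁻¹ * snd Z G)
  have hs12 : s1 ≫ s2 = 𝟙 _ := by
    simp only [s1, s2, sh]
    apply CartesianMonoidalCategory.hom_ext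
    · simp
    · rw [Category.assoc, lift_snd, MonObj.comp_mul, GrpObj.comp_inv, lift_fst_assoc, lift_snd, Category.id_comp]
      group
  have hs21 : s2 ≫ s1 = 𝟙 _ := by
    simp only [s1, s2, sh]
    apply CartesianMonoidalCategory.hom_ext
    · simp
    · rw [Category.assoc, lift_snd, MonObj.comp_mul, lift_fst_assoc, lift_snd, Category.id_comp]
      group
  let sI : Z ⊗ G ≅ Z ⊗ G := ⟨s1, s2, hs12, hs21⟩
  have hsh : sh = sI.hom ≫ snd Z G := (lift_snd _ _).symm
  have hsndf : Flat (snd Z G).left := inferInstanceAs (Flat (pullback.snd Z.hom G.hom))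
  have hsndp : LocallyOfFinitePresentation (snd Z G).left :=
    inferInstanceAs (LocallyOfFinitePresentation (pullback.snd Z.hom G.hom))
  have hiso : IsIso sI.hom.left := ((Over.forget _).mapIso sI).isIso_hom
  have hopen : IsOpenImmersion (Z ◁ (i ≫ z)).left :=
    MorphismProperty.of_isPullback (Groth.Agent.Sga3C.SchemImage.isPullback_whiskerLeft_left (i ≫ z) Z).flip inferInstance
  have hπ : π.left = (Z ◁ (i ≫ z)).left ≫ sI.hom.left ≫ (snd Z G).left := by
    rw [← Over.comp_left, ← Over.comp_left, ← hsh]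
  have hπf : Flat π.left := by rw [hπ]; infer_instance
  have hπp : LocallyOfFinitePresentation π.left := by rw [hπ]; infer_instance
  have hzr : Set.range z.left = Set.range π.left := by
    apply Set.Subset.antisymm
    · have e1 : lift (𝟙 Z) (toUnit Z ≫ e) ≫ π = z := by
        rw [← hy]
        simp only [y]
        rw [← Category.assoc, MonObj.comp_mul, lift_fst, lift_snd_assoc, Category.assoc, he, MonObj.comp_one,
          _root_.mul_one, Category.id_comp]
      rw [← e1, Over.comp_left, Scheme.Hom.comp_base, TopCat.coe_comp]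
      exact Set.range_comp_subset_range _ _
    · rw [← hy, Over.comp_left, Scheme.Hom.comp_base, TopCat.coe_comp]
      exact Set.range_comp_subset_range _ _
  have hcl : IsClopen (Set.range π.left) := by
    refine ⟨?_, π.left.isOpenMap.isOpen_range⟩
    rw [← hzr]
    exact z.left.isClosedEmbedding.isClosed_range
  have hne : (Set.range π.left).Nonempty := by
    rw [← hzr]
    exact ⟨_, (e ≫ i).left (IsLocalRing.closedPoint K), rfl⟩
  have hsurj : Surjective π.left := ⟨by
    rw [← Set.range_eq_univ]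
    exact (isClopen_iff.mp hcl).resolve_left hne.ne_empty⟩
  -- descent
  have sq := IsPullback.of_hasPullback π.left z.left
  have h1 : IsIso (pullback.fst π.left z.left) := by
    have h2 : pullback.lift (𝟙 _) y.left (by rw [Category.id_comp, ← hy, Over.comp_left]) ≫ pullback.fst π.left z.left = 𝟙 _ :=
      pullback.lift_fst _ _ _
    have h3 : IsSplitEpi (pullback.fst π.left z.left) := ⟨⟨⟨_, h2⟩⟩⟩
    have h4 : Mono (pullback.fst π.left z.left) := inferInstance
    exact isIso_of_mono_of_isSplitEpi _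
  have h2 : IsIso z.left := by
    have := MorphismProperty.of_isPullback_of_descendsAlong (P := MorphismProperty.isomorphisms Scheme.{u})
      (Q := @Surjective ⊓ @Flat ⊓ @LocallyOfFinitePresentation) sq
      ⟨⟨hsurj, hπf⟩, hπp⟩ h1
    exact this
  have : IsIso ((Over.forget _).map z) := h2
  exact isIso_of_reflects_iso z (Over.forget _)


/-- **If all the infinitesimal neighbourhoods of the unit of a connected group `G` commute with `q : Q ⟶ G` then `G`
centralizes `q`.** -/
theorem comm_of_jets [LocallyOfFiniteType G.hom] [ConnectedSpace G.left] {Q : Over (Spec (CommRingCat.of K))} (q : Q ⟶ G)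
    {B : Type u} [CommRing B] [Algebra K B] (j : DE K B ⟶ G) [IsOpenImmersion j.left] (ε : B →ₐ[K] K)
    (hε : ∀ (T : Over (Spec (CommRingCat.of K))) (x : T ⟶ DE K K), x ≫ deMap ε ≫ j = 1)
    (h : ∀ k, 1 ≤ k → ∀ (T : Over (Spec (CommRingCat.of K))) (x : T ⟶ DE K (B ⧸ (RingHom.ker ε) ^ (k + 1))) (t : T ⟶ Q),
      (x ≫ deMap (jetPr ε k) ≫ j) * (t ≫ q) = (t ≫ q) * (x ≫ deMap (jetPr ε k) ≫ j))
    {T : Over (Spec (CommRingCat.of K))} (g : T ⟶ G) (t : T ⟶ Q) : g * (t ≫ q) = (t ≫ q) * g := by
  have hsep : IsSeparated G.hom := Groth.Agent.Books.AntiAffine.isSeparated_hom G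
  have hη : IsClosedImmersion (η[G] : 𝟙_ (Over (Spec (CommRingCat.of K))) ⟶ G).left := by
    have h1 : IsClosedImmersion ((η[G] : 𝟙_ (Over (Spec (CommRingCat.of K))) ⟶ G).left ≫ G.hom) := by
      rw [Over.w]
      change IsClosedImmersion (𝟙 _)
      infer_instance
    exact IsClosedImmersion.of_comp _ G.hom
  obtain ⟨Z, _, z, hz, ⟨hz1, hz2, hz3⟩, -⟩ :=
    Groth.Agent.Sga3.H817.CentRepProj.exists_centralizer q (K501.CentField.locProj Q.hom)
  have hft : Algebra.FiniteType K B := by
    have h1 : LocallyOfFiniteType (j.left ≫ G.hom) := inferInstance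
    rw [Over.w] at h1
    have h2 : LocallyOfFiniteType (Spec.map (CommRingCat.ofHom (algebraMap K B))) := h1
    rw [HasRingHomProperty.Spec_iff (P := @LocallyOfFiniteType)] at h2
    simp only [CommRingCat.hom_ofHom] at h2
    exact RingHom.finiteType_algebraMap.mp h2
  have hnoeth : IsNoetherianRing B := Algebra.FiniteType.isNoetherianRing K B
  -- the ideal of the centralizer
  let P := pullback z j
  let y : P ⟶ DE K B := pullback.snd z j
  have hy : IsClosedImmersion y.left :=
    MorphismProperty.of_isPullback (P := @IsClosedImmersion) ((IsPullback.of_hasPullback z j).map (Over.forget _)) hz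
  let 𝔞 : Ideal B := RingHom.ker (fn y)
  have h1 : ∀ k, 1 ≤ k → 𝔞 ≤ (RingHom.ker ε) ^ (k + 1) := by
    intro k hk a ha
    obtain ⟨w, hw⟩ := (hz3 _ (deMap (jetPr ε k) ≫ j)).mpr fun X' x t => h k hk X' x t
    have h2 : pullback.lift w (deMap (jetPr ε k)) hw ≫ y = deMap (jetPr ε k) := pullback.lift_snd _ _ _
    have h3 : fn (deMap (jetPr ε k)) a = 0 := by
      have ha' : fn y a = 0 := ha
      rw [← h2, fn_comp, ha', map_zero]
    rw [← Category.id_comp (deMap (jetPr ε k)), fn_comp_deMap] at h3
    have h4 : jetPr ε k a = 0 := (fn_id_bijective (R := K) _).1 (by rw [h3, map_zero])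
    exact Ideal.Quotient.eq_zero_iff_mem.mp h4
  have h2 : ∀ a ∈ 𝔞, ∃ f : B, ε f = 1 ∧ f * a = 0 := by
    intro a ha
    have h3 : a ∈ (⨅ i : ℕ, (RingHom.ker ε) ^ i • ⊤ : Submodule B B) := by
      rw [Submodule.mem_iInf]
      intro i
      have h4 : a ∈ (RingHom.ker ε) ^ i := Ideal.pow_le_pow_right (by omega) (h1 (i + 1) (by omega) ha)
      rw [Ideal.smul_eq_mul, Ideal.mul_top]
      exact h4
    obtain ⟨r, hr⟩ := (Ideal.mem_iInf_smul_pow_eq_bot_iff (RingHom.ker ε) a).mp h3
    refine ⟨1 - r, ?_, ?_⟩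
    · have hr' : ε (r : B) = 0 := r.2
      rw [map_sub, map_one, hr', sub_zero]
    · rw [sub_mul, _root_.one_mul, ← smul_eq_mul, hr, sub_self]
  obtain ⟨f, hf1, hf2⟩ : ∃ f : B, ε f = 1 ∧ ∀ a ∈ 𝔞, f * a = 0 := by
    classical
    obtain ⟨t, ht⟩ := (isNoetherianRing_iff_ideal_fg B).mp hnoeth 𝔞
    choose! F hF1 hF2 using h2
    refine ⟨∏ a ∈ t, F a, ?_, fun a ha => ?_⟩
    · rw [map_prod]
      exact Finset.prod_eq_one fun a ha => hF1 a (ht ▸ Ideal.subset_span ha)
    · have h5 : 𝔞 ≤ LinearMap.ker (LinearMap.mulLeft B (∏ a ∈ t, F a)) := by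
        rw [← ht]
        refine Submodule.span_le.mpr fun b hb => ?_
        change (∏ a ∈ t, F a) * b = 0
        rw [← Finset.mul_prod_erase t F hb, mul_right_comm, hF2 b (ht ▸ Ideal.subset_span hb), zero_mul]
      exact h5 ha
  -- the open neighbourhood
  let B' := Localization.Away f
  let κ : B →ₐ[K] B' := IsScalarTower.toAlgHom K B B'
  have hκ : IsOpenImmersion (deMap κ).left :=
    inferInstanceAs (IsOpenImmersion (Spec.map (CommRingCat.ofHom (algebraMap B B'))))
  obtain ⟨i', hi'⟩ := exists_lift_closed y (deMap κ) (by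
    intro a ha
    rw [← Category.id_comp (deMap κ), fn_comp_deMap]
    have h3 : κ a = 0 := by
      have h4 : algebraMap B B' f * algebraMap B B' a = 0 := by
        rw [← map_mul, hf2 a ha, map_zero]
      exact ((IsLocalization.Away.algebraMap_isUnit (S := B') f).mul_right_eq_zero).mp h4
    rw [h3, map_zero])
  let i : DE K B' ⟶ Z := i' ≫ pullback.fst z j
  have hi : i ≫ z = deMap κ ≫ j := by
    simp only [i]
    rw [Category.assoc, pullback.condition, ← Category.assoc, hi']
  have hio : IsOpenImmersion (i ≫ z).left := by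
    rw [hi, Over.comp_left]
    infer_instance
  let ε' : B' →ₐ[K] K := IsLocalization.liftAlgHom (M := Submonoid.powers f) (f := ε) (by
    rintro ⟨_, n, rfl⟩
    rw [map_pow, hf1, one_pow]
    exact isUnit_one)
  have hε' : ε'.comp κ = ε := by
    ext b
    exact IsLocalization.lift_eq _ b
  have e₀w : 𝟙 (Spec (CommRingCat.of K)) ≫ (DE K K).hom = (𝟙_ (Over (Spec (CommRingCat.of K)))).hom := by
    change 𝟙 _ ≫ Spec.map (CommRingCat.ofHom (RingHom.id K)) = 𝟙 _
    rw [CommRingCat.ofHom_id, Spec.map_id, Category.comp_id]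
  let e₀ : 𝟙_ (Over (Spec (CommRingCat.of K))) ⟶ DE K K := Over.homMk (𝟙 (Spec (CommRingCat.of K))) e₀w
  let e : 𝟙_ (Over (Spec (CommRingCat.of K))) ⟶ DE K B' := e₀ ≫ deMap ε'
  have he : e ≫ i = 1 := by
    rw [← cancel_mono z, Category.assoc, hi, MonObj.one_comp]
    simp only [e]
    rw [Category.assoc, ← Category.assoc (deMap ε'), ← deMap_comp, hε', hε]
  have hziso : IsIso z := iso_of_open z i e he
  have h3 := (hz3 T g).mp ⟨g ≫ inv z, by rw [Category.assoc, IsIso.inv_hom_id, Category.comp_id]⟩ T (𝟙 T) t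
  rw [Category.id_comp] at h3
  exact h3


end field

section conj

variable {S : Scheme.{u}} {G H : Over S} [GrpObj G] [GrpObj H] (u : H ⟶ G)

/-- `H` acts on `G` by inner automorphisms through `u : H ⟶ G`. -/
noncomputable def conjAct : G ⊗ H ⟶ G := (snd _ _ ≫ u)⁻¹ * fst _ _ * (snd _ _ ≫ u)

lemma lift_conjAct {X : Over S} (g : X ⟶ G) (h : X ⟶ H) : lift g h ≫ conjAct u = (h ≫ u)⁻¹ * g * (h ≫ u) := by
  simp only [conjAct]
  rw [MonObj.comp_mul, MonObj.comp_mul, GrpObj.comp_inv, ← Category.assoc, lift_fst, lift_snd]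

lemma isAct_conjAct [IsMonHom u] : IsAct (conjAct u) :=
  { one := fun {T} x => by
      rw [lift_conjAct, MonObj.one_comp]
      group
    mul := fun {T} x h h' => by
      rw [lift_conjAct, lift_conjAct, lift_conjAct, MonObj.mul_comp]
      group }

lemma lift_conjAct_eq_iff {X : Over S} (g : X ⟶ G) (h : X ⟶ H) :
    lift g h ≫ conjAct u = g ↔ g * (h ≫ u) = (h ≫ u) * g := by
  rw [lift_conjAct]
  generalize h ≫ u = a
  constructor
  · intro h1
    calc g * a = a * (a⁻¹ * g * a) := by group
      _ = a * g := by rw [h1]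
  · intro h1
    rw [_root_.mul_assoc, h1]
    group

end conj

section field

variable {K : Type u} [Field K] {G : Over (Spec (CommRingCat.of K))} [GrpObj G]

/-- **If the first infinitesimal neighbourhood of the unit of a connected group `G` over a field commutes with
`u : D(N) ⟶ G`, then `u` is central.** -/
theorem comm_of_jet [LocallyOfFiniteType G.hom] [ConnectedSpace G.left] {N : Type} [AddCommGroup N]
    (u : Red.DS (Spec (CommRingCat.of K)) N ⟶ G) [IsMonHom u]
    {B : Type u} [CommRing B] [Algebra K B] (j : DE K B ⟶ G) [IsOpenImmersion j.left] (ε : B →ₐ[K] K)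
    (hε : ∀ (T : Over (Spec (CommRingCat.of K))) (x : T ⟶ DE K K), x ≫ deMap ε ≫ j = 1)
    (h : ∀ (T : Over (Spec (CommRingCat.of K))) (x : T ⟶ DE K (B ⧸ (RingHom.ker ε) ^ (1 + 1)))
      (t : T ⟶ Red.DS (Spec (CommRingCat.of K)) N),
      (x ≫ deMap (jetPr ε 1) ≫ j) * (t ≫ u) = (t ≫ u) * (x ≫ deMap (jetPr ε 1) ≫ j))
    {T : Over (Spec (CommRingCat.of K))} (g : T ⟶ G) (t : T ⟶ Red.DS (Spec (CommRingCat.of K)) N) :
    g * (t ≫ u) = (t ≫ u) * g := by
  refine comm_of_jets u j ε hε (fun k hk T x t => ?_) g t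
  rw [← lift_conjAct_eq_iff]
  refine triv_jet (isAct_conjAct u) j ε (fun T x t => ?_) (fun T x t => ?_) k hk T x t
  · rw [hε, lift_conjAct]
    group
  · rw [lift_conjAct_eq_iff]
    exact h T x t

end field

end K7.JetField
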