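import Groth.Agent.SGA3x.K5.ActTriv

/-!
# Actions of diagonalizable groups near a fixed section

`α : X ⊗ D(N) ⟶ X` an action of `D(N)` on a scheme `X` over `Spec R`, `j : Spec B ⟶ X` an affine open, `ε : B → R` an
augmentation whose section is fixed by the action, `I = ker ε`.

* `exists_jetAct`: the action induces an action on `Spec (B/I^{n+1})`;
* `triv_jet`: if the action is trivial on `Spec (B/I^2)` then it is trivial on all `Spec (B/I^{n+1})`;
* `exists_triv_away`: if `B` is of finite type and the action is trivial over the residue field of a prime `𝔭`, then there is `f ∉ 𝔭`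
  such that the action on `Spec (B/I^2)` is trivial over `R_f`.
-/

set_option autoImplicit false
universe u
open CategoryTheory MonoidalCategory CartesianMonoidalCategory MonObj GrpObj AlgebraicGeometry Limits

namespace K7.JetTriv

open Groth.Agent.Sga3B FreeBC DSPts AdGrad AdPts Groth.Agent.SGA3x.K5.ActTriv Groth.Agent.SGA3x.K5
open scoped TensorProduct

section deMap

variable {R : Type u} [CommRing R] {A A' A'' : Type u} [CommRing A] [Algebra R A] [CommRing A'] [Algebra R A']
  [CommRing A''] [Algebra R A'']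

/-- the morphism of `R`-schemes attached to a homomorphism of `R`-algebras -/
noncomputable def deMap (π : A →ₐ[R] A') : DE R A' ⟶ DE R A :=
  Over.homMk (Spec.map (CommRingCat.ofHom (π : A →+* A'))) (by
    change Spec.map _ ≫ Spec.map _ = Spec.map _
    rw [← Spec.map_comp, ← CommRingCat.ofHom_comp]
    congr 2
    exact π.comp_algebraMap)

lemma fn_comp_deMap {T : Over (Spec (CommRingCat.of R))} (x : T ⟶ DE R A') (π : A →ₐ[R] A') (a : A) :
    fn (x ≫ deMap π) a = fn x (π a) := by
  rw [fn_comp, fn_eq x]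
  congr 1
  have h : CommRingCat.ofHom (π : A →+* A') ≫ (Scheme.ΓSpecIso (CommRingCat.of A')).inv =
      (Scheme.ΓSpecIso (CommRingCat.of A)).inv ≫ (Spec.map (CommRingCat.ofHom (π : A →+* A'))).appTop :=
    Scheme.ΓSpecIso_inv_naturality _
  have h1 := congr($(h).hom a)
  have h2 : fn (𝟙 (DE R A')) (π a) = (Scheme.ΓSpecIso (CommRingCat.of A')).inv.hom (π a) := by
    simp [fn]
  rw [h2]
  exact h1.symm

lemma deMap_id : deMap (AlgHom.id R A) = 𝟙 (DE R A) := by
  apply fn_injective
  intro a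
  rw [← Category.id_comp (deMap (AlgHom.id R A)), fn_comp_deMap]
  rfl

lemma deMap_comp (π : A →ₐ[R] A') (π' : A' →ₐ[R] A'') : deMap (π'.comp π) = deMap π' ≫ deMap π := by
  apply fn_injective
  intro a
  rw [fn_comp_deMap, ← Category.id_comp (deMap (π'.comp π)), ← Category.id_comp (deMap π'), fn_comp_deMap, fn_comp_deMap]
  rfl

lemma mono_deMap (π : A →ₐ[R] A') (hπ : Function.Surjective π) : Mono (deMap π) where
  right_cancellation {T} x y h := by
    apply fn_injective
    intro a'
    obtain ⟨a, rfl⟩ := hπ a'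
    rw [← fn_comp_deMap, h, fn_comp_deMap]

lemma eq_comp_deMap {T : Over (Spec (CommRingCat.of R))} (x : T ⟶ DE R A) (π : A →ₐ[R] A') (hπ : Function.Surjective π)
    (h : ∀ a, π a = 0 → fn x a = 0) : ∃ x' : T ⟶ DE R A', x' ≫ deMap π = x := by
  let φ : A' →+* Γ(T.left, ⊤) := (RingHom.liftOfSurjective (π : A →+* A') hπ) ⟨fn x, fun a ha => h a ha⟩
  have hφ : ∀ a, φ (π a) = fn x a := fun a =>
    RingHom.liftOfSurjective_comp_apply (π : A →+* A') hπ ⟨fn x, fun a ha => h a ha⟩ a
  obtain ⟨x', hx'⟩ := exists_of_ringHom (R := R) (E := A') (X := T) φ (fun r => by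
    rw [← π.commutes r, hφ, fn_algebraMap])
  refine ⟨x', fn_injective fun a => ?_⟩
  rw [fn_comp_deMap, hx', hφ]

/-- a surjection with nilpotent kernel is surjective on the spectra -/
lemma surjective_deMap (π : A →ₐ[R] A') (hπ : Function.Surjective π) (h : ∀ a, π a = 0 → IsNilpotent a) :
    Function.Surjective (deMap π).left := by
  intro (z : PrimeSpectrum A)
  have h1 : Set.range (PrimeSpectrum.comap (π : A →+* A')) = PrimeSpectrum.zeroLocus (RingHom.ker (π : A →+* A')) :=
    range_comap_of_surjective _ _ hπ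
  have h2 : z ∈ Set.range (PrimeSpectrum.comap (π : A →+* A')) := by
    rw [h1, PrimeSpectrum.mem_zeroLocus]
    intro a ha
    obtain ⟨n, hn⟩ := h a ha
    exact (PrimeSpectrum.isPrime z).mem_of_pow_mem n (by rw [hn]; exact Ideal.zero_mem _)
  exact h2

end deMap

section hom

variable {R : Type u} [CommRing R] {N : Type} [AddCommGroup N] {A A' : Type u} [CommRing A] [Algebra R A]
  [CommRing A'] [Algebra R A']
variable {α : DE R A ⊗ Red.DS (Spec (CommRingCat.of R)) N ⟶ DE R A} (hα : IsAct α)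

/-- homogeneous elements of nonzero degree vanish on the locus where the action is trivial -/
lemma map_eq_zero (π : A →ₐ[R] A')
    (h : ∀ (T : Over (Spec (CommRingCat.of R))) (x : T ⟶ DE R A') (t : T ⟶ Red.DS (Spec (CommRingCat.of R)) N),
      lift (x ≫ deMap π) t ≫ α = x ≫ deMap π) {n : N} (hn : n ≠ 0) {b : A} (hb : (coact hα).IsHom n b) : π b = 0 := by
  let x := gU R A' N
  let t := tU R A' N
  have h0 : rho α b = MonoidAlgebra.single (Multiplicative.ofAdd n) b := hb
  have h1 := fn_act α (x ≫ deMap π) t b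
  rw [h _ x t, h0, lft_single, fn_comp_deMap, fn_gU, dsChar_tU] at h1
  have h3 : (fn (𝟙 (U R A' N))) (MonoidAlgebra.single (1 : Multiplicative N) (π b)) =
      (fn (𝟙 (U R A' N))) (MonoidAlgebra.single (1 : Multiplicative N) (π b)) *
        fn (𝟙 (U R A' N)) (MonoidAlgebra.single (Multiplicative.ofAdd n) 1) := h1
  rw [← _root_.map_mul, MonoidAlgebra.single_mul_single, _root_.one_mul, _root_.mul_one] at h3
  have h4 := (fn_id_bijective (R := R) _).1 h3
  have h5 := congrArg (fun y : MonoidAlgebra A' (Multiplicative N) => y.coeff 1) h4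
  simp only [MonoidAlgebra.coeff_single] at h5
  rw [Finsupp.single_eq_same, Finsupp.single_eq_of_ne] at h5
  · exact h5
  · intro h6
    apply hn
    simpa using h6.symm

/-- the action is trivial where the homogeneous elements of nonzero degree vanish -/
lemma lift_act_eq {T : Over (Spec (CommRingCat.of R))} (x : T ⟶ DE R A)
    (h : ∀ (n : N) (b : A), n ≠ 0 → (coact hα).IsHom n b → fn x b = 0)
    (t : T ⟶ Red.DS (Spec (CommRingCat.of R)) N) : lift x t ≫ α = x := by
  apply fn_injective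
  intro a
  have h1 : ∀ n : N, fn (lift x t ≫ α) ((coact hα).comp n a) = fn x ((coact hα).comp n a) := by
    intro n
    have h2 : rho α ((coact hα).comp n a) = MonoidAlgebra.single (Multiplicative.ofAdd n) ((coact hα).comp n a) :=
      (coact hα).isHom_comp n a
    rw [fn_act, h2, lft_single]
    by_cases hn : n = 0
    · subst hn
      rw [ofAdd_zero, _root_.map_one, _root_.mul_one]
    · rw [h n _ hn ((coact hα).isHom_comp n a), MulZeroClass.zero_mul]
  rw [← (coact hα).sum_comp a _ subset_rfl, map_sum, map_sum]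
  exact Finset.sum_congr rfl fun n _ => h1 n

end hom

section jet

variable {R : Type u} [CommRing R] {N : Type} [AddCommGroup N] {A A' : Type u} [CommRing A] [Algebra R A]
  [CommRing A'] [Algebra R A']

lemma mem_map_of_mapAlgHom_eq_zero (π : A →ₐ[R] A') (x : MonoidAlgebra A (Multiplicative N))
    (hx : MonoidAlgebra.mapAlgHom (Multiplicative N) π x = 0) :
    x ∈ (RingHom.ker π).map (algebraMap A (MonoidAlgebra A (Multiplicative N))) := by
  have h1 : ∀ m, x.coeff m ∈ RingHom.ker π := fun m => by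
    have h2 := congrArg (fun y => MonoidAlgebra.coeff y m) hx
    simp only [MonoidAlgebra.coeff_mapAlgHom] at h2
    exact h2
  rw [← MonoidAlgebra.sum_coeff_single x, Finsupp.sum]
  refine sum_mem fun m _ => ?_
  have h3 : (MonoidAlgebra.single m (x.coeff m) : MonoidAlgebra A (Multiplicative N)) =
      algebraMap A (MonoidAlgebra A (Multiplicative N)) (x.coeff m) * MonoidAlgebra.single m 1 := by
    have : algebraMap A (MonoidAlgebra A (Multiplicative N)) (x.coeff m) = MonoidAlgebra.single 1 (x.coeff m) := rfl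
    rw [this, MonoidAlgebra.single_mul_single, _root_.one_mul, _root_.mul_one]
  rw [h3]
  exact Ideal.mul_mem_right _ _ (Ideal.mem_map_of_mem _ (h1 m))


variable {B : Type u} [CommRing B] [Algebra R B]

/-- the augmentation of the jet algebra -/
noncomputable def jetAug (ε : B →ₐ[R] R) (k : ℕ) : (B ⧸ (RingHom.ker ε) ^ (k + 1)) →ₐ[R] R :=
  Ideal.Quotient.liftₐ _ ε fun _ ha => Ideal.pow_le_self (Nat.succ_ne_zero k) ha

/-- the projection to the jet algebra -/
noncomputable abbrev jetPr (ε : B →ₐ[R] R) (k : ℕ) : B →ₐ[R] (B ⧸ (RingHom.ker ε) ^ (k + 1)) :=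
  Ideal.Quotient.mkₐ R _

lemma jetAug_jetPr (ε : B →ₐ[R] R) (k : ℕ) (b : B) : jetAug ε k (jetPr ε k b) = ε b := rfl

lemma jetPr_surjective (ε : B →ₐ[R] R) (k : ℕ) : Function.Surjective (jetPr ε k) := Ideal.Quotient.mkₐ_surjective _ _

lemma ker_jetAug (ε : B →ₐ[R] R) (k : ℕ) :
    RingHom.ker (jetAug ε k) = (RingHom.ker ε).map (jetPr ε k) := by
  apply le_antisymm
  · intro a ha
    obtain ⟨b, rfl⟩ := jetPr_surjective ε k a
    exact Ideal.mem_map_of_mem _ ha
  · rw [Ideal.map_le_iff_le_comap]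
    intro b hb
    exact hb

lemma ker_jetAug_pow (ε : B →ₐ[R] R) (k : ℕ) : (RingHom.ker (jetAug ε k)) ^ (k + 1) = ⊥ := by
  rw [ker_jetAug, ← Ideal.map_pow, eq_bot_iff, Ideal.map_le_iff_le_comap]
  intro b hb
  exact Ideal.Quotient.eq_zero_iff_mem.mpr hb

variable {X : Over (Spec (CommRingCat.of R))} {α : X ⊗ Red.DS (Spec (CommRingCat.of R)) N ⟶ X}

/-- an action induces actions on the infinitesimal neighbourhoods of a fixed section -/
theorem exists_jetAct (hα : IsAct α) (j : DE R B ⟶ X) [IsOpenImmersion j.left] (ε : B →ₐ[R] R)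
    (hε : ∀ (T : Over (Spec (CommRingCat.of R))) (x : T ⟶ DE R R) (t : T ⟶ Red.DS (Spec (CommRingCat.of R)) N),
      lift (x ≫ deMap ε ≫ j) t ≫ α = x ≫ deMap ε ≫ j) (k : ℕ) :
    ∃ αk : DE R (B ⧸ (RingHom.ker ε) ^ (k + 1)) ⊗ Red.DS (Spec (CommRingCat.of R)) N ⟶
        DE R (B ⧸ (RingHom.ker ε) ^ (k + 1)), IsAct αk ∧
      ∀ (T : Over (Spec (CommRingCat.of R))) (x : T ⟶ DE R (B ⧸ (RingHom.ker ε) ^ (k + 1)))
        (t : T ⟶ Red.DS (Spec (CommRingCat.of R)) N),
        (lift x t ≫ αk) ≫ deMap (jetPr ε k) ≫ j = lift (x ≫ deMap (jetPr ε k) ≫ j) t ≫ α := by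
  let A := B ⧸ (RingHom.ker ε) ^ (k + 1)
  let r : MonoidAlgebra A (Multiplicative N) →ₐ[R] MonoidAlgebra R (Multiplicative N) :=
    MonoidAlgebra.mapAlgHom (Multiplicative N) (jetAug ε k)
  have hjm : Mono j := Over.mono_of_mono_left j
  have hpm : Mono (deMap (jetPr ε k)) := mono_deMap _ (jetPr_surjective ε k)
  have hker : (RingHom.ker r) ^ (k + 1) = ⊥ := by
    rw [eq_bot_iff]
    refine (Ideal.pow_right_mono (fun x hx => mem_map_of_mapAlgHom_eq_zero (jetAug ε k) x hx) (k + 1)).trans ?_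
    rw [← Ideal.map_pow, ker_jetAug_pow, Ideal.map_bot]
  have hrs : Function.Surjective r := by
    intro y
    induction y using MonoidAlgebra.induction_linear with
    | zero => exact ⟨0, map_zero _⟩
    | add x y hx hy =>
      obtain ⟨a, rfl⟩ := hx
      obtain ⟨b, rfl⟩ := hy
      exact ⟨a + b, map_add _ _ _⟩
    | single m c =>
      refine ⟨MonoidAlgebra.single m (algebraMap R A c), ?_⟩
      rw [MonoidAlgebra.mapAlgHom_single, AlgHom.commutes]
      rfl
  have hsurj : Function.Surjective (deMap r).left := surjective_deMap r hrs fun a ha => ⟨k + 1, by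
    have h1 : a ^ (k + 1) ∈ (RingHom.ker r) ^ (k + 1) := Ideal.pow_mem_pow ha _
    rw [hker] at h1
    exact h1⟩
  -- the universal translate
  let a : U R A N ⟶ X := lift (gU R A N ≫ deMap (jetPr ε k) ≫ j) (tU R A N) ≫ α
  have e1 : deMap r ≫ gU R A N = gU R R N ≫ deMap (jetAug ε k) := by
    apply fn_injective
    intro c
    rw [fn_comp_deMap, fn_gU, fn_comp, fn_gU, ← fn_comp, Category.comp_id, ← Category.id_comp (deMap r), fn_comp_deMap]
    congr 1
    exact MonoidAlgebra.mapAlgHom_single _ _ _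
  have e2 : deMap r ≫ a = (gU R R N ≫ deMap ε) ≫ j := by
    have e3 : deMap (jetAug ε k) ≫ deMap (jetPr ε k) = deMap ε := by
      rw [← deMap_comp]
      rfl
    calc deMap r ≫ a = lift (gU R R N ≫ deMap ε ≫ j) (deMap r ≫ tU R A N) ≫ α := by
          rw [← Category.assoc, comp_lift, reassoc_of% e1, ← reassoc_of% e3]
      _ = _ := by rw [hε, Category.assoc]
  obtain ⟨a', ha'⟩ := OverAff898.exists_lift j a (by
    rintro _ ⟨z, rfl⟩
    obtain ⟨w, rfl⟩ := hsurj z
    rw [← Scheme.Hom.comp_apply, ← Over.comp_left, e2, Over.comp_left, Scheme.Hom.comp_apply]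
    exact ⟨_, rfl⟩)
  have e4 : deMap r ≫ a' = gU R R N ≫ deMap ε := by
    rw [← cancel_mono j, Category.assoc, ha', e2]
  -- the coaction
  have h5 : ∀ b : B, b ∈ RingHom.ker ε → ∃ y : MonoidAlgebra A (Multiplicative N), y ∈ RingHom.ker r ∧
      fn a' b = fn (𝟙 _) y := by
    intro b hb
    obtain ⟨y, hy⟩ := (fn_id_bijective (R := R) (MonoidAlgebra A (Multiplicative N))).2 (fn a' b)
    refine ⟨y, ?_, hy.symm⟩
    have h6 : fn (deMap r ≫ a') b = fn (𝟙 _) (r y) := by
      rw [fn_comp, ← hy, ← fn_comp, Category.comp_id, ← Category.id_comp (deMap r), fn_comp_deMap]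
    rw [e4, fn_comp_deMap] at h6
    have h7 : ε b = 0 := hb
    rw [h7, map_zero] at h6
    exact (fn_id_bijective (R := R) _).1 (by rw [← h6, map_zero])
  obtain ⟨a'', ha''⟩ := eq_comp_deMap a' (jetPr ε k) (jetPr_surjective ε k) (by
    intro b hb
    have hb' : b ∈ (RingHom.ker ε) ^ (k + 1) := Ideal.Quotient.eq_zero_iff_mem.mp hb
    have h8 : (RingHom.ker ε) ^ (k + 1) ≤ (((RingHom.ker r) ^ (k + 1)).map (fn (𝟙 (U R A N)))).comap (fn a') := by
      rw [← Ideal.map_le_iff_le_comap, Ideal.map_pow, Ideal.map_pow]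
      refine Ideal.pow_right_mono ?_ _
      rw [Ideal.map_le_iff_le_comap]
      intro c hc
      obtain ⟨y, hy, hy'⟩ := h5 c hc
      rw [Ideal.mem_comap, hy']
      exact Ideal.mem_map_of_mem _ hy
    have h9 := h8 hb'
    rw [hker, Ideal.map_bot, Ideal.mem_comap, Ideal.mem_bot] at h9
    exact h9)
  obtain ⟨v, hv1, hv2, -⟩ := exists_pair (R := R) (A := A) (N := N) (fst (DE R A) (Red.DS (Spec (CommRingCat.of R)) N)) (snd _ _)
  have key : ∀ (T : Over (Spec (CommRingCat.of R))) (x : T ⟶ DE R A) (t : T ⟶ Red.DS (Spec (CommRingCat.of R)) N),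
      (lift x t ≫ v ≫ a'') ≫ deMap (jetPr ε k) ≫ j = lift (x ≫ deMap (jetPr ε k) ≫ j) t ≫ α := by
    intro T x t
    calc (lift x t ≫ v ≫ a'') ≫ deMap (jetPr ε k) ≫ j = lift x t ≫ v ≫ a := by
          rw [Category.assoc, Category.assoc, reassoc_of% ha'', ha']
      _ = _ := by
          simp only [a]
          rw [← Category.assoc v, comp_lift, hv2, reassoc_of% hv1, ← Category.assoc, comp_lift, lift_snd,
            lift_fst_assoc]
  have hm : Mono (deMap (jetPr ε k) ≫ j) := inferInstance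
  refine ⟨v ≫ a'', ?_, key⟩
  exact
    { one := fun {T} x => by
        rw [← cancel_mono (deMap (jetPr ε k) ≫ j), key, hα.one]
      mul := fun {T} x t t' => by
        rw [← cancel_mono (deMap (jetPr ε k) ≫ j), key, key, key, hα.mul] }


/-- **an action trivial on the first infinitesimal neighbourhood of a fixed section is trivial on all of them** -/
theorem triv_jet (hα : IsAct α) (j : DE R B ⟶ X) [IsOpenImmersion j.left] (ε : B →ₐ[R] R)
    (hε : ∀ (T : Over (Spec (CommRingCat.of R))) (x : T ⟶ DE R R) (t : T ⟶ Red.DS (Spec (CommRingCat.of R)) N),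
      lift (x ≫ deMap ε ≫ j) t ≫ α = x ≫ deMap ε ≫ j)
    (h1 : ∀ (T : Over (Spec (CommRingCat.of R))) (x : T ⟶ DE R (B ⧸ (RingHom.ker ε) ^ (1 + 1)))
      (t : T ⟶ Red.DS (Spec (CommRingCat.of R)) N),
      lift (x ≫ deMap (jetPr ε 1) ≫ j) t ≫ α = x ≫ deMap (jetPr ε 1) ≫ j) (k : ℕ) (hk : 1 ≤ k) :
    ∀ (T : Over (Spec (CommRingCat.of R))) (x : T ⟶ DE R (B ⧸ (RingHom.ker ε) ^ (k + 1)))
      (t : T ⟶ Red.DS (Spec (CommRingCat.of R)) N),
      lift (x ≫ deMap (jetPr ε k) ≫ j) t ≫ α = x ≫ deMap (jetPr ε k) ≫ j := by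
  induction k, hk using Nat.le_induction with
  | base => exact h1
  | succ k hk ih =>
  classical
  let A := B ⧸ (RingHom.ker ε) ^ (k + 1 + 1)
  obtain ⟨αA, hA, hA'⟩ := exists_jetAct hα j ε hε (k + 1)
  have hjm : Mono j := Over.mono_of_mono_left j
  have hpm : Mono (deMap (jetPr ε (k + 1))) := mono_deMap _ (jetPr_surjective ε (k + 1))
  have hm : Mono (deMap (jetPr ε (k + 1)) ≫ j) := inferInstance
  let π : A →ₐ[R] (B ⧸ (RingHom.ker ε) ^ (k + 1)) :=
    Ideal.Quotient.factorₐ R (Ideal.pow_le_pow_right (Nat.le_succ (k + 1)))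
  have hπ : π.comp (jetPr ε (k + 1)) = jetPr ε k := rfl
  have hπ' : deMap π ≫ deMap (jetPr ε (k + 1)) = deMap (jetPr ε k) := by rw [← deMap_comp, hπ]
  let C := coact hA
  have h2 : ∀ (n : N) (b : A), n ≠ 0 → C.IsHom n b → π b = 0 := fun n b hn hb => by
    refine map_eq_zero hA π (fun T x t => ?_) hn hb
    rw [← cancel_mono (deMap (jetPr ε (k + 1)) ≫ j), hA', Category.assoc, reassoc_of% hπ']
    exact ih T x t
  let m : Ideal A := RingHom.ker (jetAug ε (k + 1))
  have hm0 : m ^ (k + 1 + 1) = ⊥ := ker_jetAug_pow ε (k + 1)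
  have h3 : ∀ b : A, π b = 0 → b ∈ m ^ (k + 1) := by
    intro b hb
    obtain ⟨b, rfl⟩ := jetPr_surjective ε (k + 1) b
    have h4 : b ∈ (RingHom.ker ε) ^ (k + 1) := Ideal.Quotient.eq_zero_iff_mem.mp hb
    have h5 := Ideal.mem_map_of_mem (jetPr ε (k + 1)) h4
    rw [Ideal.map_pow, ← ker_jetAug] at h5
    exact h5
  have h4 : ∀ b : A, b - C.comp 0 b ∈ m ^ (k + 1) := by
    intro b
    have h5 : b - C.comp 0 b = ∑ n ∈ (C.degs b).erase 0, C.comp n b := by
      have h6 := C.sum_comp b (insert 0 (C.degs b)) (Finset.subset_insert _ _)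
      rw [← Finset.sum_erase_add _ _ (Finset.mem_insert_self 0 (C.degs b)), Finset.erase_insert_eq_erase] at h6
      exact sub_eq_of_eq_add h6.symm
    rw [h5]
    exact sum_mem fun n hn => h3 _ (h2 n _ (Finset.ne_of_mem_erase hn) (C.isHom_comp n b))
  have h5 : ∀ b ∈ m ^ (k + 1), C.IsHom 0 b := by
    intro b hb
    have hb' : b ∈ m ^ k * m := (pow_succ m k).le hb
    refine Submodule.mul_induction_on hb' (fun u hu v hv => ?_) (fun x y hx hy => hx.add hy)
    have hu' : u ∈ m := Ideal.pow_le_self (by omega) hu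
    have e1 : (C.comp 0 u) * (v - C.comp 0 v) = 0 := by
      have h6 : C.comp 0 u ∈ m := by
        rw [← sub_sub_cancel u (C.comp 0 u)]
        exact m.sub_mem hu' (Ideal.pow_le_self (Nat.succ_ne_zero k) (h4 u))
      have h7 := Ideal.mul_mem_mul h6 (h4 v)
      rw [← pow_succ', hm0] at h7
      exact h7
    have e2 : (u - C.comp 0 u) * v = 0 := by
      have h7 := Ideal.mul_mem_mul (h4 u) hv
      rw [← pow_succ, hm0] at h7
      exact h7
    have e3 : u * v = C.comp 0 u * C.comp 0 v := by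
      have : u * v = C.comp 0 u * C.comp 0 v + (C.comp 0 u) * (v - C.comp 0 v) + (u - C.comp 0 u) * v := by ring
      rw [this, e1, e2, add_zero, add_zero]
    have h7 := (C.isHom_comp 0 u).mul (C.isHom_comp 0 v)
    rw [add_zero, ← e3] at h7
    exact h7
  have h6 : ∀ (n : N) (b : A), n ≠ 0 → C.IsHom n b → b = 0 := by
    intro n b hn hb
    rw [← C.comp_of_isHom hb]
    exact C.comp_of_isHom_of_ne (h5 b (h3 b (h2 n b hn hb))) hn.symm
  intro T x t
  rw [← hA', lift_act_eq hA x fun n b hn hb => by rw [h6 n b hn hb, map_zero]]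


lemma sub_mem_span (ε : B →ₐ[R] R) (t : Set B) (ht : Algebra.adjoin R t = ⊤) (b : B) :
    b - algebraMap R B (ε b) ∈ Ideal.span ((fun y => y - algebraMap R B (ε y)) '' t) := by
  have h : b ∈ Algebra.adjoin R t := ht ▸ Algebra.mem_top
  induction h using Algebra.adjoin_induction with
  | mem x hx => exact Ideal.subset_span ⟨x, hx, rfl⟩
  | algebraMap r => simp
  | add x y _ _ hx hy =>
    have : x + y - algebraMap R B (ε (x + y)) = (x - algebraMap R B (ε x)) + (y - algebraMap R B (ε y)) := by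
      rw [map_add, map_add]
      ring
    rw [this]
    exact Ideal.add_mem _ hx hy
  | mul x y _ _ hx hy =>
    have : x * y - algebraMap R B (ε (x * y)) =
        x * (y - algebraMap R B (ε y)) + algebraMap R B (ε y) * (x - algebraMap R B (ε x)) := by
      rw [map_mul, map_mul]
      ring
    rw [this]
    exact Ideal.add_mem _ (Ideal.mul_mem_left _ _ hy) (Ideal.mul_mem_left _ _ hx)

/-- the first order jet algebra is a finite module -/
theorem finite_jet [Algebra.FiniteType R B] (ε : B →ₐ[R] R) : Module.Finite R (B ⧸ (RingHom.ker ε) ^ (1 + 1)) := by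
  classical
  obtain ⟨t, ht⟩ := Algebra.FiniteType.out (R := R) (A := B)
  let q := jetPr ε 1
  let W : Submodule R (B ⧸ (RingHom.ker ε) ^ (1 + 1)) := Submodule.span R (insert 1 ((fun y => q y) '' (t : Set B)))
  have h1 : (1 : B ⧸ (RingHom.ker ε) ^ (1 + 1)) ∈ W := Submodule.subset_span (Set.mem_insert _ _)
  have hr : ∀ r : R, q (algebraMap R B r) ∈ W := fun r => by
    rw [AlgHom.commutes, Algebra.algebraMap_eq_smul_one]
    exact W.smul_mem r h1
  have key : ∀ b : B, q b ∈ W := by
    intro b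
    have h : b ∈ Algebra.adjoin R (t : Set B) := ht ▸ Algebra.mem_top
    induction h using Algebra.adjoin_induction with
    | mem x hx => exact Submodule.subset_span (Set.mem_insert_of_mem _ ⟨x, hx, rfl⟩)
    | algebraMap r => exact hr r
    | add x y _ _ hx hy =>
      rw [map_add]
      exact W.add_mem hx hy
    | mul x y _ _ hx hy =>
      have e : x * y = (x - algebraMap R B (ε x)) * (y - algebraMap R B (ε y)) + ε y • x + ε x • y -
          algebraMap R B (ε x * ε y) := by
        rw [Algebra.smul_def, Algebra.smul_def, map_mul]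
        ring
      have e0 : q ((x - algebraMap R B (ε x)) * (y - algebraMap R B (ε y))) = 0 := by
        refine Ideal.Quotient.eq_zero_iff_mem.mpr ?_
        rw [pow_succ, pow_one]
        have hk : ∀ z : B, z - algebraMap R B (ε z) ∈ RingHom.ker ε := fun z => by
          rw [RingHom.mem_ker, map_sub, AlgHom.commutes]
          exact sub_self _
        exact Ideal.mul_mem_mul (hk x) (hk y)
      rw [e, map_sub, map_add, map_add, e0, zero_add, map_smul, map_smul]
      exact W.sub_mem (W.add_mem (W.smul_mem _ hx) (W.smul_mem _ hy)) (hr _)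
  have hW : W = ⊤ := by
    rw [eq_top_iff]
    intro a _
    obtain ⟨b, rfl⟩ := jetPr_surjective ε 1 a
    exact key b
  exact ⟨⟨insert 1 (t.image q), by rw [← hW]; simp [W, q]⟩⟩

/-- a finite number of elements outside of a prime killing the homogeneous elements of nonzero degree -/
theorem exists_kill {A : Type u} [CommRing A] [Algebra R A] [Module.Finite R A] (C : Coact R A N) (𝔭 : PrimeSpectrum R)
    (h : ∀ (n : N) (b : A), n ≠ 0 → C.IsHom n b → (1 : 𝔭.asIdeal.ResidueField) ⊗ₜ[R] b = 0) :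
    ∃ f : R, f ∉ 𝔭.asIdeal ∧ ∀ (n : N) (b : A), n ≠ 0 → C.IsHom n b → f • b = 0 := by
  classical
  obtain ⟨t, ht⟩ := Module.Finite.fg_top (R := R) (M := A)
  let p : N → (A →ₗ[R] A) := fun n =>
    { toFun := fun b => C.comp n b
      map_add' := fun x y => GradTriv.comp_add C n x y
      map_smul' := fun r x => GradTriv.comp_smul C n r x }
  have hp : ∀ n a, p n a = C.comp n a := fun _ _ => rfl
  have h1 : ∀ n : N, n ≠ 0 → ∃ f : R, f ∉ 𝔭.asIdeal ∧ ∀ a, f • C.comp n a = 0 := by
    intro n hn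
    let M := LinearMap.range (p n)
    have h2 : 𝔭 ∉ Module.support R M := by
      rw [Module.mem_support_iff_nontrivial_residueField_tensorProduct, not_nontrivial_iff_subsingleton]
      have h3 : ∀ z : 𝔭.asIdeal.ResidueField ⊗[R] M, z = 0 := by
        intro z
        induction z with
        | zero => rfl
        | add x y hx hy => rw [hx, hy, add_zero]
        | tmul k x =>
          obtain ⟨_, a, rfl⟩ := x
          have h4 := h n (C.comp n a) hn (C.isHom_comp n a)
          have h5 := congrArg ((p n).rangeRestrict.lTensor 𝔭.asIdeal.ResidueField) h4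
          rw [LinearMap.lTensor_tmul, map_zero] at h5
          have h6 : (p n).rangeRestrict (C.comp n a) = (⟨p n a, a, rfl⟩ : M) :=
            Subtype.ext (C.comp_of_isHom (C.isHom_comp n a))
          rw [h6] at h5
          have h7 : k ⊗ₜ[R] (⟨p n a, a, rfl⟩ : M) = k • ((1 : 𝔭.asIdeal.ResidueField) ⊗ₜ[R] (⟨p n a, a, rfl⟩ : M)) := by
            rw [TensorProduct.smul_tmul', smul_eq_mul, _root_.mul_one]
          rw [h7, h5, smul_zero]
      exact ⟨fun x y => by rw [h3 x, h3 y]⟩
    rw [Module.mem_support_iff_of_finite, SetLike.not_le_iff_exists] at h2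
    obtain ⟨f, hf, hf'⟩ := h2
    refine ⟨f, hf', fun a => ?_⟩
    have h3 := congrArg Subtype.val (Module.mem_annihilator.mp hf ⟨p n a, a, rfl⟩)
    exact h3
  choose! f hf hf' using h1
  let D : Finset N := (t.biUnion fun y => C.degs y).erase 0
  refine ⟨∏ n ∈ D, f n, ?_, fun n b hn hb => ?_⟩
  · intro hmem
    obtain ⟨n, hn, hn'⟩ := (𝔭.isPrime.prod_mem_iff).mp hmem
    exact hf n (Finset.ne_of_mem_erase hn) hn'
  · rw [← C.comp_of_isHom hb]
    by_cases hnD : n ∈ D
    · rw [← Finset.mul_prod_erase D f hnD, mul_comm, mul_smul, hf' n hn, smul_zero]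
    · have h2 : Submodule.span R (t : Set A) ≤ LinearMap.ker (p n) := Submodule.span_le.mpr fun x hx =>
        C.comp_eq_zero_of_notMem fun h4 => hnD
          (Finset.mem_erase.mpr ⟨hn, Finset.mem_biUnion.mpr ⟨x, hx, h4⟩⟩)
      have h3 : C.comp n b = 0 := h2 (ht ▸ Submodule.mem_top)
      rw [h3, smul_zero]

/-- **if the action is trivial over the residue field of a prime `𝔭`, then it is trivial on the first infinitesimal
neighbourhood of the section over a neighbourhood of `𝔭`** -/
theorem exists_triv_away [Algebra.FiniteType R B] (hα : IsAct α) (j : DE R B ⟶ X) [IsOpenImmersion j.left]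
    (ε : B →ₐ[R] R)
    (hε : ∀ (T : Over (Spec (CommRingCat.of R))) (x : T ⟶ DE R R) (t : T ⟶ Red.DS (Spec (CommRingCat.of R)) N),
      lift (x ≫ deMap ε ≫ j) t ≫ α = x ≫ deMap ε ≫ j) (𝔭 : PrimeSpectrum R)
    (h𝔭 : ∀ (T : Over (Spec (CommRingCat.of R))) (_ : T ⟶ DE R 𝔭.asIdeal.ResidueField) (x : T ⟶ X)
      (t : T ⟶ Red.DS (Spec (CommRingCat.of R)) N), lift x t ≫ α = x) :
    ∃ f : R, f ∉ 𝔭.asIdeal ∧ ∀ (T : Over (Spec (CommRingCat.of R)))
      (_ : IsUnit (T.hom.appTop ((Scheme.ΓSpecIso (CommRingCat.of R)).inv f)))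
      (x : T ⟶ DE R (B ⧸ (RingHom.ker ε) ^ (1 + 1))) (t : T ⟶ Red.DS (Spec (CommRingCat.of R)) N),
      lift (x ≫ deMap (jetPr ε 1) ≫ j) t ≫ α = x ≫ deMap (jetPr ε 1) ≫ j := by
  obtain ⟨αA, hA, hA'⟩ := exists_jetAct hα j ε hε 1
  have hfin := finite_jet ε
  let A := B ⧸ (RingHom.ker ε) ^ (1 + 1)
  have hjm : Mono j := Over.mono_of_mono_left j
  have hpm : Mono (deMap (jetPr ε 1)) := mono_deMap _ (jetPr_surjective ε 1)
  have hm : Mono (deMap (jetPr ε 1) ≫ j) := inferInstance
  let K := 𝔭.asIdeal.ResidueField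
  obtain ⟨f, hf, h1⟩ := exists_kill (coact hA) 𝔭 fun n b hn hb => by
    refine map_eq_zero hA (Algebra.TensorProduct.includeRight : A →ₐ[R] K ⊗[R] A) (fun T x t => ?_) hn hb
    rw [← cancel_mono (deMap (jetPr ε 1) ≫ j), hA']
    have h2 := h𝔭 T (x ≫ deMap ((Algebra.TensorProduct.includeLeft : K →ₐ[R] K ⊗[R] A)))
      ((x ≫ deMap (Algebra.TensorProduct.includeRight : A →ₐ[R] K ⊗[R] A)) ≫ deMap (jetPr ε 1) ≫ j) t
    exact h2
  refine ⟨f, hf, fun T hT x t => ?_⟩
  rw [← hA', lift_act_eq hA x fun n b hn hb => ?_]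
  have h2 := congrArg (fn x) (h1 n b hn hb)
  rw [Algebra.smul_def, map_mul, fn_algebraMap, map_zero] at h2
  exact (hT.mul_right_eq_zero).mp h2

end jet

end K7.JetTriv
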